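import Cfsg.Prelude.Def_OddOrderLocal
import Mathlib.GroupTheory.PGroup
import Mathlib.Tactic.Group

/-!
Two generated subgroups and metacyclic groups: closure under subgroups, quotients and images, and
the bound on commuting involutions.
-/

set_option autoImplicit false

namespace Cfsg.Agent.Bicyclic2

variable {G : Type*} [Group G]

/-- `H` is generated by two elements. -/
def Gen2 (H : Subgroup G) : Prop := ∃ u v : G, Subgroup.closure {u, v} = H

theorem Gen2.map {G' : Type*} [Group G'] {H : Subgroup G} (h : Gen2 H) (f : G →* G') :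
    Gen2 (H.map f) := by
  obtain ⟨u, v, rfl⟩ := h
  exact ⟨f u, f v, by rw [MonoidHom.map_closure, Set.image_pair]⟩

theorem isMetacyclic_subgroup (h : Cfsg.IsMetacyclic G) (H : Subgroup G) :
    Cfsg.IsMetacyclic ↥H := by
  obtain ⟨N, hN, hc, hq⟩ := h
  let f : H →* G ⧸ N := (QuotientGroup.mk' N).comp H.subtype
  refine ⟨f.ker, inferInstance, ?_, ?_⟩
  · let i : f.ker →* N := (H.subtype.comp f.ker.subtype).codRestrict N
      fun x => (QuotientGroup.eq_one_iff _).1 x.2
    exact isCyclic_of_injective i fun a b h =>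
      Subtype.ext (Subtype.ext (congrArg Subtype.val h :))
  · exact isCyclic_of_injective (QuotientGroup.kerLift f) (QuotientGroup.kerLift_injective f)

theorem isMetacyclic_of_surjective {G' : Type*} [Group G'] (h : Cfsg.IsMetacyclic G) (f : G →* G')
    (hf : Function.Surjective f) : Cfsg.IsMetacyclic G' := by
  obtain ⟨N, hN, hc, hq⟩ := h
  have hn : (N.map f).Normal := hN.map f hf
  refine ⟨N.map f, hn, isCyclic_of_surjective (f.subgroupMap N) (f.subgroupMap_surjective N), ?_⟩
  refine isCyclic_of_surjective (QuotientGroup.map N (N.map f) f (Subgroup.le_comap_map f N)) ?_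
  intro q
  obtain ⟨x, rfl⟩ := QuotientGroup.mk_surjective q
  obtain ⟨g, rfl⟩ := hf x
  exact ⟨g, rfl⟩

theorem isMetacyclic_of_le {H K : Subgroup G} (hK : Cfsg.IsMetacyclic ↥K) (hHK : H ≤ K) :
    Cfsg.IsMetacyclic ↥H :=
  isMetacyclic_of_surjective (isMetacyclic_subgroup hK (H.subgroupOf K))
    (Subgroup.subgroupOfEquivOfLe hHK).toMonoidHom (Subgroup.subgroupOfEquivOfLe hHK).surjective

/-- A cyclic normal subgroup `⟨g⟩` such that `⟨g, h⟩ = ⊤`. -/
theorem isMetacyclic_of_zpowers {g h : G} (hn : (Subgroup.zpowers g).Normal)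
    (hgen : Subgroup.closure {g, h} = ⊤) : Cfsg.IsMetacyclic G := by
  refine ⟨Subgroup.zpowers g, hn, inferInstance, ⟨⟨QuotientGroup.mk h, fun q => ?_⟩⟩⟩
  induction q using QuotientGroup.induction_on with
  | H a =>
    have hle : Subgroup.closure {g, h} ≤ (Subgroup.zpowers (QuotientGroup.mk' (Subgroup.zpowers g) h)).comap
        (QuotientGroup.mk' (Subgroup.zpowers g)) := by
      rw [Subgroup.closure_le]
      rintro x (hx | hx) <;> rw [hx, SetLike.mem_coe, Subgroup.mem_comap]
      · rw [show QuotientGroup.mk' (Subgroup.zpowers g) g = 1 from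
          (QuotientGroup.eq_one_iff g).2 (Subgroup.mem_zpowers g)]
        exact one_mem _
      · exact Subgroup.mem_zpowers _
    exact hle (hgen ▸ Subgroup.mem_top a)

/-- An abelian group with two generators is metacyclic. -/
theorem isMetacyclic_of_comm (hab : ∀ x y : G, x * y = y * x) (h : Gen2 (⊤ : Subgroup G)) :
    Cfsg.IsMetacyclic G := by
  obtain ⟨u, v, huv⟩ := h
  exact isMetacyclic_of_zpowers
    ⟨fun n hn g => by rwa [hab g n, mul_inv_cancel_right]⟩ huv

theorem gen2_top_of_metacyclic (h : Cfsg.IsMetacyclic G) : Gen2 (⊤ : Subgroup G) := by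
  obtain ⟨N, hN, hc, hq⟩ := h
  obtain ⟨⟨u, hu⟩, hgu⟩ := hc.exists_generator
  obtain ⟨q, hgq⟩ := hq.exists_generator
  obtain ⟨v, rfl⟩ := QuotientGroup.mk_surjective q
  refine ⟨u, v, eq_top_iff.2 fun g _ => ?_⟩
  obtain ⟨i, hi⟩ := Subgroup.mem_zpowers_iff.1 (hgq (g : G ⧸ N))
  rw [← QuotientGroup.mk_zpow, QuotientGroup.eq] at hi
  obtain ⟨j, hj⟩ := Subgroup.mem_zpowers_iff.1 (hgu ⟨_, hi⟩)
  have hj' : u ^ j = (v ^ i)⁻¹ * g := congrArg Subtype.val hj
  have hg : g = v ^ i * u ^ j := by rw [hj', mul_inv_cancel_left]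
  rw [hg]
  exact mul_mem (zpow_mem (Subgroup.subset_closure (by simp)) i)
    (zpow_mem (Subgroup.subset_closure (by simp)) j)

theorem gen2_of_top {H : Subgroup G} (h : Gen2 (⊤ : Subgroup ↥H)) : Gen2 H := by
  have := h.map H.subtype
  rwa [← MonoidHom.range_eq_map, Subgroup.range_subtype] at this

theorem top_of_gen2 {H : Subgroup G} (h : Gen2 H) : Gen2 (⊤ : Subgroup ↥H) := by
  obtain ⟨u, v, huv⟩ := h
  have hu : u ∈ H := huv ▸ Subgroup.subset_closure (by simp)
  have hv : v ∈ H := huv ▸ Subgroup.subset_closure (by simp)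
  refine ⟨⟨u, hu⟩, ⟨v, hv⟩, ?_⟩
  apply Subgroup.map_injective H.subtype_injective
  rw [MonoidHom.map_closure, Set.image_pair, ← MonoidHom.range_eq_map, Subgroup.range_subtype]
  exact huv

theorem gen2_of_metacyclic {H : Subgroup G} (h : Cfsg.IsMetacyclic ↥H) : Gen2 H :=
  gen2_of_top (gen2_top_of_metacyclic h)

/-- In a metacyclic subgroup there are at most two independent commuting involutions. -/
theorem four_mem {H : Subgroup G} (h : Cfsg.IsMetacyclic ↥H) {u v w : G} (hu : u ∈ H) (hv : v ∈ H)
    (hw : w ∈ H) (hu2 : u * u = 1) (hv2 : v * v = 1) (hw2 : w * w = 1) (huv : Commute u v)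
    (huw : Commute u w) (hvw : Commute v w) (hu1 : u ≠ 1) (hv1 : v ≠ 1) (hne : u ≠ v) :
    w = 1 ∨ w = u ∨ w = v ∨ w = u * v := by
  classical
  set A := Subgroup.closure ({u, v, w} : Set G) with hA
  have hAH : A ≤ H := (Subgroup.closure_le _).2 (by
    rintro x (rfl | rfl | rfl) <;> assumption)
  have hcomm : IsMulCommutative A := Subgroup.isMulCommutative_closure (by
    rintro x (rfl | rfl | rfl) y (rfl | rfl | rfl) <;>
      first
        | rfl
        | exact huv | exact huv.symm | exact huw | exact huw.symm | exact hvw | exact hvw.symm)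
  have hsq : ∀ a ∈ A, a * a = 1 := by
    intro a ha
    induction ha using Subgroup.closure_induction with
    | mem x hx => rcases hx with rfl | rfl | rfl <;> assumption
    | one => simp
    | mul x y hx hy ihx ihy =>
      have hxy : x * y = y * x := congrArg Subtype.val (hcomm.is_comm.comm ⟨x, hx⟩ ⟨y, hy⟩)
      calc x * y * (x * y) = x * y * (y * x) := by rw [hxy]
        _ = 1 := by rw [mul_assoc, ← mul_assoc y, ihy, one_mul, ihx]
    | inv x _ ihx => rw [← mul_inv_rev, ihx, inv_one]
  obtain ⟨p, q, hpq⟩ := gen2_of_metacyclic (isMetacyclic_of_le h hAH)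
  have hp : p ∈ A := hpq ▸ Subgroup.subset_closure (by simp)
  have hq : q ∈ A := hpq ▸ Subgroup.subset_closure (by simp)
  have hqp : q * p = p * q := congrArg Subtype.val (hcomm.is_comm.comm ⟨q, hq⟩ ⟨p, hp⟩)
  have hpp := hsq p hp
  have hqq := hsq q hq
  let T : Finset G := {1, p, q, p * q}
  have hT : ∀ a ∈ A, a ∈ T := by
    intro a ha
    rw [← hpq] at ha
    induction ha using Subgroup.closure_induction_left with
    | one => simp [T]
    | mul_left x hx y _ ih =>
      simp only [T, Finset.mem_insert, Finset.mem_singleton] at ih ⊢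
      rcases hx with rfl | rfl <;> rcases ih with rfl | rfl | rfl | rfl
      all_goals simp [hpp, hqq, hqp, ← mul_assoc]
      all_goals simp [mul_assoc, hqq, hpp]
    | inv_mul_cancel x hx y _ ih =>
      have hxx : x⁻¹ = x := by
        rcases hx with rfl | rfl
        · exact inv_eq_of_mul_eq_one_right hpp
        · exact inv_eq_of_mul_eq_one_right hqq
      simp only [T, Finset.mem_insert, Finset.mem_singleton] at ih ⊢
      rw [hxx]
      rcases hx with rfl | rfl <;> rcases ih with rfl | rfl | rfl | rfl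
      all_goals simp [hpp, hqq, hqp, ← mul_assoc]
      all_goals simp [mul_assoc, hqq, hpp]
  by_contra hcon
  simp only [not_or] at hcon
  obtain ⟨h1, h2, h3, h4⟩ := hcon
  have huv1 : u * v ≠ 1 := fun e => hne (mul_right_cancel (e.trans hv2.symm))
  have hsub : ({1, u, v, u * v, w} : Finset G) ⊆ T := by
    intro x hx
    simp only [Finset.mem_insert, Finset.mem_singleton] at hx
    refine hT x ?_
    rcases hx with rfl | rfl | rfl | rfl | rfl
    exacts [one_mem A, Subgroup.subset_closure (by simp), Subgroup.subset_closure (by simp),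
      mul_mem (Subgroup.subset_closure (by simp)) (Subgroup.subset_closure (by simp)),
      Subgroup.subset_closure (by simp)]
  have h5 : ({1, u, v, u * v, w} : Finset G).card = 5 := by
    rw [Finset.card_insert_of_notMem, Finset.card_insert_of_notMem, Finset.card_insert_of_notMem,
      Finset.card_insert_of_notMem, Finset.card_singleton] <;>
      simp_all [eq_comm, mul_eq_left, mul_eq_right]
  have := Finset.card_le_card hsub
  have h4' : T.card ≤ 4 := Finset.card_le_four
  omega

/-- The same bound for an abelian two generated subgroup. -/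
theorem four_mem_of_gen2 {H : Subgroup G} (hab : ∀ x ∈ H, ∀ y ∈ H, x * y = y * x) (h : Gen2 H)
    {u v w : G} (hu : u ∈ H) (hv : v ∈ H) (hw : w ∈ H) (hu2 : u * u = 1) (hv2 : v * v = 1)
    (hw2 : w * w = 1) (hu1 : u ≠ 1) (hv1 : v ≠ 1) (hne : u ≠ v) :
    w = 1 ∨ w = u ∨ w = v ∨ w = u * v :=
  four_mem (isMetacyclic_of_comm (fun x y => Subtype.ext (hab _ x.2 _ y.2)) (top_of_gen2 h))
    hu hv hw hu2 hv2 hw2 (hab _ hu _ hv) (hab _ hu _ hw) (hab _ hv _ hw) hu1 hv1 hne

end Cfsg.Agent.Bicyclic2
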