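import Cfsg.Agent.Lib.Bicyclic2.Omega

/-!
A two generated 2-group with abelian metacyclic commutator subgroup, and a self centralizing
subgroup whose normalizer moves an involution (or an element of order four of a quaternion
subgroup) by an element outside it, has cyclic commutator subgroup.
-/

set_option autoImplicit false

namespace Cfsg.Agent.Bicyclic2

open scoped commutatorElement
open Cfsg.Agent

variable {G : Type*} [Group G] [Finite G]

theorem commutator_mem' (x y : G) : ⁅x, y⁆ ∈ commutator G :=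
  Subgroup.commutator_mem_commutator (Subgroup.mem_top x) (Subgroup.mem_top y)

/-- The commutator subgroup of a two generated group is the least normal subgroup containing the
commutator of the generators. -/
theorem commutator_le_of_mem {a b : G} (hgen : Subgroup.closure {a, b} = ⊤) {D : Subgroup G}
    [D.Normal] (h : ⁅a, b⁆ ∈ D) : commutator G ≤ D := by
  set π := QuotientGroup.mk' D with hπ
  have hab : Commute (π a) (π b) := by
    have h1 : π ⁅a, b⁆ = 1 := (QuotientGroup.eq_one_iff _).2 h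
    rwa [map_commutatorElement, commutatorElement_eq_one_iff_mul_comm] at h1
  have hc : IsMulCommutative (Subgroup.closure ({π a, π b} : Set (G ⧸ D))) :=
    Subgroup.isMulCommutative_closure (by
      rintro x (rfl | rfl) y (rfl | rfl) <;> first | rfl | exact hab.eq | exact hab.eq.symm)
  have htop : ∀ x : G ⧸ D, x ∈ Subgroup.closure ({π a, π b} : Set (G ⧸ D)) := fun x => by
    rw [← Set.image_pair π, closure_image_top π (QuotientGroup.mk'_surjective _) hgen]
    exact Subgroup.mem_top x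
  rw [_root_.commutator_def, Subgroup.commutator_le]
  intro x _ y _
  rw [← QuotientGroup.eq_one_iff, ← QuotientGroup.mk'_apply, map_commutatorElement,
    commutatorElement_eq_one_iff_mul_comm]
  exact congrArg Subtype.val (hc.is_comm.comm ⟨_, htop (π x)⟩ ⟨_, htop (π y)⟩)

/-- A normal subgroup inside the commutator subgroup, which it generates with squares. -/
theorem commutator_eq_of_sq (hG : IsPGroup 2 G) {a b : G} (hgen : Subgroup.closure {a, b} = ⊤)
    {v : G} (hv : v ∈ commutator G) (D : Subgroup G) [D.Normal] (hc : ⁅a, b⁆ ∈ D)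
    (hD : ∀ d ∈ D, ∃ (i : ℤ) (s : G), s ∈ commutator G ∧ d = v ^ i * (s * s)) :
    IsCyclic ↥(commutator G) := by
  haveI : Fact (Nat.Prime 2) := ⟨Nat.prime_two⟩
  have hle := commutator_le_of_mem hgen hc
  have htop : Subgroup.zpowers (⟨v, hv⟩ : commutator G) = ⊤ := by
    refine frattini_nongenerating (eq_top_iff.2 fun d _ => ?_)
    obtain ⟨i, s, hs, hd⟩ := hD d (hle d.2)
    have h1 : d = (⟨v, hv⟩ : commutator G) ^ i * (⟨s, hs⟩ * ⟨s, hs⟩) := Subtype.ext hd
    rw [h1]
    exact mul_mem (Subgroup.mem_sup_left (Subgroup.zpow_mem_zpowers _ i))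
      (Subgroup.mem_sup_right (sq_mem_frattini (hG.to_subgroup _) _))
  exact ⟨⟨⟨v, hv⟩, fun d => htop.ge (Subgroup.mem_top d)⟩⟩

/-- The involution case. -/
theorem cyclic_of_involution_case (hG : IsPGroup 2 G)
    (hab : ∀ p ∈ commutator G, ∀ q ∈ commutator G, p * q = q * p)
    (hm : Cfsg.IsMetacyclic ↥(commutator G)) {a b g x : G} (hgen : Subgroup.closure {a, b} = ⊤)
    {R : Subgroup G} (hb2 : b * b = 1) (hbR : b ∈ R) (hxR : x ∈ R)
    (hRab : ∀ p ∈ R, ∀ q ∈ R, p * q = q * p) (hC : Subgroup.centralizer (R : Set G) ≤ R)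
    (hgN : g ∈ Subgroup.normalizer (R : Set G))
    (hN : ∀ h ∈ Subgroup.normalizer (R : Set G), h ∈ R ∨ g⁻¹ * h ∈ R)
    (hx : g * b * g⁻¹ = x * b) (hx1 : x ≠ 1) : IsCyclic ↥(commutator G) := by
  classical
  haveI : Fact (Nat.Prime 2) := ⟨Nat.prime_two⟩
  have hbinv : b⁻¹ = b := inv_eq_of_mul_eq_one_right hb2
  have hgRb : ∀ h, g⁻¹ * h ∈ R → h * b * h⁻¹ = x * b := by
    intro h hh
    have h1 : (g⁻¹ * h) * b * (g⁻¹ * h)⁻¹ = b := by rw [hRab _ hh _ hbR, mul_inv_cancel_right]
    calc h * b * h⁻¹ = g * ((g⁻¹ * h) * b * (g⁻¹ * h)⁻¹) * g⁻¹ := by group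
      _ = x * b := by rw [h1, hx]
  -- the centralizer of `b`
  set C := Subgroup.centralizer ({b} : Set G) with hCdef
  have hRC : R ≤ C := fun r hr => Subgroup.mem_centralizer_singleton_iff.2 (hRab r hr b hbR)
  have hCR : C = R := by
    by_contra hne
    have hlt : R.subgroupOf C < ⊤ := lt_top_iff_ne_top.2 fun h =>
      hne (le_antisymm (Subgroup.subgroupOf_eq_top.1 h) hRC)
    haveI : Group.IsNilpotent ↥C := (hG.to_subgroup C).isNilpotent
    obtain ⟨⟨h, hhC⟩, hhN, hh⟩ := SetLike.exists_of_lt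
      (Group.normalizerCondition_of_isNilpotent _ hlt)
    have hhN' : h ∈ Subgroup.normalizer (R : Set G) := by
      refine Subgroup.mem_normalizer_iff.2 fun y => ?_
      by_cases hy : y ∈ C
      · exact Subgroup.mem_normalizer_iff.1 hhN ⟨y, hy⟩
      · refine iff_of_false (fun hyR => hy (hRC hyR)) fun hyR => hy ?_
        have h1 := mul_mem (mul_mem (inv_mem hhC) (hRC hyR)) hhC
        simpa [mul_assoc] using h1
    rcases hN h hhN' with h1 | h1
    · exact hh h1
    · have h2 := hgRb h h1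
      rw [Subgroup.mem_centralizer_singleton_iff.1 hhC, mul_inv_cancel_right] at h2
      exact hx1 (mul_eq_right.1 h2.symm)
  have hnorm : ∀ h, h * b * h⁻¹ ∈ R → h ∈ Subgroup.normalizer (R : Set G) := by
    intro h hh
    rw [Subgroup.mem_normalizer_iff_map_conj_eq]
    refine (Subgroup.eq_of_le_of_card_ge ?_
      (Subgroup.card_map_of_injective (MulAut.conj h).injective).le).symm
    intro r hr
    have hr' : h⁻¹ * r * h ∈ C := by
      refine Subgroup.mem_centralizer_singleton_iff.2 ?_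
      calc h⁻¹ * r * h * b = h⁻¹ * (r * (h * b * h⁻¹)) * h := by group
        _ = h⁻¹ * ((h * b * h⁻¹) * r) * h := by rw [hRab r hr _ hh]
        _ = b * (h⁻¹ * r * h) := by group
    rw [hCR] at hr'
    exact ⟨_, hr', by simp [mul_assoc]⟩
  -- `b` inverts the commutator subgroup
  set D := commutator G with hD
  let I : Subgroup G :=
    { carrier := {d | d ∈ D ∧ b * d * b⁻¹ = d⁻¹}
      one_mem' := ⟨one_mem _, by simp⟩
      mul_mem' := by
        rintro p q ⟨hp, hp'⟩ ⟨hq, hq'⟩
        refine ⟨mul_mem hp hq, ?_⟩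
        calc b * (p * q) * b⁻¹ = b * p * b⁻¹ * (b * q * b⁻¹) := by group
          _ = (p * q)⁻¹ := by rw [hp', hq', ← mul_inv_rev, hab q hq p hp]
      inv_mem' := by
        rintro p ⟨hp, hp'⟩
        exact ⟨inv_mem hp, by rw [← conj_inv, hp']⟩ }
  have hbasic : ∀ h : G, ⁅h, b⁆ ∈ I := fun h => by
    refine ⟨commutator_mem' h b, ?_⟩
    rw [commutatorElement_def, hbinv]
    calc b * (h * b * h⁻¹ * b) * b = b * h * b * h⁻¹ * (b * b) := by group
      _ = (h * b * h⁻¹ * b)⁻¹ := by
        rw [hb2, mul_one, mul_inv_rev, mul_inv_rev, mul_inv_rev, inv_inv, hbinv]; group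
  set I' := Subgroup.closure {d | ∃ h : G, d = ⁅h, b⁆} with hI'
  have hI'I : I' ≤ I := (Subgroup.closure_le _).2 (by rintro d ⟨h, rfl⟩; exact hbasic h)
  haveI : I'.Normal := by
    refine ⟨fun d hd g' => ?_⟩
    induction hd using Subgroup.closure_induction with
    | mem d hd =>
      obtain ⟨h, rfl⟩ := hd
      have h1 : g' * ⁅h, b⁆ * g'⁻¹ = ⁅g' * h, b⁆ * ⁅g', b⁆⁻¹ := by
        rw [commutatorElement_def, commutatorElement_def, commutatorElement_def]; group
      rw [h1]
      exact mul_mem (Subgroup.subset_closure ⟨_, rfl⟩) (inv_mem (Subgroup.subset_closure ⟨_, rfl⟩))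
    | one => simp
    | mul p q _ _ hp hq =>
      rw [show g' * (p * q) * g'⁻¹ = (g' * p * g'⁻¹) * (g' * q * g'⁻¹) by group]
      exact mul_mem hp hq
    | inv p _ hp => rw [← conj_inv]; exact inv_mem hp
  have hinv : ∀ d ∈ D, b * d * b⁻¹ = d⁻¹ := fun d hd =>
    (hI'I (commutator_le_of_mem (D := I') hgen (Subgroup.subset_closure ⟨a, rfl⟩) hd)).2
  -- conjugation of `b` by the commutator subgroup
  have hconjb : ∀ s ∈ D, s * b * s⁻¹ = s * s * b := by
    intro s hs
    have h1 := hinv s hs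
    calc s * b * s⁻¹ = s * (b * s⁻¹ * b⁻¹) * b := by group
      _ = s * s * b := by rw [← conj_inv, h1, inv_inv]
  have hV : ∀ v ∈ D, v * v = 1 → v ∈ R := by
    intro v hv hv2
    rw [← hCR]
    refine Subgroup.mem_centralizer_singleton_iff.2 ?_
    have h1 := hconjb v hv
    rw [hv2, one_mul] at h1
    exact mul_inv_eq_iff_eq_mul.1 h1
  have hfour : ∀ s ∈ D, s * s * (s * s) = 1 → s * s = 1 ∨ s * s = x := by
    intro s hs hs4
    have hsR : s * s * b ∈ R := mul_mem (hV _ (mul_mem hs hs) hs4) hbR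
    have hsN := hnorm s (by rw [hconjb s hs]; exact hsR)
    rcases hN s hsN with h | h
    · left
      have h1 := hconjb s hs
      rw [hRab s h b hbR, mul_inv_cancel_right] at h1
      exact mul_eq_right.1 h1.symm
    · right
      have h1 := hgRb s h
      rw [hconjb s hs] at h1
      exact mul_right_cancel h1
  have habd : ∀ p q : ↥D, p * q = q * p := fun p q => Subtype.ext (hab p p.2 q q.2)
  -- reduction to two involutions
  by_cases hone : ∀ v ∈ D, v * v = 1 → v = 1 ∨ v = x
  · by_cases hxD : x ∈ D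
    · exact isCyclic_of_involution (hG.to_subgroup D) habd (z := (⟨x, hxD⟩ : ↥D)) fun v hv =>
        (hone v v.2 (congrArg Subtype.val hv :)).imp (fun h => Subtype.ext h) fun h => Subtype.ext h
    · exact isCyclic_of_involution (hG.to_subgroup D) habd (z := (1 : ↥D)) fun v hv =>
        (hone v v.2 (congrArg Subtype.val hv :)).elim (fun h => Or.inl (Subtype.ext h))
          fun h => absurd (h ▸ v.2) hxD
  push Not at hone
  obtain ⟨v, hvD, hv2, hv1, hvx⟩ := hone
  set c := ⁅a, b⁆ with hc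
  set c1 := a * c * a⁻¹ with hc1
  have hcD : c ∈ D := commutator_mem' a b
  have hc1D : c1 ∈ D := (inferInstance : D.Normal).conj_mem c hcD a
  have ha2b : a * a * b * (a * a)⁻¹ = c1 * c * b := by
    rw [hc1, hc, commutatorElement_def, hbinv]
    calc a * a * b * (a * a)⁻¹ = a * (a * b * a⁻¹ * (b * b)) * a⁻¹ := by rw [hb2]; group
      _ = a * (a * b * a⁻¹ * b) * a⁻¹ * (a * b * a⁻¹) := by group
      _ = _ := by
        calc a * (a * b * a⁻¹ * b) * a⁻¹ * (a * b * a⁻¹)
            = a * (a * b * a⁻¹ * b) * a⁻¹ * (a * b * a⁻¹ * (b * b)) := by rw [hb2, mul_one]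
          _ = _ := by group
  by_cases hd : ∃ s ∈ D, c1 * c = s * s
  · -- a cyclic image modulo squares
    obtain ⟨s, hs, hss⟩ := hd
    haveI : (Subgroup.closure ({c} ∪ {d | ∃ t ∈ D, d = t * t})).Normal := by
      refine ⟨fun d hd g' => ?_⟩
      set J := Subgroup.closure ({c} ∪ {d | ∃ t ∈ D, d = t * t}) with hJ
      have hsqJ : ∀ t ∈ D, t * t ∈ J := fun t ht => Subgroup.subset_closure (Or.inr ⟨t, ht, rfl⟩)
      have hcJ : c ∈ J := Subgroup.subset_closure (Or.inl rfl)
      have hgn : g' ∈ Subgroup.normalizer (J : Set G) := by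
        have hall : (⊤ : Subgroup G) ≤ Subgroup.normalizer (J : Set G) := by
          rw [← hgen, Subgroup.closure_le]
          intro t ht
          rw [SetLike.mem_coe, Subgroup.mem_normalizer_iff_map_conj_eq]
          refine Subgroup.eq_of_le_of_card_ge ?_
            (Subgroup.card_map_of_injective (MulAut.conj t).injective).ge
          rw [hJ, MonoidHom.map_closure, Subgroup.closure_le]
          rintro _ ⟨y, hy | ⟨w, hw, rfl⟩, rfl⟩
          · rcases hy with rfl
            rcases ht with rfl | rfl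
            · show t * c * t⁻¹ ∈ J
              have h1 : t * c * t⁻¹ = s * s * c⁻¹ := by rw [← hss, hc1]; group
              rw [h1]
              exact mul_mem (hsqJ s hs) (inv_mem hcJ)
            · show t * c * t⁻¹ ∈ J
              rw [hinv c hcD]
              exact inv_mem hcJ
          · show t * (w * w) * t⁻¹ ∈ J
            rw [show t * (w * w) * t⁻¹ = (t * w * t⁻¹) * (t * w * t⁻¹) by group]
            exact hsqJ _ ((inferInstance : D.Normal).conj_mem w hw t)
        exact hall (Subgroup.mem_top g')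
      exact (Subgroup.mem_normalizer_iff.1 hgn d).1 hd
    refine commutator_eq_of_sq hG hgen hcD (Subgroup.closure ({c} ∪ {d | ∃ t ∈ D, d = t * t}))
      (Subgroup.subset_closure (Or.inl rfl)) fun d hd => ?_
    induction hd using Subgroup.closure_induction with
    | mem d hd =>
      rcases hd with rfl | ⟨t, ht, rfl⟩
      · exact ⟨1, 1, one_mem _, by simp⟩
      · exact ⟨0, t, ht, by simp⟩
    | one => exact ⟨0, 1, one_mem _, by simp⟩
    | mul p q _ _ hp hq =>
      obtain ⟨i, t, ht, rfl⟩ := hp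
      obtain ⟨j, u, hu, rfl⟩ := hq
      refine ⟨i + j, t * u, mul_mem ht hu, ?_⟩
      have h1 : ∀ p ∈ D, ∀ q ∈ D, p * q = q * p := hab
      calc c ^ i * (t * t) * (c ^ j * (u * u))
          = c ^ i * ((t * t) * c ^ j) * (u * u) := by group
        _ = c ^ i * (c ^ j * (t * t)) * (u * u) := by
            rw [h1 _ (mul_mem ht ht) _ (zpow_mem hcD j)]
        _ = c ^ (i + j) * (t * (t * u) * u) := by rw [zpow_add]; group
        _ = _ := by rw [h1 t ht _ (mul_mem ht hu)]; group
    | inv p _ hp =>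
      obtain ⟨i, t, ht, rfl⟩ := hp
      refine ⟨-i, t⁻¹, inv_mem ht, ?_⟩
      rw [mul_inv_rev, mul_inv_rev, zpow_neg]
      exact hab _ (mul_mem (inv_mem ht) (inv_mem ht)) _ (inv_mem (zpow_mem hcD i))
  -- the square map on the commutator subgroup
  exfalso
  push Not at hd
  by_cases hexp : ∀ s ∈ D, s * s = 1
  · -- then `R` is normal of index two
    have hconjR : ∀ h : G, h * b * h⁻¹ ∈ R := fun h => by
      have h1 : h * b * h⁻¹ = ⁅h, b⁆ * b := by rw [commutatorElement_def]; group
      rw [h1]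
      exact mul_mem (hV _ (commutator_mem' h b) (hexp _ (commutator_mem' h b))) hbR
    have haR : a ∉ R := by
      intro haR
      have hle : (⊤ : Subgroup G) ≤ R := by
        rw [← hgen, Subgroup.closure_le]
        rintro t (rfl | rfl) <;> assumption
      have h1 := hx
      rw [hRab g (hle (Subgroup.mem_top g)) b hbR, mul_inv_cancel_right] at h1
      exact hx1 (mul_eq_right.1 h1.symm)
    have hgaR : g⁻¹ * a ∈ R := (hN a (hnorm a (hconjR a))).resolve_left haR
    have ha2R : a * a ∈ R := by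
      rcases hN (a * a) (hnorm _ (hconjR _)) with h | h
      · exact h
      · exfalso
        apply haR
        have h2 : a = (g⁻¹ * a)⁻¹ * (g⁻¹ * (a * a)) := by group
        rw [h2]
        exact mul_mem (inv_mem hgaR) h
    have h1 := ha2b
    rw [hRab _ ha2R b hbR, mul_inv_cancel_right] at h1
    exact hd 1 (one_mem _) (by rw [mul_one]; exact mul_eq_right.1 h1.symm)
  push Not at hexp
  obtain ⟨s₀, hs₀, hs₀2⟩ := hexp
  -- the involution `x` is a square
  obtain ⟨t, htD, htx⟩ : ∃ t ∈ D, t * t = x := by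
    obtain ⟨n, hn⟩ := hG s₀
    suffices H : ∀ n : ℕ, ∀ s ∈ D, s ^ 2 ^ n = 1 → s * s ≠ 1 → ∃ t ∈ D, t * t = x from
      H n s₀ hs₀ hn hs₀2
    intro n
    induction n with
    | zero => intro s _ h h'; rw [pow_zero, pow_one] at h; exact absurd (by rw [h, mul_one]) h'
    | succ n ih =>
      intro s hs h h'
      by_cases h4 : s * s * (s * s) = 1
      · exact ⟨s, hs, (hfour s hs h4).resolve_left h'⟩
      · exact ih (s * s) (mul_mem hs hs) (by rw [← pow_two, ← pow_mul, ← pow_succ']; exact h) h4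
  have hxD : x ∈ D := htx ▸ mul_mem htD htD
  have hx2 : x * x = 1 := by
    have h1 : (x * b) * (x * b) = 1 := by
      rw [← hx]
      calc g * b * g⁻¹ * (g * b * g⁻¹) = g * (b * b) * g⁻¹ := by group
        _ = 1 := by rw [hb2]; group
    calc x * x = x * x * (b * b) := by rw [hb2, mul_one]
      _ = x * (x * b) * b := by group
      _ = x * (b * x) * b := by rw [hRab x hxR b hbR]
      _ = (x * b) * (x * b) := by group
      _ = 1 := h1
  have hker : ∀ w ∈ D, w * w = 1 → w = 1 ∨ w = x ∨ w = v ∨ w = x * v := fun w hw hw2 =>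
    four_mem hm hxD hvD hw hx2 hv2 hw2 (hab _ hxD _ hvD) (hab _ hxD _ hw) (hab _ hvD _ hw) hx1 hv1
      (Ne.symm hvx)
  -- the subgroup `J` of squares and their multiples by `v`
  let Y : Subgroup G :=
    { carrier := {d | ∃ s ∈ D, d = s * s}
      one_mem' := ⟨1, one_mem _, by simp⟩
      mul_mem' := by
        rintro p q ⟨s, hs, rfl⟩ ⟨u, hu, rfl⟩
        refine ⟨s * u, mul_mem hs hu, ?_⟩
        calc s * s * (u * u) = s * (s * u) * u := by group
          _ = _ := by rw [hab s hs _ (mul_mem hs hu)]; group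
      inv_mem' := by
        rintro p ⟨s, hs, rfl⟩
        exact ⟨s⁻¹, inv_mem hs, by group⟩ }
  have hxY : x ∈ Y := ⟨t, htD, htx.symm⟩
  have hvY : v ∉ Y := by
    rintro ⟨s, hs, rfl⟩
    rcases hfour s hs hv2 with h | h
    · exact hv1 h
    · exact hvx h
  have hYD : Y ≤ D := by rintro _ ⟨s, hs, rfl⟩; exact mul_mem hs hs
  have hvinv : v⁻¹ = v := inv_eq_of_mul_eq_one_right hv2
  let J : Subgroup G :=
    { carrier := {d | d ∈ Y ∨ v * d ∈ Y}
      one_mem' := Or.inl (one_mem _)
      mul_mem' := by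
        rintro p q hp hq
        rcases hp with hp | hp <;> rcases hq with hq | hq
        · exact Or.inl (mul_mem hp hq)
        · refine Or.inr ?_
          rw [← mul_assoc, hab v hvD p (hYD hp), mul_assoc]
          exact mul_mem hp hq
        · exact Or.inr (by rw [← mul_assoc]; exact mul_mem hp hq)
        · refine Or.inl ?_
          have hpD : p ∈ D := by simpa using mul_mem (inv_mem hvD) (hYD hp)
          have h2 : p * q = (v * p) * (v * q) := by
            calc p * q = (v * v) * p * q := by rw [hv2, one_mul]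
              _ = v * (v * p) * q := by group
              _ = v * (p * v) * q := by rw [hab v hvD p hpD]
              _ = (v * p) * (v * q) := by group
          rw [h2]
          exact mul_mem hp hq
      inv_mem' := by
        rintro p (hp | hp)
        · exact Or.inl (inv_mem hp)
        · refine Or.inr ?_
          have hpD : p ∈ D := by simpa using mul_mem (inv_mem hvD) (hYD hp)
          have h2 : v * p⁻¹ = (v * p)⁻¹ := by
            rw [mul_inv_rev, hvinv, hab p⁻¹ (inv_mem hpD) v hvD]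
          rw [h2]
          exact inv_mem hp }
  have hJD : J ≤ D := by
    rintro p (hp | hp)
    · exact hYD hp
    · simpa using mul_mem (inv_mem hvD) (hYD hp)
  have hvJ : v ∈ J := Or.inr (by rw [hv2]; exact one_mem _)
  have hYJ : Y ≤ J := fun p hp => Or.inl hp
  haveI hJn : J.Normal := by
    have hY : ∀ p ∈ Y, ∀ g', g' * p * g'⁻¹ ∈ Y := by
      rintro _ ⟨s, hs, rfl⟩ g'
      exact ⟨g' * s * g'⁻¹, (inferInstance : D.Normal).conj_mem s hs g', by group⟩
    have hvc : ∀ g', g' * v * g'⁻¹ ∈ J := by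
      intro g'
      have h2 : g' * v * g'⁻¹ * (g' * v * g'⁻¹) = 1 := by
        calc _ = g' * (v * v) * g'⁻¹ := by group
          _ = 1 := by rw [hv2]; group
      rcases hker _ ((inferInstance : D.Normal).conj_mem v hvD g') h2 with h | h | h | h <;> rw [h]
      · exact one_mem _
      · exact hYJ hxY
      · exact hvJ
      · exact mul_mem (hYJ hxY) hvJ
    refine ⟨fun p hp g' => ?_⟩
    rcases hp with hp | hp
    · exact hYJ (hY p hp g')
    · have h2 : g' * p * g'⁻¹ = (g' * v * g'⁻¹) * (g' * (v * p) * g'⁻¹) := by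
        calc g' * p * g'⁻¹ = g' * ((v * v) * p) * g'⁻¹ := by rw [hv2, one_mul]
          _ = _ := by group
      rw [h2]
      exact mul_mem (hvc g') (hYJ (hY _ hp g'))
  by_cases hcJ : c ∈ J
  · have hcyc := commutator_eq_of_sq hG hgen hvD J hcJ (by
      rintro p (hp | hp)
      · obtain ⟨s, hs, rfl⟩ := hp
        exact ⟨0, s, hs, by simp⟩
      · obtain ⟨s, hs, hps⟩ := hp
        exact ⟨1, s, hs, by rw [zpow_one, ← hps, ← mul_assoc, hv2, one_mul]⟩)
    have := eq_of_sq_one (A := ↥D) (u := (⟨x, hxD⟩ : ↥D)) (v := ⟨v, hvD⟩) (Subtype.ext hx2)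
      (fun h => hx1 (congrArg Subtype.val h :)) (Subtype.ext hv2)
      (fun h => hv1 (congrArg Subtype.val h :))
    exact hvx (congrArg Subtype.val this :)
  -- `J` has index two in the commutator subgroup
  have hJidx : ∀ p ∈ D, ∀ q ∈ D, p ∉ J → q ∉ J → p * q ∈ J := by
    let sq : ↥D →* ↥D := MonoidHom.mk' (fun s => s * s) fun p q => by
      calc p * q * (p * q) = p * (q * p) * q := by group
        _ = _ := by rw [habd q p]; group
    have hk : Nat.card sq.ker ≤ 4 := by
      have hsub : ((fun s : sq.ker => ((s : ↥D) : G)) '' Set.univ) ⊆ ({1, x, v, x * v} : Finset G) := by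
        rintro _ ⟨s, -, rfl⟩
        have h2 : ((s : ↥D) : G) * ((s : ↥D) : G) = 1 := congrArg Subtype.val (MonoidHom.mem_ker.1 s.2)
        rcases hker _ (s : ↥D).2 h2 with h | h | h | h <;> simp [h]
      have h1 := Set.ncard_le_ncard hsub (Finset.finite_toSet _)
      rw [Set.ncard_coe_finset, Set.ncard_image_of_injective _
        (fun p q h => Subtype.ext (Subtype.ext h)), Set.ncard_univ] at h1
      exact h1.trans Finset.card_le_four
    have hidx : sq.range.index ≤ 4 := by
      have h1 := sq.range.card_mul_index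
      have h2 := sq.ker.card_mul_index
      rw [Subgroup.index_ker] at h2
      have h3 : 0 < Nat.card sq.range := Nat.card_pos
      have h4 : Nat.card sq.range * sq.range.index = Nat.card sq.range * Nat.card sq.ker := by
        rw [h1, mul_comm, h2]
      exact (Nat.eq_of_mul_eq_mul_left h3 h4).le.trans hk
    intro p hp q hq hpJ hqJ
    by_contra hpq
    have hYr : ∀ d : ↥D, d ∈ sq.range ↔ (d : G) ∈ Y := fun d =>
      ⟨fun ⟨s, hs⟩ => ⟨s, s.2, (congrArg Subtype.val hs :).symm⟩,
        fun ⟨s, hs, hd⟩ => ⟨⟨s, hs⟩, Subtype.ext hd.symm⟩⟩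
    haveI : sq.range.Normal := ⟨fun n hn g' => by rwa [habd g' n, mul_inv_cancel_right]⟩
    let f : Fin 5 → ↥D ⧸ sq.range := ![((1 : ↥D) : ↥D ⧸ sq.range), ((⟨v, hvD⟩ : ↥D) : ↥D ⧸ sq.range),
      ((⟨p, hp⟩ : ↥D) : ↥D ⧸ sq.range), ((⟨v * p, mul_mem hvD hp⟩ : ↥D) : ↥D ⧸ sq.range),
      ((⟨p * q, mul_mem hp hq⟩ : ↥D) : ↥D ⧸ sq.range)]
    have hne : ∀ d e : ↥D, ((d : G)⁻¹ * e) ∉ Y → (d : ↥D ⧸ sq.range) ≠ e := fun d e h he =>
      h ((hYr (d⁻¹ * e)).1 (QuotientGroup.eq.1 he))
    have hpv : p⁻¹ * v ∉ J := fun h => hpJ (by simpa using inv_mem (mul_mem h (inv_mem hvJ)))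
    have hinjf : Function.Injective f := by
      intro i j hij
      have e01 := hne 1 ⟨v, hvD⟩ (by simpa using hvY)
      have e02 := hne 1 ⟨p, hp⟩ (by simpa using fun h => hpJ (hYJ h))
      have e03 := hne 1 ⟨v * p, mul_mem hvD hp⟩ (by
        simpa using fun h => hpJ (show p ∈ J from Or.inr h))
      have e04 := hne 1 ⟨p * q, mul_mem hp hq⟩ (by simpa using fun h => hpq (hYJ h))
      have e12 := hne ⟨v, hvD⟩ ⟨p, hp⟩ (by
        simpa [hvinv] using fun h => hpJ (show p ∈ J from Or.inr h))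
      have e13 := hne ⟨v, hvD⟩ ⟨v * p, mul_mem hvD hp⟩ (by simpa using fun h => hpJ (hYJ h))
      have e14 := hne ⟨v, hvD⟩ ⟨p * q, mul_mem hp hq⟩ (by
        simpa [hvinv] using fun h => hpq (show p * q ∈ J from Or.inr h))
      have e23 := hne ⟨p, hp⟩ ⟨v * p, mul_mem hvD hp⟩ (by
        simp only
        rw [hab v hvD p hp, inv_mul_cancel_left]
        exact hvY)
      have e24 := hne ⟨p, hp⟩ ⟨p * q, mul_mem hp hq⟩ (by simpa using fun h => hqJ (hYJ h))
      have e34 := hne ⟨v * p, mul_mem hvD hp⟩ ⟨p * q, mul_mem hp hq⟩ (by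
        simp only
        rw [hab v hvD p hp, mul_inv_rev, hvinv, mul_assoc, inv_mul_cancel_left]
        exact fun h => hqJ (show q ∈ J from Or.inr h))
      fin_cases i <;> fin_cases j <;> first
        | rfl
        | exact absurd hij e01 | exact absurd hij.symm e01
        | exact absurd hij e02 | exact absurd hij.symm e02
        | exact absurd hij e03 | exact absurd hij.symm e03
        | exact absurd hij e04 | exact absurd hij.symm e04
        | exact absurd hij e12 | exact absurd hij.symm e12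
        | exact absurd hij e13 | exact absurd hij.symm e13
        | exact absurd hij e14 | exact absurd hij.symm e14
        | exact absurd hij e23 | exact absurd hij.symm e23
        | exact absurd hij e24 | exact absurd hij.symm e24
        | exact absurd hij e34 | exact absurd hij.symm e34
    have h5 := Nat.card_le_card_of_injective f hinjf
    rw [Nat.card_fin, ← Subgroup.index_eq_card] at h5
    omega
  have hc1J : c1 ∉ J := by
    intro h
    apply hcJ
    have h1 := hJn.conj_mem c1 h a⁻¹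
    rwa [hc1, show a⁻¹ * (a * c * a⁻¹) * a⁻¹⁻¹ = c by group] at h1
  rcases hJidx c1 hc1D c hcD hc1J hcJ with h | h
  · obtain ⟨s, hs, hss⟩ := h
    exact hd s hs hss
  · -- an element carrying `b` to `v b`
    obtain ⟨s, hs, hss⟩ := h
    have hds : c1 * c = v * (s * s) := by rw [← hss, ← mul_assoc, hv2, one_mul]
    have hconj : s⁻¹ * (a * a) * b * (s⁻¹ * (a * a))⁻¹ = v * b := by
      calc s⁻¹ * (a * a) * b * (s⁻¹ * (a * a))⁻¹ = s⁻¹ * (a * a * b * (a * a)⁻¹) * s := by group
        _ = s⁻¹ * (v * (s * s)) * (b * s * b⁻¹) * b := by rw [ha2b, hds]; group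
        _ = s⁻¹ * (v * (s * s) * s⁻¹) * b := by rw [hinv s hs]; group
        _ = (s⁻¹ * (v * s)) * b := by group
        _ = v * b := by rw [hab v hvD s hs, inv_mul_cancel_left]
    rcases hN _ (hnorm _ (hconj ▸ mul_mem (hV v hvD hv2) hbR)) with h | h
    · rw [hRab _ h b hbR, mul_inv_cancel_right] at hconj
      exact hv1 (mul_eq_right.1 hconj.symm)
    · rw [hgRb _ h] at hconj
      exact hvx (mul_right_cancel hconj).symm

/-- The quaternion case. -/
theorem cyclic_of_quaternion_case (hG : IsPGroup 2 G)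
    (hab : ∀ p ∈ commutator G, ∀ q ∈ commutator G, p * q = q * p)
    (hm : Cfsg.IsMetacyclic ↥(commutator G)) {a b g x z : G} (hgen : Subgroup.closure {a, b} = ⊤)
    {R : Subgroup G} (hbR : b ∈ R) (hxR : x ∈ R) (hz1 : z ≠ 1) (hz2 : z * z = 1)
    (hbz : b * b = z) (hxz : x * x = z)
    (hzR : ∀ r ∈ R, r * z = z * r)
    (hcomm : ∀ p ∈ R, ∀ q ∈ R, ⁅p, q⁆ = 1 ∨ ⁅p, q⁆ = z)
    (hgenR : ∀ H : Subgroup G, b ∈ H → x ∈ H → (∀ r ∈ R, (∀ q ∈ R, q * q = z → r * q = q * r) → r ∈ H) →
      R ≤ H)
    (hC : Subgroup.centralizer (R : Set G) ≤ R)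
    (hgN : g ∈ Subgroup.normalizer (R : Set G))
    (hN : ∀ h ∈ Subgroup.normalizer (R : Set G), h ∈ R ∨ g⁻¹ * h ∈ R)
    (hx : g * b * g⁻¹ = x * b) : IsCyclic ↥(commutator G) := by
  classical
  haveI : Fact (Nat.Prime 2) := ⟨Nat.prime_two⟩
  set D := commutator G with hD
  have hxD : x ∈ D := by
    have h1 : x = ⁅g, b⁆ := by rw [commutatorElement_def, hx]; group
    rw [h1]
    exact commutator_mem' g b
  have hzD : z ∈ D := hxz ▸ mul_mem hxD hxD
  have hbR' : ∀ r ∈ R, r * b * r⁻¹ = b ∨ r * b * r⁻¹ = z * b := fun r hr => by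
    have h2 : r * b * r⁻¹ = ⁅r, b⁆ * b := by rw [commutatorElement_def]; group
    rcases hcomm r hr b hbR with h | h <;> rw [h] at h2
    · left; rw [h2, one_mul]
    · right; exact h2
  have hgRb : ∀ h, g⁻¹ * h ∈ R → h * b * h⁻¹ = x * b ∨ h * b * h⁻¹ = g * z * g⁻¹ * (x * b) := by
    intro h hh
    have h2 : h * b * h⁻¹ = g * ((g⁻¹ * h) * b * (g⁻¹ * h)⁻¹) * g⁻¹ := by group
    rcases hbR' _ hh with h1 | h1 <;> rw [h1] at h2
    · left; rw [h2, hx]
    · right
      rw [h2, show g * (z * b) * g⁻¹ = g * z * g⁻¹ * (g * b * g⁻¹) by group, hx]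
  have hxne : x ≠ 1 := fun h => hz1 (by rw [← hxz, h, mul_one])
  -- `g` fixes `z`
  have hgz : g * z * g⁻¹ = z := by
    have hz' : g * z * g⁻¹ ∈ R := (Subgroup.mem_normalizer_iff.1 hgN z).1 (hxz ▸ mul_mem hxR hxR)
    have h1 : g * z * g⁻¹ = (x * b) * (x * b) := by
      rw [← hbz, ← hx]; group
    -- `(x b)² = x² [x⁻¹, b] b²` lies in `⟨z⟩`
    have h2 : (x * b) * (x * b) = (x * x) * (x⁻¹ * b * x⁻¹⁻¹ * b⁻¹) * (b * b) := by group
    rw [h1, h2, ← commutatorElement_def, hxz, hbz]
    rcases hcomm x⁻¹ (inv_mem hxR) b hbR with h | h <;> rw [h]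
    · exfalso
      rw [h2, ← commutatorElement_def, h, mul_one, hxz, hbz, hz2] at h1
      exact hz1 (conj_eq_one_iff.1 h1)
    · rw [hz2, one_mul]
  have hgRb' : ∀ h, g⁻¹ * h ∈ R → h * b * h⁻¹ = x * b ∨ h * b * h⁻¹ = z * (x * b) := fun h hh => by
    have := hgRb h hh
    rwa [hgz] at this
  by_cases hzc : ∀ h : G, h * z = z * h
  · -- pass to the quotient by `z`
    haveI hZn : (Subgroup.zpowers z).Normal := ⟨fun n hn h => by
      obtain ⟨i, rfl⟩ := Subgroup.mem_zpowers_iff.1 hn
      have : Commute h z := hzc h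
      rwa [(this.zpow_right i).eq, mul_inv_cancel_right]⟩
    set Z := Subgroup.zpowers z with hZ
    set π := QuotientGroup.mk' Z with hπ
    have hzu : ∀ w ∈ Z, w = 1 ∨ w = z := by
      intro w hw
      obtain ⟨i, rfl⟩ := Subgroup.mem_zpowers_iff.1 hw
      rcases Int.even_or_odd i with ⟨j, rfl⟩ | ⟨j, rfl⟩
      · left; rw [← two_mul, zpow_mul, zpow_two, hz2, one_zpow]
      · right; rw [zpow_add, zpow_one, zpow_mul, zpow_two, hz2, one_zpow, one_mul]
    have hπz : π z = 1 := (QuotientGroup.eq_one_iff z).2 (Subgroup.mem_zpowers z)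
    have hDmap : commutator (G ⧸ Z) = D.map π := by
      rw [hD, _root_.commutator_def, _root_.commutator_def, Subgroup.map_commutator,
        Subgroup.map_top_of_surjective π (QuotientGroup.mk'_surjective Z)]
    have hzmR : z ∈ R := hxz ▸ mul_mem hxR hxR
    have hZR : Z ≤ R := Subgroup.zpowers_le.2 hzmR
    have hmemR : ∀ y, π y ∈ R.map π ↔ y ∈ R := fun y =>
      ⟨fun ⟨r, hr, hry⟩ => by simpa using mul_mem hr (hZR (QuotientGroup.eq.1 hry)),
        fun hy => ⟨y, hy, rfl⟩⟩
    have hNmap : ∀ h, π h ∈ Subgroup.normalizer (R.map π : Set (G ⧸ Z)) →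
        h ∈ Subgroup.normalizer (R : Set G) := by
      intro h hh
      refine Subgroup.mem_normalizer_iff.2 fun y => ?_
      rw [← hmemR y, ← hmemR (h * y * h⁻¹), map_mul, map_mul, map_inv]
      exact Subgroup.mem_normalizer_iff.1 hh (π y)
    have hcyc : IsCyclic ↥(commutator (G ⧸ Z)) := by
      refine cyclic_of_involution_case (hG.to_quotient Z) ?_ ?_ (a := π a) (b := π b) (g := π g)
        (x := π x) (by rw [← Set.image_pair π, closure_image_top π (QuotientGroup.mk'_surjective _) hgen])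
        (R := R.map π) (by rw [← map_mul, hbz, hπz]) ⟨b, hbR, rfl⟩ ⟨x, hxR, rfl⟩ ?_ ?_ ?_ ?_
        (by rw [← map_mul, ← map_inv, ← map_mul, hx, map_mul]) ?_
      · rw [hDmap]
        rintro _ ⟨p, hp, rfl⟩ _ ⟨q, hq, rfl⟩
        rw [← map_mul, ← map_mul, hab p hp q hq]
      · rw [hDmap]
        exact isMetacyclic_of_surjective hm (π.subgroupMap D) (π.subgroupMap_surjective D)
      · rintro _ ⟨p, hp, rfl⟩ _ ⟨q, hq, rfl⟩
        rw [← commutatorElement_eq_one_iff_mul_comm, ← map_commutatorElement]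
        rcases hcomm p hp q hq with h | h <;> rw [h]
        · exact map_one π
        · exact hπz
      · intro w hw
        obtain ⟨h, rfl⟩ := QuotientGroup.mk'_surjective Z w
        have hcom : ∀ r ∈ R, ⁅h, r⁆ ∈ Z := fun r hr => by
          rw [← QuotientGroup.eq_one_iff, ← QuotientGroup.mk'_apply, map_commutatorElement,
            commutatorElement_eq_one_iff_mul_comm]
          exact (Subgroup.mem_centralizer_iff.1 hw _ ⟨r, hr, rfl⟩).symm
        have hhN : h ∈ Subgroup.normalizer (R : Set G) := by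
          rw [Subgroup.mem_normalizer_iff_map_conj_eq]
          refine Subgroup.eq_of_le_of_card_ge ?_
            (Subgroup.card_map_of_injective (MulAut.conj h).injective).ge
          rintro _ ⟨r, hr, rfl⟩
          have h1 : h * r * h⁻¹ = ⁅h, r⁆ * r := by rw [commutatorElement_def]; group
          show h * r * h⁻¹ ∈ R
          rw [h1]
          exact mul_mem (hZR (hcom r hr)) hr
        rcases hN h hhN with h1 | h1
        · exact ⟨h, h1, rfl⟩
        · exfalso
          have h2 : h * b * h⁻¹ = ⁅h, b⁆ * b := by rw [commutatorElement_def]; group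
          rcases hzu _ (hcom b hbR) with h3 | h3 <;> rw [h3] at h2 <;>
            rcases hgRb' h h1 with h4 | h4 <;> rw [h4] at h2
          · exact hxne (mul_right_cancel h2)
          · have h5 : z * x = 1 := mul_right_cancel (by rw [mul_assoc]; exact h2)
            have h6 : x = z⁻¹ := eq_inv_of_mul_eq_one_right h5
            exact hz1 (by rw [← hxz, h6, ← mul_inv_rev, hz2, inv_one])
          · have h6 : x = z := mul_right_cancel h2
            exact hz1 (by rw [← hxz, h6, hz2])
          · exact hxne (mul_right_cancel ((mul_left_cancel h2).trans (one_mul b).symm))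
      · exact Subgroup.le_normalizer_map π ⟨g, hgN, rfl⟩
      · intro w hw
        obtain ⟨h, rfl⟩ := QuotientGroup.mk'_surjective Z w
        rcases hN h (hNmap h hw) with h1 | h1
        · exact Or.inl ⟨h, h1, rfl⟩
        · exact Or.inr ⟨g⁻¹ * h, h1, by rw [map_mul, map_inv]⟩
      · intro h
        rcases hzu x ((QuotientGroup.eq_one_iff x).1 h) with h1 | h1
        · exact hxne h1
        · exact hz1 (by rw [← hxz, h1, hz2])
    obtain ⟨⟨q₀, hq₀⟩, hq⟩ := hcyc.exists_generator
    obtain ⟨q, hqD, rfl⟩ := hDmap.le hq₀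
    have htop : Subgroup.zpowers (⟨q, hqD⟩ : ↥D) = ⊤ := by
      refine frattini_nongenerating (eq_top_iff.2 fun d _ => ?_)
      obtain ⟨i, hi⟩ := Subgroup.mem_zpowers_iff.1 (hq ⟨π d, hDmap.ge ⟨d, d.2, rfl⟩⟩)
      have hi' : π q ^ i = π d := congrArg Subtype.val hi
      rw [← map_zpow] at hi'
      rcases hzu _ (QuotientGroup.eq.1 hi') with h | h
      · have h1 : d = (⟨q, hqD⟩ : ↥D) ^ i := Subtype.ext (inv_mul_eq_one.1 h).symm
        rw [h1]
        exact Subgroup.mem_sup_left (Subgroup.zpow_mem_zpowers _ i)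
      · have h1 : d = (⟨q, hqD⟩ : ↥D) ^ i * (⟨x, hxD⟩ * ⟨x, hxD⟩) := by
          refine Subtype.ext ?_
          show (d : G) = q ^ i * (x * x)
          rw [hxz, ← h, mul_inv_cancel_left]
        rw [h1]
        exact mul_mem (Subgroup.mem_sup_left (Subgroup.zpow_mem_zpowers _ i))
          (Subgroup.mem_sup_right (sq_mem_frattini (hG.to_subgroup _) _))
    exact ⟨⟨⟨q, hqD⟩, fun d => htop.ge (Subgroup.mem_top d)⟩⟩
  -- `z` is not central
  exfalso
  set C := Subgroup.centralizer ({z} : Set G) with hCdef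
  have hDC : D ≤ C := fun d hd => Subgroup.mem_centralizer_singleton_iff.2 (hab d hd z hzD)
  haveI hCn : C.Normal := ⟨fun n hn h => by
    have h1 : ⁅h, n⁆ ∈ C := hDC (commutator_mem' h n)
    rw [commutatorElement_def] at h1
    simpa using mul_mem h1 hn⟩
  have hRCz : R ≤ C := fun r hr => Subgroup.mem_centralizer_singleton_iff.2 (hzR r hr)
  have haC : a ∉ C := by
    intro haC
    apply hzc
    intro h
    have hle : (⊤ : Subgroup G) ≤ C := by
      rw [← hgen, Subgroup.closure_le]
      rintro t (rfl | rfl)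
      exacts [haC, hRCz hbR]
    exact Subgroup.mem_centralizer_singleton_iff.1 (hle (Subgroup.mem_top h))
  set z' := a * z * a⁻¹ with hz'
  set x' := a * x * a⁻¹ with hx'
  have hz'D : z' ∈ D := (inferInstance : D.Normal).conj_mem z hzD a
  have hx'D : x' ∈ D := (inferInstance : D.Normal).conj_mem x hxD a
  have hz'z : z' ≠ z := fun h => haC (Subgroup.mem_centralizer_singleton_iff.2
    (mul_inv_eq_iff_eq_mul.1 h))
  have hz'2 : z' * z' = 1 := by
    calc z' * z' = a * (z * z) * a⁻¹ := by rw [hz']; group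
      _ = 1 := by rw [hz2]; group
  have hz'1 : z' ≠ 1 := fun h => hz1 (conj_eq_one_iff.1 h)
  have hx'sq : x' * x' = z' := by rw [hz', hx', ← hxz]; group
  -- `z'` lies in `R`
  have hz'C : ∀ r ∈ R, r * z' = z' * r := by
    intro r hr
    have h1 : a⁻¹ * r * a ∈ C := by simpa using hCn.conj_mem r (hRCz hr) a⁻¹
    calc r * z' = a * ((a⁻¹ * r * a) * z) * a⁻¹ := by rw [hz']; group
      _ = a * (z * (a⁻¹ * r * a)) * a⁻¹ := by rw [Subgroup.mem_centralizer_singleton_iff.1 h1]
      _ = z' * r := by rw [hz']; group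
  have hz'R : z' ∈ R := hC (Subgroup.mem_centralizer_iff.2 fun r hr => hz'C r hr)
  have hOm : ∀ w ∈ D, w * w = 1 → w ∈ R := by
    intro w hw hw2
    rcases four_mem hm hzD hz'D hw hz2 hz'2 hw2 (hab _ hzD _ hz'D) (hab _ hzD _ hw)
      (hab _ hz'D _ hw) hz1 hz'1 (Ne.symm hz'z) with h | h | h | h <;> rw [h]
    exacts [one_mem R, hxz ▸ mul_mem hxR hxR, hz'R, mul_mem (hxz ▸ mul_mem hxR hxR) hz'R]
  -- `b` inverts `x'`
  have hbx : b * x * b⁻¹ = x⁻¹ := by
    rcases hcomm b hbR x hxR with h | h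
    · exfalso
      have h1 : g * z * g⁻¹ = (x * b) * (x * b) := by rw [← hbz, ← hx]; group
      have h2 : b * x = x * b := commutatorElement_eq_one_iff_mul_comm.1 h
      rw [hgz] at h1
      have h3 : (x * b) * (x * b) = (x * x) * (b * b) := by
        calc (x * b) * (x * b) = x * (b * x) * b := by group
          _ = _ := by rw [h2]; group
      rw [h3, hxz, hbz, hz2] at h1
      exact hz1 h1
    · calc b * x * b⁻¹ = ⁅b, x⁆ * x := by rw [commutatorElement_def]; group
        _ = x⁻¹ := by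
          rw [h, ← hxz, eq_inv_iff_mul_eq_one]
          calc x * x * x * x = (x * x) * (x * x) := by group
            _ = 1 := by rw [hxz, hz2]
  have hbx' : b * x' * b⁻¹ = x'⁻¹ := by
    have hab' : a * b * a⁻¹ = ⁅a, b⁆ * b := by rw [commutatorElement_def]; group
    have h1 : (a * b * a⁻¹) * x' * (a * b * a⁻¹)⁻¹ = x'⁻¹ := by
      calc (a * b * a⁻¹) * x' * (a * b * a⁻¹)⁻¹ = a * (b * x * b⁻¹) * a⁻¹ := by rw [hx']; group
        _ = x'⁻¹ := by rw [hbx, hx']; group
    rw [hab', mul_inv_rev] at h1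
    have h2 : ⁅a, b⁆⁻¹ * x'⁻¹ * ⁅a, b⁆ = x'⁻¹ := by
      rw [hab _ (inv_mem (commutator_mem' a b)) _ (inv_mem hx'D)]
      group
    rw [← h2]
    calc b * x' * b⁻¹ = ⁅a, b⁆⁻¹ * (⁅a, b⁆ * b * x' * (b⁻¹ * ⁅a, b⁆⁻¹)) * ⁅a, b⁆ := by group
      _ = _ := by rw [h1]
  -- `x'` normalizes `R`
  have hx'N : x' ∈ Subgroup.normalizer (R : Set G) := by
    let P : Subgroup G :=
      { carrier := {r | r ∈ R ∧ ⁅x', r⁆ ∈ R}
        one_mem' := ⟨one_mem _, by simp⟩
        mul_mem' := by
          rintro p q ⟨hp, hp'⟩ ⟨hq, hq'⟩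
          refine ⟨mul_mem hp hq, ?_⟩
          have h1 : ⁅x', p * q⁆ = ⁅x', p⁆ * (p * ⁅x', q⁆ * p⁻¹) := by
            simp only [commutatorElement_def]; group
          rw [h1]
          exact mul_mem hp' (mul_mem (mul_mem hp hq') (inv_mem hp))
        inv_mem' := by
          rintro p ⟨hp, hp'⟩
          refine ⟨inv_mem hp, ?_⟩
          have h1 : ⁅x', p⁻¹⁆ = p⁻¹ * ⁅x', p⁆⁻¹ * p := by
            simp only [commutatorElement_def]; group
          rw [h1]
          exact mul_mem (mul_mem (inv_mem hp) (inv_mem hp')) hp }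
    have hRP : R ≤ P := by
      refine hgenR P ⟨hbR, ?_⟩ ⟨hxR, ?_⟩ fun r hr hrc => ⟨hr, ?_⟩
      · have h1 : ⁅x', b⁆ = z' := by
          rw [commutatorElement_def, ← hx'sq]
          calc x' * b * x'⁻¹ * b⁻¹ = x' * (b * x' * b⁻¹)⁻¹ := by group
            _ = x' * x' := by rw [hbx', inv_inv]
        rw [h1]; exact hz'R
      · rw [commutatorElement_eq_one_iff_mul_comm.2 (hab _ hx'D _ hxD)]; exact one_mem R
      · refine hOm _ (commutator_mem' x' r) ?_
        set t := ⁅x', r⁆ with ht
        have htD : t ∈ D := commutator_mem' x' r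
        have h2 : r * x'⁻¹ * r⁻¹ = x'⁻¹ * t := by rw [ht, commutatorElement_def]; group
        have h3 : (x'⁻¹ * t) * (x'⁻¹ * t) = x'⁻¹ * x'⁻¹ := by
          rw [← h2]
          calc r * x'⁻¹ * r⁻¹ * (r * x'⁻¹ * r⁻¹) = r * (x' * x')⁻¹ * r⁻¹ := by group
            _ = z'⁻¹ * (r * r⁻¹) := by
              rw [hx'sq, inv_eq_of_mul_eq_one_right hz'2, hz'C r hr]; group
            _ = x'⁻¹ * x'⁻¹ := by rw [← hx'sq]; group
        calc t * t = x' * ((x'⁻¹ * t) * (x'⁻¹ * t)) * (t⁻¹ * (x' * t)) := by group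
          _ = x' * (x'⁻¹ * x'⁻¹) * (t⁻¹ * (t * x')) := by rw [h3, hab x' hx'D t htD]
          _ = 1 := by group
    rw [Subgroup.mem_normalizer_iff_map_conj_eq]
    refine Subgroup.eq_of_le_of_card_ge ?_
      (Subgroup.card_map_of_injective (MulAut.conj x').injective).ge
    rintro _ ⟨r, hr, rfl⟩
    show x' * r * x'⁻¹ ∈ R
    rw [show x' * r * x'⁻¹ = ⁅x', r⁆ * r by rw [commutatorElement_def]; group]
    exact mul_mem (hRP hr).2 hr
  have hkey : x' * b * x'⁻¹ = z' * b := by
    rw [← hx'sq]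
    calc x' * b * x'⁻¹ = x' * (b * x'⁻¹ * b⁻¹) * b := by group
      _ = _ := by rw [← conj_inv, hbx', inv_inv]
  rcases hN x' hx'N with h | h
  · rcases hbR' x' h with h1 | h1 <;> rw [hkey] at h1
    · exact hz'1 (mul_eq_right.1 h1)
    · exact hz'z (mul_right_cancel h1)
  · rcases hgRb' x' h with h1 | h1 <;> rw [hkey] at h1
    · have h2 : z' = x := mul_right_cancel h1
      rw [h2, hxz] at hz'2
      exact hz1 hz'2
    · have h2 : z' = z * x := mul_right_cancel (by rw [h1]; group)
      rw [h2] at hz'2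
      apply hz1
      calc z = x * x := hxz.symm
        _ = (z * z) * (x * x) := by rw [hz2, one_mul]
        _ = z * (z * x) * x := by group
        _ = z * (x * z) * x := by rw [hzR x hxR]
        _ = z * x * (z * x) := by group
        _ = 1 := hz'2

end Cfsg.Agent.Bicyclic2
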