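import Cfsg.Agent.Lib.Bicyclic2.Shape
import Cfsg.Agent.Lib.Bicyclic2.LemmaV

/-!
A non-metacyclic two-generated 2-group with a subgroup `R` having an automorphism of order three
inverted by an element `g` of the normaliser outside `R` has cyclic derived subgroup.
-/

set_option autoImplicit false

namespace Cfsg.Agent.Bicyclic2

open scoped commutatorElement
open Cfsg.Agent

variable {G : Type*} [Group G] [Finite G]

/-- In a 2-group, commuting with a cube means commuting. -/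
theorem commute_of_cube {P : Type*} [Group P] (hP : IsPGroup 2 P) {x y : P}
    (h : Commute (x ^ 3) y) : Commute x y := by
  obtain ⟨n, hn⟩ := hP x
  have hc : Nat.Coprime (orderOf x) 3 :=
    Nat.Coprime.coprime_dvd_left (orderOf_dvd_of_pow_eq_one hn)
      (Nat.Coprime.pow_left n (by norm_num))
  obtain ⟨m, hm⟩ := exists_pow_eq_self_of_coprime (x := x) (n := 3) hc.symm
  rw [← hm]
  exact h.pow_left m

/-- The four classes of a two-generated 2-group modulo its Frattini subgroup. -/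
theorem class_mod_frattini (hG : IsPGroup 2 G) {u v : G}
    (hgen : Subgroup.closure ({u, v} : Set G) = ⊤) (t : G) :
    t ∈ frattini G ∨ u⁻¹ * t ∈ frattini G ∨ v⁻¹ * t ∈ frattini G ∨
      (u * v)⁻¹ * t ∈ frattini G := by
  set π := QuotientGroup.mk' (frattini G)
  have hsq : ∀ x : G ⧸ frattini G, x * x = 1 := fun x => by
    induction x using QuotientGroup.induction_on with
    | H y => exact (QuotientGroup.eq_one_iff _).2 (sq_mem_frattini hG y)
  have hcm : ∀ x y : G ⧸ frattini G, x * y = y * x := fun x y => by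
    calc x * y = (x * y)⁻¹ := eq_inv_of_mul_eq_one_left (hsq _)
      _ = y * x := by rw [mul_inv_rev, inv_eq_of_mul_eq_one_right (hsq x),
          inv_eq_of_mul_eq_one_right (hsq y)]
  have hinv : ∀ x : G ⧸ frattini G, x⁻¹ = x := fun x => inv_eq_of_mul_eq_one_right (hsq x)
  have hl : ∀ x y : G ⧸ frattini G, x * (x * y) = y := fun x y => by
    rw [← mul_assoc, hsq, one_mul]
  have hl' : ∀ x y : G ⧸ frattini G, x * (y * x) = y := fun x y => by rw [hcm y x, hl]
  let K : Subgroup (G ⧸ frattini G) :=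
    { carrier := {x | x = 1 ∨ x = π u ∨ x = π v ∨ x = π u * π v}
      one_mem' := Or.inl rfl
      inv_mem' := by intro x hx; simpa [hinv] using hx
      mul_mem' := by
        rintro x y (rfl | rfl | rfl | rfl) (rfl | rfl | rfl | rfl) <;>
          simp [hsq, hl, hl', mul_assoc, hcm (π v) (π u)] }
  have hK : Subgroup.closure ({u, v} : Set G) ≤ K.comap π := by
    rw [Subgroup.closure_le]
    rintro x (rfl | rfl)
    exacts [Or.inr (Or.inl rfl), Or.inr (Or.inr (Or.inl rfl))]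
  have ht : π t ∈ K := hK (hgen ▸ Subgroup.mem_top t)
  rcases ht with h | h | h | h
  · exact Or.inl ((QuotientGroup.eq_one_iff t).1 h)
  · exact Or.inr (Or.inl (QuotientGroup.eq.1 h.symm))
  · exact Or.inr (Or.inr (Or.inl (QuotientGroup.eq.1 h.symm)))
  · rw [← map_mul] at h
    exact Or.inr (Or.inr (Or.inr (QuotientGroup.eq.1 h.symm)))

/-- An element outside the Frattini subgroup is one of two generators. -/
theorem exists_partner (hG : IsPGroup 2 G) (hgen : Gen2 (⊤ : Subgroup G)) {b : G}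
    (hb : b ∉ frattini G) : ∃ a, Subgroup.closure ({a, b} : Set G) = ⊤ := by
  obtain ⟨u, v, huv⟩ := hgen
  have key : ∀ a, u ∈ Subgroup.closure ({a, b} : Set G) ⊔ frattini G →
      v ∈ Subgroup.closure ({a, b} : Set G) ⊔ frattini G →
      Subgroup.closure ({a, b} : Set G) = ⊤ := by
    intro a hu hv
    refine PGroup.closure_eq_top_of_sup_frattini (eq_top_iff.2 ?_)
    rw [← huv, Subgroup.closure_le]
    rintro x (rfl | rfl) <;> assumption
  have hm : ∀ a c, c⁻¹ * b ∈ frattini G →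
      c ∈ Subgroup.closure ({a, b} : Set G) ⊔ frattini G := by
    intro a c hc
    have hbS : b ∈ Subgroup.closure ({a, b} : Set G) ⊔ frattini G :=
      Subgroup.mem_sup_left (Subgroup.subset_closure (by simp))
    simpa [mul_assoc] using mul_mem hbS (Subgroup.mem_sup_right (inv_mem hc) :
      (c⁻¹ * b)⁻¹ ∈ Subgroup.closure ({a, b} : Set G) ⊔ frattini G)
  have hself : ∀ a, a ∈ Subgroup.closure ({a, b} : Set G) ⊔ frattini G := fun a =>
    Subgroup.mem_sup_left (Subgroup.subset_closure (by simp))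
  rcases class_mod_frattini hG huv b with h | h | h | h
  · exact absurd h hb
  · exact ⟨v, key v (hm v u h) (hself v)⟩
  · exact ⟨u, key u (hself u) (hm u v h)⟩
  · refine ⟨u, key u (hself u) ?_⟩
    simpa using mul_mem (inv_mem (hself u)) (hm u (u * v) h)

/-- The configuration: `R = Q⟨w⟩`, the map `a` is an automorphism of `R` of order three fixing `w`,
and `g` inverts `a`. -/
structure Config (R Q : Subgroup G) (a : G → G) (g w : G) : Prop where
  centralizer : Subgroup.centralizer (R : Set G) ≤ R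
  gnorm : g ∈ Subgroup.normalizer (R : Set G)
  gnot : g ∉ R
  norm : ∀ h ∈ Subgroup.normalizer (R : Set G), h ∈ R ∨ g⁻¹ * h ∈ R
  Qle : Q ≤ R
  wmem : w ∈ R
  amem : ∀ r ∈ R, a r ∈ R
  amul : ∀ r ∈ R, ∀ s ∈ R, a (r * s) = a r * a s
  athree : ∀ r ∈ R, a (a (a r)) = r
  aQ : ∀ q ∈ Q, a q ∈ Q
  aw : a w = w
  split : ∀ r ∈ R, ∃ q ∈ Q, ∃ k : ℤ, q * w ^ k = r
  Qconj : ∀ r ∈ R, ∀ q ∈ Q, r * q * r⁻¹ ∈ Q
  gQ : ∀ q ∈ Q, g * q * g⁻¹ ∈ Q
  ga : ∀ r ∈ R, g * a r * g⁻¹ = a (a (g * r * g⁻¹))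

namespace Config

variable {R Q : Subgroup G} {a : G → G} {g w : G} (C : Config R Q a g w)
include C

theorem one : a 1 = 1 := by
  have h := C.amul 1 (one_mem R) 1 (one_mem R)
  rw [mul_one] at h
  exact mul_eq_left.1 h.symm

theorem inv {r : G} (hr : r ∈ R) : a r⁻¹ = (a r)⁻¹ := by
  have h := C.amul r hr r⁻¹ (inv_mem hr)
  rw [mul_inv_cancel, C.one] at h
  exact eq_inv_of_mul_eq_one_right h.symm

theorem pow {r : G} (hr : r ∈ R) (n : ℕ) : a (r ^ n) = a r ^ n := by
  induction n with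
  | zero => simpa using C.one
  | succ n ih => rw [pow_succ, pow_succ, C.amul _ (pow_mem hr n) _ hr, ih]

theorem zpow {r : G} (hr : r ∈ R) (n : ℤ) : a (r ^ n) = a r ^ n := by
  cases n with
  | ofNat n => simpa using C.pow hr n
  | negSucc n => rw [zpow_negSucc, zpow_negSucc, C.inv (pow_mem hr _), C.pow hr]

theorem inj {r s : G} (hr : r ∈ R) (hs : s ∈ R) (h : a r = a s) : r = s := by
  rw [← C.athree r hr, h, C.athree s hs]

theorem conj_w {q : G} (hq : q ∈ R) : a (w * q * w⁻¹) = w * a q * w⁻¹ := by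
  rw [C.amul _ (mul_mem C.wmem hq) _ (inv_mem C.wmem), C.amul _ C.wmem _ hq, C.inv C.wmem, C.aw]

theorem conj_wpow {q : G} (hq : q ∈ R) (n : ℕ) :
    a (w ^ n * q * (w ^ n)⁻¹) = w ^ n * a q * (w ^ n)⁻¹ := by
  rw [C.amul _ (mul_mem (pow_mem C.wmem n) hq) _ (inv_mem (pow_mem C.wmem n)),
    C.amul _ (pow_mem C.wmem n) _ hq, C.inv (pow_mem C.wmem n), C.pow C.wmem, C.aw]

theorem sq_mem : g * g ∈ R := by
  rcases C.norm (g * g) (mul_mem C.gnorm C.gnorm) with h | h
  · exact h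
  · exact absurd (by simpa [mul_assoc] using h) C.gnot

theorem gR {r : G} (hr : r ∈ R) : g * r * g⁻¹ ∈ R :=
  (Subgroup.mem_normalizer_iff.1 C.gnorm r).1 hr

/-- The fixed points of `a` when `a` moves every nontrivial element of `Q`. -/
theorem fixed_mem (hfix : ∀ q ∈ Q, a q = q → q = 1) {r : G} (hr : r ∈ R) (h : a r = r) :
    r ∈ Subgroup.zpowers w := by
  obtain ⟨q, hq, k, rfl⟩ := C.split r hr
  rw [C.amul _ (C.Qle hq) _ (zpow_mem C.wmem k), C.zpow C.wmem, C.aw] at h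
  rw [hfix q hq (mul_right_cancel h), one_mul]
  exact ⟨k, rfl⟩

theorem cases_hom {u : G} (hG : IsPGroup 2 G) (hcomm : ∀ p ∈ Q, ∀ q ∈ Q, p * q = q * p) (hu : u ∈ Q)
    (hu2 : u * u = 1) (hu1 : u ≠ 1)
    (hinv : ∀ v ∈ Q, v * v = 1 → v = 1 ∨ v = u ∨ v = a u ∨ v = u * a u)
    (hnorm : a (a u) = u * a u) : ∀ r ∈ R, Commute r u ∧ Commute r (a u) := by
  have huR := C.Qle hu
  have hauQ := C.aQ u hu
  have hwu : Commute w u := by
    refine commute_of_cube hG ?_
    have hmem : w * u * w⁻¹ ∈ Q := C.Qconj w C.wmem u hu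
    have h2 : w * u * w⁻¹ * (w * u * w⁻¹) = 1 := by
      calc w * u * w⁻¹ * (w * u * w⁻¹) = w * (u * u) * w⁻¹ := by group
        _ = 1 := by rw [hu2]; group
    have h1 : w * (a u) * w⁻¹ = a (w * u * w⁻¹) := (C.conj_w huR).symm
    have h3 : w * a (a u) * w⁻¹ = a (a (w * u * w⁻¹)) := by
      rw [← C.conj_w (C.amem u huR), h1]
    have key : w * (w * (w * u * w⁻¹) * w⁻¹) * w⁻¹ = u := by
      rcases hinv _ hmem h2 with h | h | h | h
      · exact absurd (conj_eq_one_iff.1 h) hu1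
      · rw [h, h, h]
      · rw [h, h1, h, h3, h, C.athree u huR]
      · rw [h, ← hnorm, h3, h, ← hnorm, C.athree u huR, h1, h, ← hnorm, C.athree u huR]
    show w ^ 3 * u = u * w ^ 3
    calc w ^ 3 * u = w * (w * (w * u * w⁻¹) * w⁻¹) * w⁻¹ * w ^ 3 := by
          simp [pow_succ, mul_assoc]
      _ = u * w ^ 3 := by rw [key]
  have hwau : Commute w (a u) := by
    show w * a u = a u * w
    have h := congrArg a hwu.eq
    rwa [C.amul _ C.wmem _ huR, C.amul _ huR _ C.wmem, C.aw] at h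
  intro r hr
  obtain ⟨q, hq, k, rfl⟩ := C.split r hr
  exact ⟨Commute.mul_left (hcomm q hq u hu) (hwu.zpow_left k),
    Commute.mul_left (hcomm q hq _ hauQ) (hwau.zpow_left k)⟩

/-- Involutions in the Frattini subgroup, the complement outside it. -/
theorem cyclic_complement (hG : IsPGroup 2 G) (hfix : ∀ q ∈ Q, a q = q → q = 1)
    (hgen : Subgroup.closure ({g, w} : Set G) = ⊤) : IsCyclic ↥(commutator G) := by
  have hgw : g * w * g⁻¹ ∈ Subgroup.zpowers w := by
    refine C.fixed_mem hfix (C.gR C.wmem) ?_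
    have h := C.ga w C.wmem
    rw [C.aw] at h
    conv_lhs => rw [h]
    rw [C.athree _ (C.gR C.wmem)]
  haveI hn : (Subgroup.zpowers w).Normal := by
    rw [← Subgroup.normalizer_eq_top_iff]
    refine eq_top_iff.2 (hgen ▸ (Subgroup.closure_le _).2 ?_)
    rintro x (rfl | rfl)
    · exact mem_normalizer_zpowers hgw
    · exact Subgroup.le_normalizer (Subgroup.mem_zpowers _)
  have hle : commutator G ≤ Subgroup.zpowers w := by
    refine commutator_le_of_mem hgen ?_
    rw [commutatorElement_def]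
    exact mul_mem hgw (inv_mem (Subgroup.mem_zpowers w))
  exact isCyclic_of_injective (Subgroup.inclusion hle) (Subgroup.inclusion_injective hle)

/-- The impossible twisted case. -/
theorem no_twist (hG : IsPGroup 2 G) (hΦm : Cfsg.IsMetacyclic ↥(frattini G))
    (hcomm : ∀ p ∈ Q, ∀ q ∈ Q, p * q = q * p)
    (hsqV : ∀ v ∈ Q, v * v = 1 → ∃ y ∈ Q, v = y * y)
    (hfix : ∀ q ∈ Q, a q = q → q = 1) {p : G} (hp : p ∈ Q)
    (hgenQ : Q = Subgroup.closure ({p, a p} : Set G)) (hpΦ : p ∈ frattini G)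
    (hapΦ : a p ∉ frattini G) (hwΦ : w ∈ frattini G) (hne : ¬ Commute w p) : False := by
  have hpR := C.Qle hp
  have hapQ := C.aQ p hp
  have hw1 : w ≠ 1 := fun h => hne (h ▸ Commute.one_left p)
  have hQw : ∀ q ∈ Q, ∀ k : ℤ, q = w ^ k → q = 1 := fun q hq k h =>
    hfix q hq (by rw [h, C.zpow C.wmem, C.aw])
  have hnormel : ∀ x ∈ Q, a (a x) = (x * a x)⁻¹ := by
    intro x hx
    have hx1 := C.aQ x hx
    have hx2 := C.aQ _ hx1
    refine eq_inv_of_mul_eq_one_right (hfix _ (mul_mem (mul_mem hx hx1) hx2) ?_)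
    rw [C.amul _ (C.Qle (mul_mem hx hx1)) _ (C.Qle hx2), C.amul _ (C.Qle hx) _ (C.Qle hx1),
      C.athree x (C.Qle hx)]
    rw [hcomm (a x * a (a x)) (mul_mem hx1 hx2) x hx, mul_assoc]
  have hco : ∀ x ∈ Q, ∃ i j : ℤ, x = p ^ i * (a p) ^ j := by
    intro x hx
    rw [hgenQ] at hx
    induction hx using Subgroup.closure_induction with
    | mem y hy =>
      rcases hy with rfl | rfl
      exacts [⟨1, 0, by simp⟩, ⟨0, 1, by simp⟩]
    | one => exact ⟨0, 0, by simp⟩
    | mul y z _ _ hy hz =>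
      obtain ⟨i, j, rfl⟩ := hy
      obtain ⟨i', j', rfl⟩ := hz
      refine ⟨i + i', j + j', ?_⟩
      have hc : Commute ((a p) ^ j) (p ^ i') :=
        Commute.zpow_zpow (hcomm _ hapQ _ hp) _ _
      calc p ^ i * a p ^ j * (p ^ i' * a p ^ j') = p ^ i * (a p ^ j * p ^ i') * a p ^ j' := by group
        _ = _ := by rw [hc.eq, zpow_add, zpow_add]; group
    | inv y _ hy =>
      obtain ⟨i, j, rfl⟩ := hy
      refine ⟨-i, -j, ?_⟩
      have hc : Commute ((a p) ^ j) (p ^ i) := Commute.zpow_zpow (hcomm _ hapQ _ hp) _ _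
      rw [← hc.eq, mul_inv_rev, zpow_neg, zpow_neg]
  -- parities
  have hsqΦ : ∀ x : G, x * x ∈ frattini G := sq_mem_frattini hG
  have hpar : ∀ i j : ℤ, p ^ i * (a p) ^ j ∈ frattini G → 2 ∣ j := by
    intro i j h
    by_contra hj
    obtain ⟨m, rfl⟩ : ∃ m, j = 2 * m + 1 := ⟨j / 2, by omega⟩
    apply hapΦ
    have h1 : a p ^ (2 * m + 1) ∈ frattini G := by
      simpa using mul_mem (inv_mem (zpow_mem hpΦ i)) h
    have h2 : a p ^ (2 * m) ∈ frattini G := by
      rw [zpow_mul, zpow_two]; exact zpow_mem (hsqΦ _) m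
    simpa [zpow_add] using mul_mem (inv_mem h2) h1
  have hsqQ : ∀ x ∈ Q, ∀ y ∈ Q, (x * y) * (x * y) = x * x * (y * y) := fun x hx y hy => by
    calc x * y * (x * y) = x * (y * x) * y := by group
      _ = _ := by rw [hcomm y hy x hx]; group
  have hpnot : ∀ y ∈ Q, p ≠ y * y := by
    intro y hy h
    apply hapΦ
    have h1 : a p = a y * a y := by rw [h, C.amul _ (C.Qle hy) _ (C.Qle hy)]
    rw [h1]; exact hsqΦ _
  -- odd powers
  have hodd : ∀ (x : G), x ∈ Q → ∀ t : ℤ, ¬ 2 ∣ t → (∃ y ∈ Q, x ^ t = y * y) →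
      ∃ y ∈ Q, x = y * y := by
    rintro x hx t ht ⟨y, hy, h⟩
    obtain ⟨m, rfl⟩ : ∃ m, t = 2 * m + 1 := ⟨t / 2, by omega⟩
    refine ⟨(x ^ m)⁻¹ * y, mul_mem (inv_mem (zpow_mem hx m)) hy, ?_⟩
    rw [hsqQ _ (inv_mem (zpow_mem hx m)) _ hy, ← h, zpow_add, zpow_one, two_mul, zpow_add]
    group
  -- `w` acts trivially on `Q` modulo squares
  have hδp : ∃ r ∈ Q, w * p * w⁻¹ = p * (r * r) := by
    have hcl : ∀ x ∈ Q, ∃ y ∈ Q, x = y * y ∨ x = p * (y * y) ∨ x = a p * (y * y) ∨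
        x = p * a p * (y * y) := by
      intro x hx
      obtain ⟨i, j, rfl⟩ := hco x hx
      refine ⟨p ^ (i / 2) * a p ^ (j / 2), mul_mem (zpow_mem hp _) (zpow_mem hapQ _), ?_⟩
      have hcx : ∀ m n : ℤ, Commute ((a p) ^ m) (p ^ n) := fun m n =>
        Commute.zpow_zpow (hcomm _ hapQ _ hp) _ _
      have hy : p ^ (i / 2) * a p ^ (j / 2) * (p ^ (i / 2) * a p ^ (j / 2)) =
          p ^ (2 * (i / 2)) * a p ^ (2 * (j / 2)) := by
        rw [hsqQ _ (zpow_mem hp _) _ (zpow_mem hapQ _), two_mul, two_mul, zpow_add, zpow_add]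
      rw [hy]
      rcases Int.emod_two_eq_zero_or_one i with hi | hi <;>
        rcases Int.emod_two_eq_zero_or_one j with hj | hj
      · left
        rw [show 2 * (i / 2) = i by omega, show 2 * (j / 2) = j by omega]
      · right; right; left
        rw [show 2 * (i / 2) = i by omega, ← mul_assoc, show a p * p ^ i = p ^ i * a p from
          by simpa using (hcx 1 i).eq, mul_assoc, ← zpow_one_add,
          show 1 + 2 * (j / 2) = j by omega]
      · right; left
        rw [show 2 * (j / 2) = j by omega, ← mul_assoc, ← zpow_one_add,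
          show 1 + 2 * (i / 2) = i by omega]
      · right; right; right
        rw [← mul_assoc, mul_assoc p (a p), show a p * p ^ (2 * (i / 2)) = p ^ (2 * (i / 2)) * a p
          from by simpa using (hcx 1 _).eq, ← mul_assoc, ← zpow_one_add, mul_assoc, ← zpow_one_add,
          show 1 + 2 * (i / 2) = i by omega, show 1 + 2 * (j / 2) = j by omega]
    -- the map `φ` commutes with `a` and preserves squares
    let φ : G → G := fun x => w * x * w⁻¹
    have hφm : ∀ x y, φ (x * y) = φ x * φ y := fun x y => by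
      show w * (x * y) * w⁻¹ = w * x * w⁻¹ * (w * y * w⁻¹); group
    have hφQ : ∀ x ∈ Q, φ x ∈ Q := fun x hx => C.Qconj w C.wmem x hx
    have hφa : ∀ x ∈ Q, φ (a x) = a (φ x) := fun x hx => (C.conj_w (C.Qle hx)).symm
    obtain ⟨y, hy, h | h | h | h⟩ := hcl _ (hφQ p hp)
    · exfalso
      refine hpnot (w⁻¹ * y * w) (by simpa using C.Qconj w⁻¹ (inv_mem C.wmem) y hy) ?_
      calc p = w⁻¹ * φ p * w := by show p = w⁻¹ * (w * p * w⁻¹) * w; group
        _ = _ := by rw [h]; group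
    · exact ⟨y, hy, h⟩
    all_goals
      exfalso
      -- `φ p` is in another class; its third iterate is in the class of `p`
      suffices h3 : ∃ y ∈ Q, φ (φ (φ p)) = p * (y * y) by
        obtain ⟨z, hz, h3⟩ := h3
        let K : Subgroup ↥R :=
          { carrier := {x | ∃ y ∈ Q, (x : G) = y * y}
            one_mem' := ⟨1, one_mem _, by simp⟩
            mul_mem' := by
              rintro x x' ⟨y, hy, hx⟩ ⟨y', hy', hx'⟩
              exact ⟨y * y', mul_mem hy hy', by rw [Subgroup.coe_mul, hx, hx', hsqQ y hy y' hy']⟩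
            inv_mem' := by
              rintro x ⟨y, hy, hx⟩
              exact ⟨y⁻¹, inv_mem hy, by rw [Subgroup.coe_inv, hx, mul_inv_rev]⟩ }
        haveI : K.Normal := ⟨fun x ⟨y, hy, hx⟩ r => ⟨(r : G) * y * (r : G)⁻¹,
          C.Qconj r r.2 y hy, by simp only [Subgroup.coe_mul, Subgroup.coe_inv, hx]; group⟩⟩
        have h1 : Commute (((⟨w, C.wmem⟩ : ↥R) : ↥R ⧸ K) ^ 3) ((⟨p, hpR⟩ : ↥R) : ↥R ⧸ K) := by
          show _ * _ = _ * _
          rw [← QuotientGroup.mk_pow, ← QuotientGroup.mk_mul, ← QuotientGroup.mk_mul]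
          refine QuotientGroup.eq.2 ⟨(w ^ 3)⁻¹ * z⁻¹ * w ^ 3, by
            simpa using C.Qconj (w ^ 3)⁻¹ (inv_mem (pow_mem C.wmem 3)) _ (inv_mem hz), ?_⟩
          have h3' : w ^ 3 * p * (w ^ 3)⁻¹ = p * (z * z) := by
            rw [← h3]; simp [φ, pow_succ, mul_assoc]
          simp only [Subgroup.coe_mul, Subgroup.coe_inv, Subgroup.coe_pow]
          calc (w ^ 3 * p)⁻¹ * (p * w ^ 3)
              = (w ^ 3)⁻¹ * (w ^ 3 * p * (w ^ 3)⁻¹)⁻¹ * p * w ^ 3 := by group
            _ = _ := by rw [h3']; group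
        have h2 := commute_of_cube ((hG.to_subgroup R).to_quotient K) h1
        obtain ⟨s, hs, hse⟩ := QuotientGroup.eq.1 h2.eq
        simp only [Subgroup.coe_mul, Subgroup.coe_inv, QuotientGroup.mk_mul] at hse
        -- so `φ p` is in the class of `p`
        have hφp : φ p = p * (w * s⁻¹ * w⁻¹ * (w * s⁻¹ * w⁻¹)) := by
          have e1 : p * w = w * p * (s * s) := by rw [← hse]; group
          show w * p * w⁻¹ = _
          calc w * p * w⁻¹ = w * p * (s * s) * (s * s)⁻¹ * w⁻¹ := by group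
            _ = p * w * (s * s)⁻¹ * w⁻¹ := by rw [e1]
            _ = _ := by group
        have hs' : w * s⁻¹ * w⁻¹ ∈ Q := C.Qconj w C.wmem _ (inv_mem hs)
        have hclash : ∀ t ∈ Q, ∀ t' ∈ Q, t * (y * y) = p * (t' * t') →
            ∃ y' ∈ Q, p⁻¹ * t = y' * y' := fun t ht t' ht' e => by
          refine ⟨t' * y⁻¹, mul_mem ht' (inv_mem hy), ?_⟩
          rw [hsqQ _ ht' _ (inv_mem hy)]
          calc p⁻¹ * t = p⁻¹ * (t * (y * y)) * (y * y)⁻¹ := by group
            _ = _ := by rw [e]; group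
        have k1 : ∀ t' ∈ Q, a p * (y * y) = p * (t' * t') → False := fun t' ht' e' => by
          obtain ⟨y', hy', e⟩ := hclash (a p) hapQ t' ht' e'
          apply hapΦ
          have e2 : a p = p * (y' * y') := by rw [← e]; group
          rw [e2]
          exact mul_mem hpΦ (hsqΦ _)
        have k2 : ∀ t' ∈ Q, p * a p * (y * y) = p * (t' * t') → False := fun t' ht' e' => by
          obtain ⟨y', hy', e⟩ := hclash (p * a p) (mul_mem hp hapQ) t' ht' e'
          apply hapΦ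
          have e2 : a p = y' * y' := by rw [← e]; group
          rw [e2]
          exact hsqΦ _
        first
          | exact k1 _ hs' (h.symm.trans hφp)
          | exact k2 _ hs' (h.symm.trans hφp)
      have hsq' : ∀ x ∈ Q, ∀ y ∈ Q, φ (x * (y * y)) = φ x * (φ y * φ y) := fun x _ y _ => by
        rw [hφm, hφm]
      have haz : ∀ x ∈ Q, ∀ y ∈ Q, a (x * (y * y)) = a x * (a y * a y) := fun x hx y hy => by
        rw [C.amul _ (C.Qle hx) _ (mul_mem (C.Qle hy) (C.Qle hy)),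
          C.amul _ (C.Qle hy) _ (C.Qle hy)]
      have hay := C.aQ y hy
      first
        | -- `φ p ≡ a p`
          have e2 : φ (φ p) = a (a p) * (a y * a y * (φ y * φ y)) := by
            rw [h, hsq' _ hapQ _ hy, hφa p hp, h, haz _ hapQ _ hy, mul_assoc]
          have e3 : φ (φ (φ p)) = p * (a (a y) * a (a y) * (φ (a y) * φ (a y) * (φ (φ y) * φ (φ y)))) := by
            rw [e2, hφm, hφm, hφm, hφm, hφa _ hapQ, hφa p hp, h, haz _ hapQ _ hy,
              haz _ (C.aQ _ hapQ) _ hay, C.athree p hpR, mul_assoc]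
          refine ⟨a (a y) * (φ (a y) * φ (φ y)), mul_mem (C.aQ _ hay)
            (mul_mem (hφQ _ hay) (hφQ _ (hφQ _ hy))), ?_⟩
          rw [e3, hsqQ _ (C.aQ _ hay) _ (mul_mem (hφQ _ hay) (hφQ _ (hφQ _ hy))),
            hsqQ _ (hφQ _ hay) _ (hφQ _ (hφQ _ hy))]
        | -- `φ p ≡ p * a p`
          have h' : φ p = a (a p) * ((p * a p * y) * (p * a p * y)) := by
            rw [h, hnormel p hp, hsqQ _ (mul_mem hp hapQ) _ hy]; group
          set y1 := p * a p * y with hy1'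
          have hy1 : y1 ∈ Q := mul_mem (mul_mem hp hapQ) hy
          have haap := C.aQ _ hapQ
          have e2 : φ (φ p) = a p * (a (a y1) * a (a y1) * (φ y1 * φ y1)) := by
            rw [h', hφm, hφm, hφa _ hapQ, hφa p hp, h', haz _ haap _ hy1, C.athree p hpR,
              haz _ hp _ (C.aQ _ hy1), mul_assoc]
          have e3 : φ (φ (φ p)) = p * (a y1 * a y1 * (φ (a (a y1)) * φ (a (a y1)) * (φ (φ y1) * φ (φ y1)))) := by
            rw [e2, hφm, hφm, hφm, hφm, hφa p hp, h', haz _ haap _ hy1, C.athree p hpR,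
              mul_assoc]
          refine ⟨a y1 * (φ (a (a y1)) * φ (φ y1)), mul_mem (C.aQ _ hy1)
            (mul_mem (hφQ _ (C.aQ _ (C.aQ _ hy1))) (hφQ _ (hφQ _ hy1))), ?_⟩
          rw [e3, hsqQ _ (C.aQ _ hy1) _ (mul_mem (hφQ _ (C.aQ _ (C.aQ _ hy1))) (hφQ _ (hφQ _ hy1))),
            hsqQ _ (hφQ _ (C.aQ _ (C.aQ _ hy1))) _ (hφQ _ (hφQ _ hy1))]
  obtain ⟨r, hr, hwp⟩ := hδp
  have hrR := C.Qle hr
  -- commutators of `w` with `Q` are squares
  have hδ : ∀ x ∈ Q, ∃ s ∈ Q, w * x * w⁻¹ = x * (s * s) := by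
    intro x hx
    rw [hgenQ] at hx
    induction hx using Subgroup.closure_induction with
    | mem y hy =>
      rcases hy with rfl | rfl
      · exact ⟨r, hr, hwp⟩
      · exact ⟨a r, C.aQ r hr, by
          rw [← C.conj_w hpR, hwp, C.amul _ hpR _ (mul_mem hrR hrR), C.amul _ hrR _ hrR]⟩
    | one => exact ⟨1, one_mem _, by simp⟩
    | mul x y hxc hyc ihx ihy =>
      rw [← hgenQ] at hxc hyc
      obtain ⟨s, hs, e⟩ := ihx
      obtain ⟨t, ht, f⟩ := ihy
      refine ⟨s * t, mul_mem hs ht, ?_⟩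
      rw [hsqQ s hs t ht, show w * (x * y) * w⁻¹ = (w * x * w⁻¹) * (w * y * w⁻¹) by group, e, f]
      calc x * (s * s) * (y * (t * t)) = x * (s * s * y) * (t * t) := by group
        _ = _ := by rw [hcomm _ (mul_mem hs hs) y hyc]; group
    | inv x hxc ih =>
      rw [← hgenQ] at hxc
      obtain ⟨s, hs, e⟩ := ih
      refine ⟨s⁻¹, inv_mem hs, ?_⟩
      rw [show w * x⁻¹ * w⁻¹ = (w * x * w⁻¹)⁻¹ by group, e]
      calc (x * (s * s))⁻¹ = (s⁻¹ * s⁻¹) * x⁻¹ := by group
        _ = _ := hcomm _ (mul_mem (inv_mem hs) (inv_mem hs)) _ (inv_mem hxc)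
  have hzp : ∀ x ∈ Q, ∀ y ∈ Q, ∀ k : ℤ, (x * y) ^ k = x ^ k * y ^ k := fun x hx y hy k =>
    Commute.mul_zpow (hcomm x hx y hy) k
  -- iterates of `w`, modulo fourth powers
  have hiter : ∀ x ∈ Q, ∀ s ∈ Q, w * x * w⁻¹ = x * (s * s) → ∀ n : ℕ, ∃ y ∈ Q,
      w ^ n * x * (w ^ n)⁻¹ = x * (s * s) ^ (n : ℤ) * y ^ (4 : ℤ) := by
    intro x hx s hs e n
    induction n with
    | zero => exact ⟨1, one_mem _, by simp⟩
    | succ n ih =>
      obtain ⟨y, hy, ih⟩ := ih
      obtain ⟨t, ht, f⟩ := hδ s hs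
      have hwy : w * y * w⁻¹ ∈ Q := C.Qconj w C.wmem y hy
      refine ⟨t ^ (n : ℤ) * (w * y * w⁻¹), mul_mem (zpow_mem ht _) hwy, ?_⟩
      have hs2 : w * (s * s) * w⁻¹ = (s * s) * t ^ (4 : ℤ) := by
        have h4 : t ^ (4 : ℤ) = (t * t) * (t * t) := by
          rw [show (4 : ℤ) = ((4 : ℕ) : ℤ) from rfl, zpow_natCast]; simp [pow_succ, mul_assoc]
        rw [h4, show w * (s * s) * w⁻¹ = (w * s * w⁻¹) * (w * s * w⁻¹) by group, f,
          hsqQ s hs _ (mul_mem ht ht)]
      calc w ^ (n + 1) * x * (w ^ (n + 1))⁻¹ = w * (w ^ n * x * (w ^ n)⁻¹) * w⁻¹ := by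
            rw [pow_succ']; group
        _ = (w * x * w⁻¹) * (w * (s * s) * w⁻¹) ^ (n : ℤ) * (w * y * w⁻¹) ^ (4 : ℤ) := by
            rw [ih, conj_zpow, conj_zpow]; group
        _ = x * (s * s) * ((s * s) * t ^ (4 : ℤ)) ^ (n : ℤ) * (w * y * w⁻¹) ^ (4 : ℤ) := by
            rw [e, hs2]
        _ = _ := by
            rw [hzp _ (mul_mem hs hs) _ (zpow_mem ht _), hzp _ (zpow_mem ht _) _ hwy, ← zpow_mul,
              ← zpow_mul, mul_comm (4 : ℤ) (n : ℤ), show ((n + 1 : ℕ) : ℤ) = 1 + (n : ℤ) by push_cast; ring,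
              zpow_add (s * s) 1, zpow_one]
            simp [mul_assoc]
  -- the action of `g`
  have hgp : g * p * g⁻¹ ∈ Q := C.gQ p hp
  obtain ⟨i, j, hgpe⟩ := hco _ hgp
  have hj : 2 ∣ j := hpar i j (hgpe ▸ (inferInstance : (frattini G).Normal).conj_mem p hpΦ g)
  obtain ⟨j', rfl⟩ := hj
  have hi : ¬ 2 ∣ i := by
    rintro ⟨i', rfl⟩
    apply hpnot (g⁻¹ * (p ^ i' * a p ^ j') * g)
    · have hm : p ^ i' * a p ^ j' ∈ Q := mul_mem (zpow_mem hp _) (zpow_mem hapQ _)
      -- `g⁻¹` also preserves `Q`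
      have h2 : g⁻¹ = g * (g * g)⁻¹ := by group
      rw [h2]
      have h3 := C.gQ _ (C.Qconj _ (inv_mem C.sq_mem) _ hm)
      convert h3 using 1
      group
    · have h1 : g * p * g⁻¹ = (p ^ i' * a p ^ j') * (p ^ i' * a p ^ j') := by
        rw [hgpe, hsqQ _ (zpow_mem hp _) _ (zpow_mem hapQ _), two_mul, two_mul, zpow_add, zpow_add]
      calc p = g⁻¹ * (g * p * g⁻¹) * g := by group
        _ = _ := by rw [h1]; group
  have hgw : g * w * g⁻¹ ∈ Subgroup.zpowers w := by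
    refine C.fixed_mem hfix (C.gR C.wmem) ?_
    have h := C.ga w C.wmem
    rw [C.aw] at h
    conv_lhs => rw [h]
    rw [C.athree _ (C.gR C.wmem)]
  obtain ⟨m, hm⟩ := Submonoid.mem_powers_iff _ _ |>.1 (mem_powers_iff_mem_zpowers.2 hgw)
  have hmodd : ¬ 2 ∣ m := by
    rintro ⟨m', rfl⟩
    obtain ⟨n, hn⟩ := hG w
    apply hw1
    have key : ∀ n : ℕ, w ^ 2 ^ n = 1 → w = 1 := by
      intro n
      induction n with
      | zero => intro h; simpa using h
      | succ n ih =>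
        intro h
        refine ih ?_
        have h1 : g * w ^ 2 ^ n * g⁻¹ = 1 := by
          rw [← conj_pow, ← hm, ← pow_mul, show 2 * m' * 2 ^ n = 2 ^ (n + 1) * m' by ring, pow_mul,
            h, one_pow]
        exact conj_eq_one_iff.1 h1
    exact key n hn
  obtain ⟨r', s', hre⟩ := hco r hr
  have hs'2 : 2 ∣ s' := by
    obtain ⟨y, hy, hgj⟩ := hiter p hp r hr hwp 1
    have hgr : g * r * g⁻¹ ∈ Q := C.gQ r hr
    -- conjugate the relation by `g`
    have h1 : w ^ m * (g * p * g⁻¹) * (w ^ m)⁻¹ =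
        (g * p * g⁻¹) * ((g * r * g⁻¹) * (g * r * g⁻¹)) := by
      rw [hm]
      calc g * w * g⁻¹ * (g * p * g⁻¹) * (g * w * g⁻¹)⁻¹ = g * (w * p * w⁻¹) * g⁻¹ := by group
        _ = _ := by rw [hwp]; group
    have har := C.aQ r hr
    have hwgp : w * (g * p * g⁻¹) * w⁻¹ =
        (g * p * g⁻¹) * ((r ^ i * a r ^ (2 * j')) * (r ^ i * a r ^ (2 * j'))) := by
      have hwap : w * a p * w⁻¹ = a p * (a r * a r) := by
        rw [← C.conj_w hpR, hwp, C.amul _ hpR _ (mul_mem hrR hrR), C.amul _ hrR _ hrR]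
      rw [hgpe, show w * (p ^ i * a p ^ (2 * j')) * w⁻¹ =
          (w * p ^ i * w⁻¹) * (w * a p ^ (2 * j') * w⁻¹) by group, ← conj_zpow, ← conj_zpow, hwp,
        hwap, hzp _ hp _ (mul_mem hr hr), hzp _ hapQ _ (mul_mem har har), hzp _ hr _ hr,
        hzp _ har _ har, hsqQ _ (zpow_mem hr _) _ (zpow_mem har _)]
      calc p ^ i * (r ^ i * r ^ i) * (a p ^ (2 * j') * (a r ^ (2 * j') * a r ^ (2 * j')))
          = p ^ i * (r ^ i * r ^ i * a p ^ (2 * j')) * (a r ^ (2 * j') * a r ^ (2 * j')) := by group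
        _ = _ := by
          rw [hcomm _ (mul_mem (zpow_mem hr i) (zpow_mem hr i)) _ (zpow_mem hapQ (2 * j'))]; group
    obtain ⟨y', hy', h2⟩ := hiter _ hgp (r ^ i * a r ^ (2 * j'))
      (mul_mem (zpow_mem hr _) (zpow_mem har _)) hwgp m
    rw [h1, mul_assoc (g * p * g⁻¹) _ (y' ^ (4 : ℤ))] at h2
    have h3 := mul_left_cancel h2
    obtain ⟨l, hl⟩ : ∃ l : ℤ, i * (m : ℤ) = 2 * l + 1 := by
      refine ⟨i * m / 2, ?_⟩
      have : ¬ 2 ∣ i * (m : ℤ) := fun h => by
        rcases Int.prime_two.dvd_or_dvd h with h | h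
        · exact hi h
        · exact hmodd (by exact_mod_cast h)
      omega
    have har' := zpow_mem har (j' * (m : ℤ))
    set t := r ^ l * a r ^ (j' * (m : ℤ)) * y' with ht
    have htQ : t ∈ Q := mul_mem (mul_mem (zpow_mem hr _) har') hy'
    have h4 : (g * r * g⁻¹) * (g * r * g⁻¹) = (r * (t * t)) * (r * (t * t)) := by
      rw [h3, ← zpow_two, ← zpow_two, ← zpow_two, ← zpow_mul, ht, hzp _ (mul_mem (zpow_mem hr _)
        har') _ hy', hzp _ (zpow_mem hr _) _ har', hzp _ hr _ (mul_mem (mul_mem (zpow_mem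
        (zpow_mem hr _) _) (zpow_mem har' _)) (zpow_mem hy' _)), hzp _ (mul_mem (zpow_mem
        (zpow_mem hr _) _) (zpow_mem har' _)) _ (zpow_mem hy' _), hzp _ (zpow_mem (zpow_mem hr _) _)
        _ (zpow_mem har' _), hzp _ (zpow_mem hr _) _ (zpow_mem har _), ← zpow_mul, ← zpow_mul,
        ← zpow_mul, ← zpow_mul, ← zpow_mul, ← zpow_mul, ← zpow_mul,
        show i * (2 * (m : ℤ)) = 2 + l * (2 * 2) by linear_combination 2 * hl, zpow_add,
        show (2 * j') * (2 * (m : ℤ)) = j' * (m : ℤ) * (2 * 2) by ring]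
      group
    set d := g * r * g⁻¹ * (r * (t * t))⁻¹ with hd
    have hdQ : d ∈ Q := mul_mem hgr (inv_mem (mul_mem hr (mul_mem htQ htQ)))
    have hd2 : d * d = 1 := by
      rw [hd, hsqQ _ hgr _ (inv_mem (mul_mem hr (mul_mem htQ htQ))), h4]; group
    obtain ⟨v, hv, hdv⟩ := hsqV d hdQ hd2
    have hgr' : g * r * g⁻¹ = r * (t * v * (t * v)) := by
      calc g * r * g⁻¹ = d * (r * (t * t)) := by rw [hd]; group
        _ = _ := by
          rw [hcomm d hdQ _ (mul_mem hr (mul_mem htQ htQ)), hdv, hsqQ _ htQ _ hv]; group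
    -- compare with the action on the generators
    by_contra hodd'
    apply hapΦ
    obtain ⟨i1, rfl⟩ : ∃ i1, i = 2 * i1 + 1 := ⟨i / 2, by omega⟩
    set f := p ^ i1 * a p ^ j' with hf
    have hfQ : f ∈ Q := mul_mem (zpow_mem hp _) (zpow_mem hapQ _)
    have hgp' : g * p * g⁻¹ = p * (f * f) := by
      rw [hgpe, hf, hsqQ _ (zpow_mem hp _) _ (zpow_mem hapQ _), two_mul, two_mul, zpow_add,
        zpow_add, zpow_add, zpow_one]
      group
    have hgap : g * a p * g⁻¹ = a (a p) * (a (a f) * a (a f)) := by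
      rw [C.ga p hpR, hgp', C.amul _ hpR _ (mul_mem (C.Qle hfQ) (C.Qle hfQ)),
        C.amul _ (C.Qle hfQ) _ (C.Qle hfQ),
        C.amul _ (C.amem p hpR) _ (mul_mem (C.amem _ (C.Qle hfQ)) (C.amem _ (C.Qle hfQ))),
        C.amul _ (C.amem _ (C.Qle hfQ)) _ (C.amem _ (C.Qle hfQ))]
    -- everything modulo squares
    set π := QuotientGroup.mk' (frattini G)
    have hπ2 : ∀ x : G, π (x * x) = 1 := fun x => (QuotientGroup.eq_one_iff _).2 (hsqΦ x)
    have hπp : π p = 1 := (QuotientGroup.eq_one_iff _).2 hpΦ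
    have hπgr : π (g * r * g⁻¹) = π r := by rw [hgr', map_mul, hπ2, mul_one]
    have hπap : π (a (a p)) = (π (a p))⁻¹ := by
      rw [hnormel p hp, map_inv, map_mul, hπp, one_mul]
    -- apply `a` to the relation
    have hs'odd : ¬ (2 : ℤ) ∣ s' := hodd'
    have e1 : a (g * r * g⁻¹) = a r * (a (t * v) * a (t * v)) := by
      rw [hgr', C.amul _ hrR _ (C.Qle (mul_mem (mul_mem htQ hv) (mul_mem htQ hv))),
        C.amul _ (C.Qle (mul_mem htQ hv)) _ (C.Qle (mul_mem htQ hv))]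
    have har_e : a r = a p ^ r' * a (a p) ^ s' := by
      rw [hre, C.amul _ (zpow_mem hpR _) _ (zpow_mem (C.amem p hpR) _), C.zpow hpR,
        C.zpow (C.amem p hpR)]
    have hgr_e : g * r * g⁻¹ = (g * p * g⁻¹) ^ r' * (g * a p * g⁻¹) ^ s' := by
      rw [hre, conj_zpow, conj_zpow]; group
    have e2 : a (g * r * g⁻¹) = (a (g * p * g⁻¹)) ^ r' * (a (g * a p * g⁻¹)) ^ s' := by
      rw [hgr_e, C.amul _ (zpow_mem (C.Qle hgp) _) _ (zpow_mem (C.Qle (C.gQ _ hapQ)) _),
        C.zpow (C.Qle hgp), C.zpow (C.Qle (C.gQ _ hapQ))]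
    have hπag : π (a (g * p * g⁻¹)) = π (a p) := by
      rw [hgp', C.amul _ hpR _ (mul_mem (C.Qle hfQ) (C.Qle hfQ)),
        C.amul _ (C.Qle hfQ) _ (C.Qle hfQ), map_mul, hπ2, mul_one]
    have hπagap : π (a (g * a p * g⁻¹)) = 1 := by
      rw [hgap, C.amul _ (C.Qle (C.aQ _ hapQ)) _ (C.Qle (mul_mem (C.aQ _ (C.aQ _ hfQ))
        (C.aQ _ (C.aQ _ hfQ)))), C.athree p hpR, C.amul _ (C.Qle (C.aQ _ (C.aQ _ hfQ))) _
        (C.Qle (C.aQ _ (C.aQ _ hfQ))), map_mul, hπ2, mul_one, hπp]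
    have e3 := congrArg π (e2.symm.trans e1)
    rw [map_mul, map_mul, hπ2, mul_one, map_zpow, map_zpow, hπag, hπagap, one_zpow, mul_one, har_e,
      map_mul, map_zpow, map_zpow, hπap] at e3
    have e4 : π (a p) ^ s' = 1 := by
      have := mul_eq_left.1 e3.symm
      rwa [inv_zpow, inv_eq_one] at this
    have h5 : a p ^ s' ∈ frattini G := by
      rw [← map_zpow] at e4
      exact (QuotientGroup.eq_one_iff _).1 e4
    exact absurd (hpar 0 s' (by simpa using h5)) hs'odd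
  obtain ⟨s'', rfl⟩ := hs'2
  have hrΦ : r ∈ frattini G := by
    rw [hre]
    refine mul_mem (zpow_mem hpΦ _) ?_
    rw [zpow_mul, zpow_two]
    exact zpow_mem (hsqΦ _) _
  -- squares of `Q ∩ Φ` absorb the commutators
  have hδ1 : ∀ x ∈ Q, x ∈ frattini G → ∃ y ∈ Q, y ∈ frattini G ∧ w * x * w⁻¹ = x * (y * y) := by
    intro x hx hxΦ
    obtain ⟨i2, j2, rfl⟩ := hco x hx
    obtain ⟨k, rfl⟩ := hpar i2 j2 hxΦ
    refine ⟨r ^ i2 * (a r ^ k * a r ^ k), mul_mem (zpow_mem hr _) (mul_mem (zpow_mem (C.aQ r hr) _)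
      (zpow_mem (C.aQ r hr) _)), mul_mem (zpow_mem hrΦ _) (hsqΦ _), ?_⟩
    have hwap : w * a p * w⁻¹ = a p * (a r * a r) := by
      rw [← C.conj_w hpR, hwp, C.amul _ hpR _ (mul_mem hrR hrR), C.amul _ hrR _ hrR]
    have har := C.aQ r hr
    rw [show w * (p ^ i2 * a p ^ (2 * k)) * w⁻¹ = (w * p ^ i2 * w⁻¹) * (w * a p ^ (2 * k) * w⁻¹)
      by group, ← conj_zpow, ← conj_zpow, hwp, hwap, hzp _ hp _ (mul_mem hr hr),
      hzp _ hapQ _ (mul_mem har har), hzp _ hr _ hr, hzp _ har _ har, ← zpow_add (a r) k k,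
      ← two_mul, hsqQ _ (zpow_mem hr _) _ (zpow_mem har _)]
    calc p ^ i2 * (r ^ i2 * r ^ i2) * (a p ^ (2 * k) * (a r ^ (2 * k) * a r ^ (2 * k)))
        = p ^ i2 * (r ^ i2 * r ^ i2 * a p ^ (2 * k)) * (a r ^ (2 * k) * a r ^ (2 * k)) := by group
      _ = _ := by
        rw [hcomm _ (mul_mem (zpow_mem hr i2) (zpow_mem hr i2)) _ (zpow_mem hapQ (2 * k))]; group
  set s := a p * a p with hs
  set H := Subgroup.closure ({p, s, w} : Set G) with hH
  have hHle : H ≤ frattini G := by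
    rw [hH, Subgroup.closure_le]
    rintro x (rfl | rfl | rfl)
    exacts [hpΦ, hsqΦ _, hwΦ]
  have hHm : Cfsg.IsMetacyclic ↥H := isMetacyclic_of_le hΦm hHle
  set T := Subgroup.closure ({t | ∃ y ∈ Q, y ∈ frattini G ∧ t = y * y} ∪ {w * w}) with hT
  have hTg : ∀ y ∈ Q, y ∈ frattini G → y * y ∈ T := fun y hy hyΦ =>
    Subgroup.subset_closure (Or.inl ⟨y, hy, hyΦ, rfl⟩)
  have hww : w * w ∈ T := Subgroup.subset_closure (Or.inr rfl)
  -- conjugation by `w`, and by elements of `Q ∩ Φ`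
  have hTw : ∀ t ∈ T, w * t * w⁻¹ ∈ T := by
    intro t ht
    induction ht using Subgroup.closure_induction with
    | mem t ht =>
      rcases ht with ⟨y, hy, hyΦ, rfl⟩ | rfl
      · rw [show w * (y * y) * w⁻¹ = (w * y * w⁻¹) * (w * y * w⁻¹) by group]
        exact hTg _ (C.Qconj w C.wmem y hy) ((inferInstance : (frattini G).Normal).conj_mem y hyΦ w)
      · simpa [mul_assoc] using hww
    | one => simp
    | mul x y _ _ hx hy =>
      rw [show w * (x * y) * w⁻¹ = (w * x * w⁻¹) * (w * y * w⁻¹) by group]; exact mul_mem hx hy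
    | inv x _ hx => rw [← conj_inv]; exact inv_mem hx
  have hTq : ∀ q ∈ Q, q ∈ frattini G → ∀ t ∈ T, q * t * q⁻¹ ∈ T := by
    intro q hq hqΦ t ht
    induction ht using Subgroup.closure_induction with
    | mem t ht =>
      rcases ht with ⟨y, hy, hyΦ, rfl⟩ | rfl
      · rw [hcomm q hq _ (mul_mem hy hy), mul_inv_cancel_right]; exact hTg _ hy hyΦ
      · obtain ⟨y, hy, hyΦ, e⟩ := hδ1 q hq hqΦ
        have hwy : w * y * w⁻¹ ∈ Q := C.Qconj w C.wmem y hy
        have e2 : q * (w * w) * q⁻¹ =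
            ((y * y * ((w * y * w⁻¹) * (w * y * w⁻¹)))⁻¹) * (w * w) := by
          have e3 : w * w * q * (w * w)⁻¹ = q * (y * y * ((w * y * w⁻¹) * (w * y * w⁻¹))) := by
            calc w * w * q * (w * w)⁻¹ = w * (w * q * w⁻¹) * w⁻¹ := by group
              _ = (w * q * w⁻¹) * ((w * y * w⁻¹) * (w * y * w⁻¹)) := by
                  conv_lhs => rw [e]
                  group
              _ = _ := by rw [e]; group
          set X := y * y * ((w * y * w⁻¹) * (w * y * w⁻¹))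
          have hXQ : X ∈ Q := mul_mem (mul_mem hy hy) (mul_mem hwy hwy)
          calc q * (w * w) * q⁻¹ = q * (w * w * q * (w * w)⁻¹)⁻¹ * (w * w) := by simp [mul_assoc]
            _ = q * (q * X)⁻¹ * (w * w) := by rw [e3]
            _ = (q * X⁻¹ * q⁻¹) * (w * w) := by group
            _ = _ := by rw [hcomm q hq _ (inv_mem hXQ), mul_inv_cancel_right]
        rw [e2]
        exact mul_mem (inv_mem (mul_mem (hTg _ hy hyΦ) (hTg _ hwy
          ((inferInstance : (frattini G).Normal).conj_mem y hyΦ w)))) hww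
    | one => simp
    | mul x y _ _ hx hy =>
      rw [show q * (x * y) * q⁻¹ = (q * x * q⁻¹) * (q * y * q⁻¹) by group]; exact mul_mem hx hy
    | inv x _ hx => rw [← conj_inv]; exact inv_mem hx
  have hsQ : s ∈ Q := mul_mem hapQ hapQ
  have hHnorm : H ≤ Subgroup.normalizer (T : Set G) := by
    rw [hH, Subgroup.closure_le]
    have key : ∀ x : G, (∀ t ∈ T, x * t * x⁻¹ ∈ T) → x ∈ Subgroup.normalizer (T : Set G) := by
      intro x hx
      have : T.map (MulAut.conj x).toMonoidHom = T := by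
        refine Subgroup.eq_of_le_of_card_ge ?_ (le_of_eq ?_)
        · rintro _ ⟨t, ht, rfl⟩
          exact hx t ht
        · exact Nat.card_congr (T.equivMapOfInjective _ (MulAut.conj x).injective).toEquiv
      refine Subgroup.mem_normalizer_iff.2 fun t => ⟨fun ht => hx t ht, fun ht => ?_⟩
      rw [← this] at ht
      obtain ⟨t', ht', e⟩ := ht
      have e' : x * t' * x⁻¹ = x * t * x⁻¹ := e
      rwa [mul_left_cancel (mul_right_cancel e')] at ht'
    rintro x (rfl | rfl | rfl)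
    exacts [key _ (hTq _ hp hpΦ), key _ (hTq _ hsQ (hsqΦ _)), key _ hTw]
  haveI : (T.subgroupOf H).Normal := Subgroup.normal_subgroupOf_of_le_normalizer hHnorm
  set N := T.subgroupOf H
  set P' : ↥H := ⟨p, Subgroup.subset_closure (by simp)⟩
  set S' : ↥H := ⟨s, Subgroup.subset_closure (by simp)⟩
  set W' : ↥H := ⟨w, Subgroup.subset_closure (by simp)⟩
  -- elements of `T`
  have hTform : ∀ t ∈ T, ∃ y ∈ Q, y ∈ frattini G ∧ ∃ k : ℤ, t = y * y * w ^ (2 * k) := by
    intro t ht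
    induction ht using Subgroup.closure_induction with
    | mem t ht =>
      rcases ht with ⟨y, hy, hyΦ, rfl⟩ | rfl
      · exact ⟨y, hy, hyΦ, 0, by simp⟩
      · exact ⟨1, one_mem _, one_mem _, 1, by rw [one_mul, one_mul, mul_one, zpow_two]⟩
    | one => exact ⟨1, one_mem _, one_mem _, 0, by simp⟩
    | mul x x' _ _ hx hx' =>
      obtain ⟨y, hy, hyΦ, k, rfl⟩ := hx
      obtain ⟨y', hy', hyΦ', k', rfl⟩ := hx'
      have hwy : w ^ (2 * k) * y' * (w ^ (2 * k))⁻¹ ∈ Q :=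
        C.Qconj _ (zpow_mem C.wmem _) y' hy'
      refine ⟨y * (w ^ (2 * k) * y' * (w ^ (2 * k))⁻¹), mul_mem hy hwy, mul_mem hyΦ
        ((inferInstance : (frattini G).Normal).conj_mem y' hyΦ' _), k + k', ?_⟩
      rw [hsqQ _ hy _ hwy, mul_add, zpow_add]; group
    | inv x _ hx =>
      obtain ⟨y, hy, hyΦ, k, rfl⟩ := hx
      have hwy : (w ^ (2 * k))⁻¹ * y⁻¹ * w ^ (2 * k) ∈ Q := by
        simpa using C.Qconj _ (inv_mem (zpow_mem C.wmem (2 * k))) _ (inv_mem hy)
      refine ⟨(w ^ (2 * k))⁻¹ * y⁻¹ * w ^ (2 * k), hwy, ?_, -k, ?_⟩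
      · simpa using (inferInstance : (frattini G).Normal).conj_mem _ (inv_mem hyΦ)
          (w ^ (2 * k))⁻¹
      · rw [mul_neg, zpow_neg]; group
  have hQT : ∀ x ∈ Q, x ∈ T → ∃ y ∈ Q, y ∈ frattini G ∧ x = y * y := by
    intro x hx hxT
    obtain ⟨y, hy, hyΦ, k, e⟩ := hTform x hxT
    refine ⟨y, hy, hyΦ, ?_⟩
    have h1 := hQw ((y * y)⁻¹ * x) (mul_mem (inv_mem (mul_mem hy hy)) hx) (2 * k) (by rw [e]; group)
    exact (inv_mul_eq_one.1 h1).symm
  have hwT : ∀ x ∈ Q, x * w ∉ T := by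
    intro x hx hxT
    obtain ⟨y, hy, hyΦ, k, e⟩ := hTform _ hxT
    have h1 : (y * y)⁻¹ * x = w ^ (2 * k - 1) := by
      calc (y * y)⁻¹ * x = (y * y)⁻¹ * (x * w) * w⁻¹ := by group
        _ = _ := by rw [e, zpow_sub, zpow_one]; group
    have h2 : w ^ (2 * k - 1) = 1 :=
      h1.symm.trans (hQw _ (mul_mem (inv_mem (mul_mem hy hy)) hx) _ h1)
    obtain ⟨n, hn⟩ := hG w
    apply hw1
    rw [← orderOf_eq_one_iff]
    obtain ⟨l, -, hl⟩ := (Nat.dvd_prime_pow Nat.prime_two).1 (orderOf_dvd_of_pow_eq_one hn)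
    rcases Nat.eq_zero_or_pos l with rfl | hl0
    · simpa using hl
    · exfalso
      have h3 : (orderOf w : ℤ) ∣ 2 * k - 1 := orderOf_dvd_iff_zpow_eq_one.2 h2
      have h4 : (2 : ℤ) ∣ (orderOf w : ℤ) := by
        rw [hl]; exact_mod_cast dvd_pow_self 2 hl0.ne'
      have := h4.trans h3
      omega
  have hmet : Cfsg.IsMetacyclic ↥(⊤ : Subgroup (↥H ⧸ N)) :=
    isMetacyclic_subgroup (isMetacyclic_of_surjective hHm _ (QuotientGroup.mk'_surjective N)) ⊤
  have hone : ∀ x : ↥H, ((x : ↥H ⧸ N) = 1) ↔ (x : G) ∈ T := fun x => QuotientGroup.eq_one_iff x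
  have hP2 : (P' : ↥H ⧸ N) * P' = 1 := (hone (P' * P')).2 (hTg p hp hpΦ)
  have hS2 : (S' : ↥H ⧸ N) * S' = 1 := (hone (S' * S')).2 (hTg s hsQ (hsqΦ _))
  have hW2 : (W' : ↥H ⧸ N) * W' = 1 := (hone (W' * W')).2 hww
  have hcw : ∀ x : ↥H, (x : G) ∈ Q → (x : G) ∈ frattini G → Commute (x : ↥H ⧸ N) W' := by
    intro x hx hxΦ
    show _ * _ = _ * _
    rw [← QuotientGroup.mk_mul, ← QuotientGroup.mk_mul, QuotientGroup.eq]
    obtain ⟨y, hy, hyΦ, e⟩ := hδ1 _ hx hxΦ
    show ((x * W')⁻¹ * (W' * x) : ↥H).1 ∈ T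
    simp only [Subgroup.coe_mul, Subgroup.coe_inv]
    have e2 : ((x : G) * w)⁻¹ * (w * x) = w⁻¹ * (y * y) * w := by
      calc ((x : G) * w)⁻¹ * (w * x) = w⁻¹ * (x : G)⁻¹ * (w * x * w⁻¹) * w := by group
        _ = _ := by rw [e]; group
    show ((x : G) * w)⁻¹ * (w * x) ∈ T
    rw [e2]
    have hm' : w⁻¹ * y * w ∈ Q := by simpa using C.Qconj w⁻¹ (inv_mem C.wmem) y hy
    rw [show w⁻¹ * (y * y) * w = (w⁻¹ * y * w) * (w⁻¹ * y * w) by group]
    exact hTg _ hm' (by simpa using (inferInstance : (frattini G).Normal).conj_mem y hyΦ w⁻¹)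
  have hPS : Commute (P' : ↥H ⧸ N) S' :=
    congrArg (QuotientGroup.mk' N) (Subtype.ext (hcomm p hp s hsQ) : P' * S' = S' * P')
  have hP1 : (P' : ↥H ⧸ N) ≠ 1 := fun h => by
    obtain ⟨y, hy, -, e⟩ := hQT p hp ((hone P').1 h)
    exact hpnot y hy e
  have hS1 : (S' : ↥H ⧸ N) ≠ 1 := fun h => by
    obtain ⟨y, hy, hyΦ, e⟩ := hQT s hsQ ((hone S').1 h)
    obtain ⟨z, hz, e2⟩ := hsqV (a p * y⁻¹) (mul_mem hapQ (inv_mem hy)) (by
      rw [hsqQ _ hapQ _ (inv_mem hy), ← hs, e]; group)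
    apply hapΦ
    have e3 : a p = (z * z) * y := by rw [← e2]; group
    rw [e3]
    exact mul_mem (hsqΦ z) hyΦ
  have hne' : (P' : ↥H ⧸ N) ≠ S' := fun h => by
    have h1 : ((P' * S'⁻¹ : ↥H) : ↥H ⧸ N) = 1 := by
      rw [QuotientGroup.mk_mul, QuotientGroup.mk_inv, h, mul_inv_cancel]
    obtain ⟨y, hy, -, e⟩ := hQT (p * s⁻¹) (mul_mem hp (inv_mem hsQ)) ((hone _).1 h1)
    apply hpnot (y * a p) (mul_mem hy hapQ)
    rw [hsqQ _ hy _ hapQ, ← e, ← hs]; group
  have hWx : ∀ x : ↥H, (x : G) ∈ Q → (W' : ↥H ⧸ N) ≠ x := fun x hx h => by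
    have h1 : ((x⁻¹ * W' : ↥H) : ↥H ⧸ N) = 1 := by
      rw [QuotientGroup.mk_mul, QuotientGroup.mk_inv, h, inv_mul_cancel]
    exact hwT _ (inv_mem hx) ((hone _).1 h1)
  rcases four_mem hmet (Subgroup.mem_top (P' : ↥H ⧸ N)) (Subgroup.mem_top (S' : ↥H ⧸ N))
      (Subgroup.mem_top (W' : ↥H ⧸ N)) hP2 hS2 hW2 hPS (hcw P' hp hpΦ) (hcw S' hsQ (hsqΦ _)) hP1
      hS1 hne' with h | h | h | h
  · exact hWx 1 (one_mem _) h
  · exact hWx P' hp h
  · exact hWx S' hsQ h
  · exact hWx (P' * S') (mul_mem hp hsQ) h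

/-- Involutions in the Frattini subgroup, the complement inside it. -/
theorem cyclic_inner (hG : IsPGroup 2 G) (hΦm : Cfsg.IsMetacyclic ↥(frattini G))
    (hab : ∀ p ∈ commutator G, ∀ q ∈ commutator G, p * q = q * p)
    (hcomm : ∀ p ∈ Q, ∀ q ∈ Q, p * q = q * p) {u : G} (hu : u ∈ Q) (hu2 : u * u = 1)
    (hinv : ∀ v ∈ Q, v * v = 1 → v = 1 ∨ v = u ∨ v = a u ∨ v = u * a u)
    (hnormu : a (a u) = u * a u)
    (hR : ∀ r ∈ R, Commute r u ∧ Commute r (a u)) (hsqV : ∀ v ∈ Q, v * v = 1 → ∃ y ∈ Q, v = y * y)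
    (hfix : ∀ q ∈ Q, a q = q → q = 1) (hgenQ : ∃ p ∈ Q, Q = Subgroup.closure ({p, a p} : Set G))
    (hnormal : R.Normal) (htop : Subgroup.normalizer (R : Set G) = ⊤)
    (hgen : ∀ h ∈ R, h ∉ frattini G → Subgroup.closure ({g, h} : Set G) = ⊤)
    (hh : ∃ h ∈ R, h ∉ frattini G) (hwΦ : w ∈ frattini G) : IsCyclic ↥(commutator G) := by
  classical
  obtain ⟨q, hq, hqΦ⟩ : ∃ q ∈ Q, q ∉ frattini G := by
    obtain ⟨h, hh, hhΦ⟩ := hh
    obtain ⟨q, hq, k, rfl⟩ := C.split h hh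
    exact ⟨q, hq, fun e => hhΦ (mul_mem e (zpow_mem hwΦ k))⟩
  have hgq := hgen q (C.Qle hq) hqΦ
  have hΦR : frattini G ≤ R := by
    intro f hf
    by_contra hfR
    have h1 : g⁻¹ * f ∈ R := (C.norm f (by rw [htop]; trivial)).resolve_left hfR
    have h2 : R ⊔ frattini G = ⊤ := eq_top_iff.2 fun x _ => by
      have hg : g ∈ R ⊔ frattini G := by
        simpa using mul_mem (Subgroup.mem_sup_right hf) (inv_mem (Subgroup.mem_sup_left h1) :
          (g⁻¹ * f)⁻¹ ∈ R ⊔ frattini G)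
      rcases C.norm x (by rw [htop]; trivial) with h | h
      · exact Subgroup.mem_sup_left h
      · simpa using mul_mem hg (Subgroup.mem_sup_left h : g⁻¹ * x ∈ R ⊔ frattini G)
    exact C.gnot (frattini_nongenerating h2 ▸ Subgroup.mem_top g)
  have hprod : ∀ x ∈ R, x ∉ frattini G → ∀ y ∈ R, y ∉ frattini G → x * y ∈ frattini G := by
    intro x hx hxΦ y hy hyΦ
    rcases class_mod_frattini hG (hgen x hx hxΦ) y with h | h | h | h
    · exact absurd h hyΦ
    · refine absurd ?_ C.gnot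
      simpa [mul_assoc] using mul_mem hy (inv_mem (hΦR h))
    · simpa [mul_assoc] using mul_mem (sq_mem_frattini hG x) h
    · refine absurd ?_ C.gnot
      simpa [mul_assoc] using mul_mem (mul_mem hy (inv_mem (hΦR h))) (inv_mem hx)
  by_cases hcQ : ∀ x ∈ Q, Commute w x
  · -- `g` induces an involution on `Q`
    have hg2 : ∀ x ∈ Q, g * (g * x * g⁻¹) * g⁻¹ = x := by
      intro x hx
      obtain ⟨q', hq', k, e⟩ := C.split _ C.sq_mem
      have hc : Commute (g * g) x :=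
        e ▸ Commute.mul_left (hcomm q' hq' x hx) ((hcQ x hx).zpow_left k)
      calc g * (g * x * g⁻¹) * g⁻¹ = (g * g) * x * (g * g)⁻¹ := by group
        _ = x := by rw [hc.eq, mul_inv_cancel_right]
    let D : Subgroup G :=
      { carrier := {d | ∃ x ∈ Q, d = g * x * g⁻¹ * x⁻¹}
        one_mem' := ⟨1, one_mem _, by simp⟩
        mul_mem' := by
          rintro _ _ ⟨x, hx, rfl⟩ ⟨y, hy, rfl⟩
          refine ⟨x * y, mul_mem hx hy, ?_⟩
          calc g * x * g⁻¹ * x⁻¹ * (g * y * g⁻¹ * y⁻¹)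
              = g * x * g⁻¹ * (x⁻¹ * (g * y * g⁻¹)) * y⁻¹ := by group
            _ = g * x * g⁻¹ * (g * y * g⁻¹) * (x⁻¹ * y⁻¹) := by
                rw [hcomm _ (inv_mem hx) _ (C.gQ y hy)]; group
            _ = _ := by rw [hcomm _ (inv_mem hx) _ (inv_mem hy), mul_inv_rev]; group
        inv_mem' := by
          rintro _ ⟨x, hx, rfl⟩
          refine ⟨x⁻¹, inv_mem hx, ?_⟩
          calc (g * x * g⁻¹ * x⁻¹)⁻¹ = x * (g * x⁻¹ * g⁻¹) := by group
            _ = _ := by rw [hcomm _ hx _ (C.gQ _ (inv_mem hx)), inv_inv] }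
    have hDQ : ∀ d ∈ D, d ∈ Q := by
      rintro _ ⟨x, hx, rfl⟩
      exact mul_mem (C.gQ x hx) (inv_mem hx)
    have hDg : ∀ d ∈ D, g * d * g⁻¹ = d⁻¹ := by
      rintro _ ⟨x, hx, rfl⟩
      rw [show g * (g * x * g⁻¹ * x⁻¹) * g⁻¹ =
        g * (g * x * g⁻¹) * g⁻¹ * (g * x * g⁻¹)⁻¹ by group, hg2 x hx]
      group
    haveI : D.Normal := by
      rw [← Subgroup.normalizer_eq_top_iff]
      refine eq_top_iff.2 (hgq ▸ (Subgroup.closure_le _).2 ?_)
      rintro y (rfl | rfl) <;> refine Subgroup.mem_normalizer_iff.2 fun d => ⟨fun hd => ?_, fun hd => ?_⟩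
      · rw [hDg d hd]; exact inv_mem hd
      · have h1 := hDg _ hd
        have h2 : y * (y * d * y⁻¹) * y⁻¹ = d := by
          have hdQ : d ∈ Q := by
            have h3 := C.gQ _ (hDQ _ hd)
            have h4 := C.Qconj _ (inv_mem C.sq_mem) _ h3
            convert h4 using 1
            group
          exact hg2 d hdQ
        rw [← h2, h1]; exact inv_mem hd
      · rw [hcomm _ hq d (hDQ d hd), mul_inv_cancel_right]; exact hd
      · have hdQ : d ∈ Q := by
          have := C.Qconj y⁻¹ (inv_mem (C.Qle hq)) _ (hDQ _ hd)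
          simpa [mul_assoc] using this
        rwa [hcomm _ hq d hdQ, mul_inv_cancel_right] at hd
    have hle : commutator G ≤ D :=
      commutator_le_of_mem hgq (by rw [commutatorElement_def]; exact ⟨q, hq, rfl⟩)
    obtain ⟨z, hz⟩ : ∃ z : ↥(commutator G), ∀ x, x * x = 1 → x = 1 ∨ x = z := by
      have huniq : ∀ x y : G, x ∈ commutator G → y ∈ commutator G → x * x = 1 → y * y = 1 →
          x ≠ 1 → y ≠ 1 → x = y := by
        intro x y hx hy hx2 hy2 hx1 hy1
        by_contra hne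
        have hxy : ∀ x, x ∈ commutator G → x * x = 1 → Commute g x := by
          intro x hx hx2
          show g * x = x * g
          have h := hDg x (hle hx)
          rw [inv_eq_of_mul_eq_one_right hx2] at h
          exact mul_inv_eq_iff_eq_mul.1 h
        have hgx := hxy x hx hx2
        have hgy := hxy y hy hy2
        -- then `g` centralises all involutions of `Q`
        have hauu : ∀ v ∈ Q, v * v = 1 → Commute g v := by
          intro v hv hv2
          have hΦ : ∀ t ∈ Q, t * t = 1 → t ∈ frattini G := fun t ht ht2 => by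
            obtain ⟨c, -, e⟩ := hsqV t ht ht2
            rw [e]; exact sq_mem_frattini hG c
          have hxQ := hDQ x (hle hx)
          have hyQ := hDQ y (hle hy)
          rcases four_mem_frattini hG hΦm (hΦ x hxQ hx2) (hΦ y hyQ hy2) (hΦ v hv hv2) hx2 hy2 hv2
            hx1 hy1 hne with rfl | rfl | rfl | rfl
          exacts [Commute.one_right g, hgx, hgy, hgx.mul_right hgy]
        have hall : Commute g u ∧ Commute g (a u) :=
          ⟨hauu u hu hu2, hauu _ (C.aQ u hu)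
            (by rw [← C.amul _ (C.Qle hu) _ (C.Qle hu), hu2, C.one])⟩
        have h1 := C.ga u (C.Qle hu)
        rw [hall.2.eq, mul_inv_cancel_right, hall.1.eq, mul_inv_cancel_right] at h1
        have h2 : u = a u := C.inj (C.Qle hu) (C.amem u (C.Qle hu)) h1
        have h3 : u = 1 := hfix u hu h2.symm
        rcases hinv x (hDQ x (hle hx)) hx2 with h | h | h | h
        · exact hx1 h
        all_goals
          apply hx1
          simp [h, h3, C.one]
      by_cases hex : ∃ x : ↥(commutator G), x * x = 1 ∧ x ≠ 1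
      · obtain ⟨z, hz2, hz1⟩ := hex
        refine ⟨z, fun x hx => ?_⟩
        by_cases hx1 : x = 1
        · exact Or.inl hx1
        · exact Or.inr (Subtype.ext (huniq x z x.2 z.2 (congrArg Subtype.val hx)
            (congrArg Subtype.val hz2) (fun e => hx1 (Subtype.ext e))
            (fun e => hz1 (Subtype.ext e))))
      · push Not at hex
        exact ⟨1, fun x hx => Or.inl (hex x hx)⟩
    exact isCyclic_of_involution (hG.to_subgroup _)
      (fun x y => Subtype.ext (hab x x.2 y y.2)) hz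
  · exfalso
    push Not at hcQ
    obtain ⟨x₀, hx₀, hne⟩ := hcQ
    obtain ⟨p, hp, hQp⟩ := hgenQ
    have hnp : ∀ y ∈ Q, y * a y * a (a y) = 1 := fun y hy => by
      have hy1 := C.aQ y hy
      have hy2 := C.aQ _ hy1
      refine hfix _ (mul_mem (mul_mem hy hy1) hy2) ?_
      rw [C.amul _ (C.Qle (mul_mem hy hy1)) _ (C.Qle hy2), C.amul _ (C.Qle hy) _ (C.Qle hy1),
        C.athree y (C.Qle hy), hcomm (a y * a (a y)) (mul_mem hy1 hy2) y hy, mul_assoc]
    have hQp' : ∀ y ∈ Q, Q = Subgroup.closure ({y, a y} : Set G) →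
        Q = Subgroup.closure ({a y, a (a y)} : Set G) := by
      intro y hy e
      have h1 : y = (a y * a (a y))⁻¹ :=
        eq_inv_of_mul_eq_one_left (by rw [← mul_assoc]; exact hnp y hy)
      refine le_antisymm (e.le.trans ?_) ?_
      · rw [Subgroup.closure_le]
        have hm : (a y * a (a y))⁻¹ ∈ Subgroup.closure ({a y, a (a y)} : Set G) :=
          inv_mem (mul_mem (Subgroup.subset_closure (by simp)) (Subgroup.subset_closure (by simp)))
        rw [← h1] at hm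
        rintro t (rfl | rfl)
        · exact hm
        · exact Subgroup.subset_closure (by simp)
      · rw [Subgroup.closure_le]
        rintro t (rfl | rfl)
        exacts [C.aQ y hy, C.aQ _ (C.aQ y hy)]
    obtain ⟨p', hp', hQp'', hp'Φ⟩ : ∃ p' ∈ Q, Q = Subgroup.closure ({p', a p'} : Set G) ∧
        p' ∈ frattini G := by
      by_cases h1 : p ∈ frattini G
      · exact ⟨p, hp, hQp, h1⟩
      by_cases h2 : a p ∈ frattini G
      · exact ⟨a p, C.aQ p hp, hQp' p hp hQp, h2⟩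
      refine ⟨a (a p), C.aQ _ (C.aQ p hp), hQp' _ (C.aQ p hp) (hQp' p hp hQp), ?_⟩
      have h3 := hnp p hp
      rw [eq_inv_of_mul_eq_one_right h3]
      exact inv_mem (hprod p (C.Qle hp) h1 _ (C.amem p (C.Qle hp)) h2)
    have hap : a p' ∉ frattini G := fun h => hqΦ (by
      have hq' := hQp''.le hq
      exact (Subgroup.closure_le _).2 (by rintro t (rfl | rfl) <;> assumption) hq')
    refine C.no_twist hG hΦm hcomm hsqV hfix hp' hQp'' hp'Φ hap hwΦ fun hc => hne ?_
    have h2 : Commute w (a p') := by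
      show w * a p' = a p' * w
      have h := congrArg a hc.eq
      rwa [C.amul _ C.wmem _ (C.Qle hp'), C.amul _ (C.Qle hp') _ C.wmem, C.aw] at h
    suffices hall : ∀ t ∈ Subgroup.closure ({p', a p'} : Set G), Commute w t from
      hall _ (hQp''.le hx₀)
    intro t ht
    induction ht using Subgroup.closure_induction with
    | mem t ht => rcases ht with rfl | rfl <;> assumption
    | one => exact Commute.one_right w
    | mul x y _ _ hx hy => exact hx.mul_right hy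
    | inv x _ hx => exact hx.inv_right

/-- The homocyclic case. -/
theorem cyclic_hom (hG : IsPGroup 2 G) (hgen : Gen2 (⊤ : Subgroup G))
    (hΦm : Cfsg.IsMetacyclic ↥(frattini G)) (hc : commutator G ≤ frattini G)
    (hab : ∀ p ∈ commutator G, ∀ q ∈ commutator G, p * q = q * p)
    (hcomm : ∀ p ∈ Q, ∀ q ∈ Q, p * q = q * p) {u : G} (hu : u ∈ Q) (hu2 : u * u = 1) (hu1 : u ≠ 1)
    (hmove : a u ≠ u) (hnorm : a (a u) = u * a u)
    (hinv : ∀ v ∈ Q, v * v = 1 → v = 1 ∨ v = u ∨ v = a u ∨ v = u * a u)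
    (hfix : ∀ q ∈ Q, a q = q → q = 1) (hgenQ : ∃ p ∈ Q, Q = Subgroup.closure ({p, a p} : Set G)) :
    IsCyclic ↥(commutator G) := by
  classical
  have hau := C.aQ u hu
  have hau2 : a u * a u = 1 := by rw [← C.amul _ (C.Qle hu) _ (C.Qle hu), hu2, C.one]
  have hau1 : a u ≠ 1 := fun h => hu1 (C.inj (C.Qle hu) (one_mem R) (h.trans C.one.symm))
  have hR := C.cases_hom hG hcomm hu hu2 hu1 hinv hnorm
  by_cases hsq : ∀ q ∈ Q, q * q = 1
  swap
  · push Not at hsq
    obtain ⟨q, hq, hq2⟩ := hsq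
    -- all involutions of `Q` are squares
    obtain ⟨y, hy, hy2, hy4⟩ : ∃ y ∈ Q, y * y ≠ 1 ∧ y * y * (y * y) = 1 := by
      obtain ⟨n, hn⟩ := hG q
      induction n generalizing q with
      | zero => rw [pow_zero, pow_one] at hn; exact absurd (by rw [hn, one_mul]) hq2
      | succ n ih =>
        by_cases h4 : q * q * (q * q) = 1
        · exact ⟨q, hq, hq2, h4⟩
        · exact ih (q * q) (mul_mem hq hq) h4 (by rw [← pow_two, ← pow_mul, ← pow_succ']; exact hn)
    have hy' := C.aQ y hy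
    have hy'' := C.aQ _ hy'
    have ey : a y * a y = a (y * y) := (C.amul _ (C.Qle hy) _ (C.Qle hy)).symm
    have ey2 : a (a y) * a (a y) = a (a (y * y)) := by
      rw [← ey, C.amul _ (C.Qle hy') _ (C.Qle hy')]
    have hau' : a (u * a u) = a u * a (a u) := C.amul _ (C.Qle hu) _ (C.Qle hau)
    have haau : a u * (u * a u) = u := by
      rw [← mul_assoc, hcomm _ hau _ hu, mul_assoc, hau2, mul_one]
    have hsqall : ∀ v ∈ Q, v * v = 1 → ∃ t ∈ Q, v = t * t := by
      intro v hv hv2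
      have h123 : (∃ t ∈ Q, u = t * t) ∧ (∃ t ∈ Q, a u = t * t) := by
        rcases hinv _ (mul_mem hy hy) hy4 with h | h | h | h
        · exact absurd h hy2
        · exact ⟨⟨y, hy, h.symm⟩, ⟨a y, hy', by rw [ey, h]⟩⟩
        · exact ⟨⟨a (a y), hy'', by rw [ey2, h, C.athree u (C.Qle hu)]⟩, ⟨y, hy, h.symm⟩⟩
        · refine ⟨⟨a y, hy', by rw [ey, h, hau', hnorm, haau]⟩, ⟨a (a y), hy'', ?_⟩⟩
          rw [ey2, h, hau', hnorm, haau]
      obtain ⟨⟨t1, ht1, e1⟩, ⟨t2, ht2, e2⟩⟩ := h123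
      rcases hinv v hv hv2 with h | h | h | h
      · exact ⟨1, one_mem _, by rw [h, one_mul]⟩
      · exact ⟨t1, ht1, h.trans e1⟩
      · exact ⟨t2, ht2, h.trans e2⟩
      · refine ⟨t1 * t2, mul_mem ht1 ht2, ?_⟩
        rw [h, e2, e1]
        calc t1 * t1 * (t2 * t2) = t1 * (t1 * t2) * t2 := by group
          _ = _ := by
            conv_lhs => rw [hcomm t1 ht1 t2 ht2]
            group
    have huΦ : u ∈ frattini G := by
      obtain ⟨t, -, e⟩ := hsqall u hu hu2; rw [e]; exact sq_mem_frattini hG t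
    have hauΦ : a u ∈ frattini G := by
      obtain ⟨t, -, e⟩ := hsqall _ hau hau2; rw [e]; exact sq_mem_frattini hG t
    have hm : ¬ (Commute g u ∧ Commute g (a u)) := by
      rintro ⟨h1, h2⟩
      have h := C.ga u (C.Qle hu)
      rw [h2.eq, mul_inv_cancel_right, h1.eq, mul_inv_cancel_right] at h
      exact hmove (C.inj (C.Qle hu) (C.amem _ (C.Qle hu)) h).symm
    obtain ⟨hn, htop, hh, hgen'⟩ := normal_of_moves hG hgen hΦm C.gnorm C.norm huΦ hauΦ hu2 hau2
      hu1 hau1 (Ne.symm hmove) hR hm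
    by_cases hwΦ : w ∈ frattini G
    · exact C.cyclic_inner hG hΦm hab hcomm hu hu2 hinv hnorm hR hsqall hfix hgenQ hn htop hgen' hh hwΦ
    · exact C.cyclic_complement hG hfix (hgen' w C.wmem hwΦ)
  · -- `Q` is a four-group
    have hQ4 : ∀ q ∈ Q, q = 1 ∨ q = u ∨ q = a u ∨ q = u * a u := fun q hq => hinv q hq (hsq q hq)
    by_cases hin : u ∈ frattini G ∧ a u ∈ frattini G
    · have hm : ¬ (Commute g u ∧ Commute g (a u)) := by
        rintro ⟨h1, h2⟩
        have h := C.ga u (C.Qle hu)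
        rw [h2.eq, mul_inv_cancel_right, h1.eq, mul_inv_cancel_right] at h
        exact hmove (C.inj (C.Qle hu) (C.amem _ (C.Qle hu)) h).symm
      obtain ⟨hn, htop, ⟨h, hh, hhΦ⟩, hgen'⟩ := normal_of_moves hG hgen hΦm C.gnorm C.norm hin.1
        hin.2 hu2 hau2 hu1 hau1 (Ne.symm hmove) hR hm
      refine C.cyclic_complement hG hfix (hgen' w C.wmem fun hwΦ => hhΦ ?_)
      obtain ⟨q, hq, k, rfl⟩ := C.split h hh
      refine mul_mem ?_ (zpow_mem hwΦ k)
      rcases hQ4 q hq with rfl | rfl | rfl | rfl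
      exacts [one_mem _, hin.1, hin.2, mul_mem hin.1 hin.2]
    · obtain ⟨b, hb, hbΦ, hb1, hbm, hbn⟩ : ∃ b ∈ Q, b ∉ frattini G ∧ b ≠ 1 ∧ a b ≠ b ∧
          a (a b) = b * a b := by
        by_cases h : u ∈ frattini G
        · refine ⟨a u, hau, fun h' => hin ⟨h, h'⟩, hau1, fun h' =>
            hmove (C.inj (C.Qle hau) (C.Qle hu) h'), ?_⟩
          have h2 : a (a (a u)) = a (u * a u) := congrArg a hnorm
          rw [h2, C.amul _ (C.Qle hu) _ (C.Qle hau)]
        · exact ⟨u, hu, h, hu1, hmove, hnorm⟩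
      have hb2 := hsq b hb
      have hx1 : g * b * g⁻¹ * b ≠ 1 := by
        intro h
        apply hbΦ
        have h1 : g * b * g⁻¹ = b := by
          rw [eq_inv_of_mul_eq_one_left h, inv_eq_of_mul_eq_one_right hb2]
        have h2 := C.ga b (C.Qle hb)
        rw [h1] at h2
        have hab2 : a b * a b = 1 := hsq _ (C.aQ b hb)
        have h3 : b = g * a b * g⁻¹ * (a b)⁻¹ := by
          rw [h2, hbn, mul_assoc, mul_inv_cancel, mul_one]
        rw [h3]
        exact hc (Subgroup.commutator_mem_commutator (Subgroup.mem_top g) (Subgroup.mem_top (a b)))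
      have hRab : ∀ p ∈ R, ∀ q ∈ R, p * q = q * p := by
        have hQR : ∀ x ∈ Q, ∀ r ∈ R, Commute r x := by
          intro x hx r hr
          rcases hQ4 x hx with rfl | rfl | rfl | rfl
          exacts [Commute.one_right r, (hR r hr).1, (hR r hr).2, (hR r hr).1.mul_right (hR r hr).2]
        intro p hp q hq
        obtain ⟨x, hx, k, rfl⟩ := C.split p hp
        obtain ⟨y, hy, l, rfl⟩ := C.split q hq
        have hwk : ∀ x ∈ Q, ∀ k : ℤ, Commute (w ^ k) x := fun x hx k =>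
          hQR x hx _ (zpow_mem C.wmem k)
        exact (((hQR y hy x (C.Qle hx)).mul_right (hwk x hx l).symm).mul_left
          ((hwk y hy k).mul_right (Commute.zpow_zpow (Commute.refl w) k l))).eq
      obtain ⟨a', ha'⟩ := exists_partner hG hgen hbΦ
      exact cyclic_of_involution_case hG hab (isMetacyclic_of_le hΦm hc) ha' hb2 (C.Qle hb)
        (mul_mem (C.gR (C.Qle hb)) (C.Qle hb)) hRab C.centralizer C.gnorm C.norm
        (by rw [mul_assoc _ b b, hb2, mul_one]) hx1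

/-- The quaternion case. -/
theorem cyclic_quat (hG : IsPGroup 2 G) (hgen : Gen2 (⊤ : Subgroup G))
    (hΦm : Cfsg.IsMetacyclic ↥(frattini G)) (hc : commutator G ≤ frattini G)
    (hab : ∀ p ∈ commutator G, ∀ q ∈ commutator G, p * q = q * p)
    {i z : G} (hi : i ∈ Q) (hi2 : i * i = z) (hz1 : z ≠ 1) (hz2 : z * z = 1) (hzfix : a z = z)
    (hzR : ∀ r ∈ R, r * z = z * r) (hanti : i * a i * i⁻¹ = (a i)⁻¹)
    (hanti' : a i * i * (a i)⁻¹ = i⁻¹)
    (hcases : ∀ q ∈ Q, q = 1 ∨ q = z ∨ q = i ∨ q = z * i ∨ q = a i ∨ q = z * a i ∨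
      q = a (a i) ∨ q = z * a (a i))
    (hgenQ : Q = Subgroup.closure ({i, a i} : Set G)) : IsCyclic ↥(commutator G) := by
  classical
  have hiR := C.Qle hi
  have hzQ : z ∈ Q := hi2 ▸ mul_mem hi hi
  set j := a i with hj
  have hjQ : j ∈ Q := C.aQ i hi
  set k := a j with hk
  have hkQ : k ∈ Q := C.aQ j hjQ
  have hj2 : j * j = z := by rw [hj, ← C.amul _ hiR _ hiR, hi2, hzfix]
  have hk2 : k * k = z := by rw [hk, ← C.amul _ (C.Qle hjQ) _ (C.Qle hjQ), hj2, hzfix]
  have hzsq : ∀ x : G, x ∈ Q → (z * x) * (z * x) = x * x := fun x hx => by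
    calc z * x * (z * x) = z * (x * z) * x := by group
      _ = z * z * (x * x) := by rw [hzR x (C.Qle hx)]; group
      _ = _ := by rw [hz2, one_mul]
  have hsqcases : ∀ q ∈ Q, q = 1 ∨ q = z ∨ q * q = z := by
    intro q hq
    rcases hcases q hq with h | h | h | h | h | h | h | h <;> subst h
    exacts [Or.inl rfl, Or.inr (Or.inl rfl), Or.inr (Or.inr hi2),
      Or.inr (Or.inr (by rw [hzsq i hi, hi2])), Or.inr (Or.inr hj2),
      Or.inr (Or.inr (by rw [hzsq j hjQ, hj2])), Or.inr (Or.inr hk2),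
      Or.inr (Or.inr (by rw [hzsq k hkQ, hk2]))]
  have hzinv : z⁻¹ = z := inv_eq_of_mul_eq_one_right hz2
  have hinv : ∀ q ∈ Q, q * q = z → q⁻¹ = z * q := by
    intro q hq h
    apply inv_eq_of_mul_eq_one_right
    rw [← mul_assoc, hzR q (C.Qle hq), mul_assoc, h, hz2]
  -- noncommuting
  have hij : ¬ Commute i j := fun h => by
    rw [h.eq, mul_inv_cancel_right] at hanti
    have : j * j = 1 := eq_inv_iff_mul_eq_one.1 hanti
    exact hz1 (hj2.symm.trans this)
  have hne : ∀ {p q : G}, p ∈ Q → q ∈ Q → ¬ Commute p q → p ≠ q ∧ p ≠ z * q := fun {p q} _ hq h =>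
    ⟨fun e => h (e ▸ Commute.refl q), fun e => h (e ▸ Commute.mul_left
      ((hzR q (C.Qle hq)).symm : Commute z q) (Commute.refl q))⟩
  have hjk : ¬ Commute j k := fun h => hij (by
    show i * j = j * i
    refine C.inj (mul_mem hiR (C.Qle hjQ)) (mul_mem (C.Qle hjQ) hiR) ?_
    rw [C.amul _ hiR _ (C.Qle hjQ), C.amul _ (C.Qle hjQ) _ hiR, ← hj, ← hk]
    exact h.eq)
  have hki : ¬ Commute k i := fun h => hjk (by
    show j * k = k * j
    refine C.inj (mul_mem (C.Qle hjQ) (C.Qle hkQ)) (mul_mem (C.Qle hkQ) (C.Qle hjQ)) ?_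
    rw [C.amul _ (C.Qle hjQ) _ (C.Qle hkQ), C.amul _ (C.Qle hkQ) _ (C.Qle hjQ), ← hk,
      show a k = i from C.athree i hiR]
    exact h.eq)
  have hkij : k = i * j ∨ k = z * (i * j) := by
    have h1 : i * j ≠ 1 := fun h => hij (by
      rw [eq_inv_of_mul_eq_one_right h]; exact (Commute.refl i).inv_right)
    have h2 : i * j ≠ z := fun h => hij (by
      have : j = i⁻¹ * z := by rw [← h]; group
      rw [this]
      exact (Commute.refl i).inv_right.mul_right (hzR i hiR))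
    rcases hcases _ (mul_mem hi hjQ) with h | h | h | h | h | h | h | h
    · exact absurd h h1
    · exact absurd h h2
    · exfalso
      refine hij ?_
      rw [mul_eq_left.1 h]; exact Commute.one_right i
    · exfalso
      refine hij ?_
      have : j = i⁻¹ * (z * i) := by rw [← h]; group
      rw [this]
      exact (Commute.refl i).inv_right.mul_right (Commute.mul_right (hzR i hiR) (Commute.refl i))
    · exfalso
      refine hij ?_
      rw [mul_eq_right.1 h]; exact Commute.one_left j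
    · exfalso
      refine hij ?_
      have : i = z := mul_right_cancel h
      rw [this]
      exact (hzR j (C.Qle hjQ)).symm
    · exact Or.inl h.symm
    · exact Or.inr (by rw [h, ← mul_assoc, hz2, one_mul])
  -- `w` centralises `Q`
  have hnoflip : ∀ n : ℕ, w ^ n * i * (w ^ n)⁻¹ ≠ z * i := by
    intro n e
    have hr := pow_mem C.wmem n
    have e1 : w ^ n * j * (w ^ n)⁻¹ = z * j := by
      rw [hj, ← C.conj_wpow hiR n, e, C.amul _ (C.Qle hzQ) _ hiR, hzfix]
    have e2 : w ^ n * k * (w ^ n)⁻¹ = z * k := by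
      rw [hk, ← C.conj_wpow (C.Qle hjQ) n, e1, C.amul _ (C.Qle hzQ) _ (C.Qle hjQ), hzfix]
    have e3 : w ^ n * (i * j) * (w ^ n)⁻¹ = i * j := by
      calc w ^ n * (i * j) * (w ^ n)⁻¹ = (w ^ n * i * (w ^ n)⁻¹) * (w ^ n * j * (w ^ n)⁻¹) := by
            group
        _ = z * (i * z) * j := by rw [e, e1]; group
        _ = z * z * (i * j) := by rw [hzR i hiR]; group
        _ = _ := by rw [hz2, one_mul]
    have e4 : w ^ n * k * (w ^ n)⁻¹ = k := by
      rcases hkij with h | h <;> rw [h]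
      · exact e3
      · calc w ^ n * (z * (i * j)) * (w ^ n)⁻¹ = (w ^ n * z) * (i * j) * (w ^ n)⁻¹ := by group
          _ = z * (w ^ n * (i * j) * (w ^ n)⁻¹) := by rw [hzR _ hr]; group
          _ = _ := by rw [e3]
    rw [e2] at e4
    exact hz1 (mul_eq_right.1 e4)
  have hwi : Commute w i := by
    refine commute_of_cube hG ?_
    have hcj : ∀ (x c : G), c ∈ Q → x ∈ R → w * (z * x) * w⁻¹ = z * (w * x * w⁻¹) := fun x c _ hx => by
      calc w * (z * x) * w⁻¹ = (w * z) * x * w⁻¹ := by group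
        _ = _ := by rw [hzR w C.wmem]; group
    have hwcj : ∀ x ∈ R, w * (z * x) * w⁻¹ = z * (w * x * w⁻¹) := fun x hx => hcj x z hzQ hx
    have haz : ∀ x ∈ R, a (z * x) = z * a x := fun x hx => by
      rw [C.amul _ (C.Qle hzQ) _ hx, hzfix]
    have hzz : ∀ x : G, z * (z * x) = x := fun x => by rw [← mul_assoc, hz2, one_mul]
    have hcl : w ^ 3 * i * (w ^ 3)⁻¹ = i ∨ w ^ 3 * i * (w ^ 3)⁻¹ = z * i := by
      have hexp : w ^ 3 * i * (w ^ 3)⁻¹ = w * (w * (w * i * w⁻¹) * w⁻¹) * w⁻¹ := by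
        simp [pow_succ, mul_assoc]
      have hwj : w * j * w⁻¹ = a (w * i * w⁻¹) := (C.conj_w hiR).symm
      have hwk : w * k * w⁻¹ = a (a (w * i * w⁻¹)) := by
        rw [hk, ← C.conj_w (C.Qle hjQ), hwj]
      have hai : a k = i := C.athree i hiR
      rw [hexp]
      rcases hcases _ (C.Qconj w C.wmem i hi) with h | h | h | h | h | h | h | h
      · exact absurd (conj_eq_one_iff.1 h) (fun e => hz1 (by rw [← hi2, e, one_mul]))
      · exfalso
        refine hz1 ?_
        have e : i = z := by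
          have : w * i * w⁻¹ = w * z * w⁻¹ := by rw [h, hzR w C.wmem, mul_inv_cancel_right]
          exact mul_left_cancel (mul_right_cancel this)
        rw [← hi2, e, hz2]
      · exact Or.inl (by rw [h, h, h])
      · exact Or.inr (by rw [h, hwcj i hiR, h, hzz, h])
      · exact Or.inl (by rw [h, hwj, h, ← hk, hwk, h, ← hk, hai])
      · exact Or.inr (by
          rw [h, hwcj j (C.Qle hjQ), hwj, h, haz _ (C.Qle hjQ), ← hk, hzz, hwk, h,
            haz _ (C.Qle hjQ), ← hk, haz _ (C.Qle hkQ), hai])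
      · exact Or.inl (by rw [h, hwk, h, hai, ← hj, hwj, h, hai])
      · exact Or.inr (by
          rw [h, hwcj k (C.Qle hkQ), hwk, h, haz _ (C.Qle hkQ), hai, haz _ hiR, ← hj, hzz, hwj, h,
            haz _ (C.Qle hkQ), hai])
    rcases hcl with h | h
    · exact mul_inv_eq_iff_eq_mul.1 h
    · exact absurd h (hnoflip 3)
  have hwj : Commute w j := by
    show w * j = j * w
    have h := congrArg a hwi.eq
    rwa [C.amul _ C.wmem _ hiR, C.amul _ hiR _ C.wmem, C.aw, ← hj] at h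
  have hwQ : ∀ q ∈ Q, Commute w q := by
    intro q hq
    rw [hgenQ] at hq
    induction hq using Subgroup.closure_induction with
    | mem t ht => rcases ht with rfl | rfl <;> assumption
    | one => exact Commute.one_right w
    | mul x y _ _ hx hy => exact hx.mul_right hy
    | inv x _ hx => exact hx.inv_right
  by_cases hin : i ∈ frattini G ∧ j ∈ frattini G
  · exact (no_quaternion hG hΦm hin.1 hin.2 (by rw [hi2]; exact hz1) (by rw [hi2]; exact hz2)
      (by rw [hi2, hj2]) hanti').elim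
  obtain ⟨b, hb, hb2, hbΦ, hbn⟩ : ∃ b ∈ Q, b * b = z ∧ b ∉ frattini G ∧
      (a (a b) = b * a b ∨ a (a b) = z * (b * a b)) := by
    by_cases h : i ∈ frattini G
    · refine ⟨j, hjQ, hj2, fun h' => hin ⟨h, h'⟩, ?_⟩
      rw [← hk]
      rcases hkij with e | e
      · exact Or.inl (by conv_lhs => rw [e, C.amul _ hiR _ (C.Qle hjQ), ← hj, ← hk])
      · refine Or.inr ?_
        conv_lhs => rw [e, C.amul _ (C.Qle hzQ) _ (mul_mem hiR (C.Qle hjQ)), hzfix,
          C.amul _ hiR _ (C.Qle hjQ), ← hj, ← hk]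
    · exact ⟨i, hi, hi2, h, by rw [← hj, ← hk]; exact hkij⟩
  have hbR := C.Qle hb
  set cb := g * b * g⁻¹ with hcb
  have hcbQ : cb ∈ Q := C.gQ b hb
  have hgz : g * z * g⁻¹ = z := by
    rcases hsqcases _ (C.gQ z hzQ) with h | h | h
    · exact absurd (conj_eq_one_iff.1 h) hz1
    · exact h
    · rw [show g * z * g⁻¹ * (g * z * g⁻¹) = g * (z * z) * g⁻¹ by group, hz2, mul_one,
        mul_inv_cancel] at h
      exact absurd h.symm hz1
  have hcb2 : cb * cb = z := by
    rw [hcb, show g * b * g⁻¹ * (g * b * g⁻¹) = g * (b * b) * g⁻¹ by group, hb2, hgz]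
  have hzΦ : z ∈ frattini G := hi2 ▸ sq_mem_frattini hG i
  have hnotclass : cb ≠ b ∧ cb ≠ z * b := by
    have key : ∀ e : G, e ∈ Q → a (a e) = e → e ∈ frattini G → g * b * g⁻¹ ≠ e * b := by
      intro e he hee heΦ h
      apply hbΦ
      have h1 := C.ga b hbR
      rw [h, C.amul _ (C.Qle he) _ hbR, C.amul _ (C.amem e (C.Qle he)) _ (C.amem b hbR), hee] at h1
      have h2 : g * a b * g⁻¹ * (a b)⁻¹ ∈ frattini G :=
        hc (Subgroup.commutator_mem_commutator (Subgroup.mem_top g) (Subgroup.mem_top (a b)))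
      rw [h1] at h2
      rcases hbn with e' | e' <;> rw [e'] at h2
      · simpa [mul_assoc] using mul_mem (inv_mem heΦ) h2
      · simpa [mul_assoc] using mul_mem (inv_mem hzΦ) (mul_mem (inv_mem heΦ) h2)
    exact ⟨fun h => key 1 (one_mem _) (by rw [C.one, C.one]) (one_mem _) (by rwa [one_mul]),
      fun h => key z hzQ (by rw [hzfix, hzfix]) hzΦ h⟩
  set x := cb * b⁻¹ with hx
  have hxQ : x ∈ Q := mul_mem hcbQ (inv_mem hb)
  have hx2 : x * x = z := by
    rcases hsqcases x hxQ with h | h | h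
    · exact absurd (mul_inv_eq_one.1 h) hnotclass.1
    · exact absurd (mul_inv_eq_iff_eq_mul.1 h) hnotclass.2
    · exact h
  have hqcomm : ∀ p ∈ Q, ∀ q ∈ Q, ⁅p, q⁆ = 1 ∨ ⁅p, q⁆ = z := by
    intro p hp q hq
    have hs : ∀ t ∈ Q, t * t = 1 ∨ t * t = z := fun t ht => by
      rcases hsqcases t ht with h | h | h
      · exact Or.inl (by rw [h, one_mul])
      · exact Or.inl (by rw [h, hz2])
      · exact Or.inr h
    have hcen : ∀ t ∈ Q, ∀ r ∈ R, Commute r (t * t) := fun t ht r hr => by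
      rcases hs t ht with h | h <;> rw [h]
      exacts [Commute.one_right r, hzR r hr]
    have e : ⁅p, q⁆ = (p * q) * (p * q) * (p * p)⁻¹ * (q * q)⁻¹ := by
      rw [commutatorElement_def]
      calc p * q * p⁻¹ * q⁻¹ = p * q * p * ((p * p)⁻¹ * q) * (q * q)⁻¹ := by group
        _ = p * q * p * (q * (p * p)⁻¹) * (q * q)⁻¹ := by
            rw [((hcen p hp q (C.Qle hq)).inv_right).eq]
        _ = _ := by group
    rw [e]
    rcases hs _ (mul_mem hp hq) with h1 | h1 <;> rcases hs p hp with h2 | h2 <;>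
      rcases hs q hq with h3 | h3 <;> rw [h1, h2, h3] <;> simp [hzinv, hz2, mul_assoc]
  have hcommR : ∀ p ∈ R, ∀ q ∈ R, ⁅p, q⁆ = 1 ∨ ⁅p, q⁆ = z := by
    intro p hp q hq
    obtain ⟨p', hp', k', rfl⟩ := C.split p hp
    obtain ⟨q', hq', l', rfl⟩ := C.split q hq
    have hk1 : ∀ t ∈ Q, ∀ n : ℤ, Commute (w ^ n) t := fun t ht n => (hwQ t ht).zpow_left n
    have e : ⁅p' * w ^ k', q' * w ^ l'⁆ = ⁅p', q'⁆ := by
      rw [commutatorElement_def, commutatorElement_def]
      calc p' * w ^ k' * (q' * w ^ l') * (p' * w ^ k')⁻¹ * (q' * w ^ l')⁻¹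
          = p' * (w ^ k' * q') * (w ^ l' * (w ^ k')⁻¹) * p'⁻¹ * ((w ^ l')⁻¹ * q'⁻¹) := by group
        _ = p' * (q' * w ^ k') * ((w ^ k')⁻¹ * w ^ l') * p'⁻¹ * ((w ^ l')⁻¹ * q'⁻¹) := by
            rw [(hk1 q' hq' k').eq,
              ((Commute.zpow_zpow (Commute.refl w) l' k').inv_right).eq]
        _ = p' * q' * (w ^ l' * p'⁻¹) * ((w ^ l')⁻¹ * q'⁻¹) := by group
        _ = p' * q' * (p'⁻¹ * w ^ l') * ((w ^ l')⁻¹ * q'⁻¹) := by
            rw [((hk1 p' hp' l').inv_right).eq]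
        _ = _ := by group
    rw [e]
    exact hqcomm p' hp' q' hq'
  obtain ⟨a', ha'⟩ := exists_partner hG hgen hbΦ
  refine cyclic_of_quaternion_case hG hab (isMetacyclic_of_le hΦm hc) ha' hbR (C.Qle hxQ) hz1 hz2
    hb2 hx2 hzR hcommR ?_ C.centralizer C.gnorm C.norm (by rw [hx, inv_mul_cancel_right])
  intro H hbH hxH hH r hr
  obtain ⟨q, hq, l, rfl⟩ := C.split r hr
  have hwH : w ∈ H := by
    refine hH w C.wmem fun t ht _ => ?_
    obtain ⟨q', hq', l', rfl⟩ := C.split t ht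
    exact ((hwQ q' hq').mul_right (Commute.self_zpow w l')).eq
  refine mul_mem ?_ (zpow_mem hwH l)
  have hzH : z ∈ H := hb2 ▸ mul_mem hbH hbH
  have hzx : ∀ t ∈ H, z * t ∈ H := fun t ht => mul_mem hzH ht
  have hzx' : ∀ t, z * t ∈ H → t ∈ H := fun t ht => by
    simpa [← mul_assoc, hz2] using hzx _ ht
  have hbx : cb ∈ H := by
    have : cb = x * b := by rw [hx, inv_mul_cancel_right]
    rw [this]; exact mul_mem hxH hbH
  -- two classes give the third
  have hall : i ∈ H ∧ j ∈ H := by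
    have hkH : (i ∈ H → j ∈ H → k ∈ H) := fun h1 h2 => by
      rcases hkij with e | e <;> rw [e]
      exacts [mul_mem h1 h2, hzx _ (mul_mem h1 h2)]
    have hjH : (i ∈ H → k ∈ H → j ∈ H) := fun h1 h2 => by
      have : i * j ∈ H := by
        rcases hkij with e | e
        · exact e ▸ h2
        · exact hzx' _ (e ▸ h2)
      simpa using mul_mem (inv_mem h1) this
    have hiH : (j ∈ H → k ∈ H → i ∈ H) := fun h1 h2 => by
      have : i * j ∈ H := by
        rcases hkij with e | e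
        · exact e ▸ h2
        · exact hzx' _ (e ▸ h2)
      simpa using mul_mem this (inv_mem h1)
    have hclass : ∀ t ∈ Q, t * t = z → t ∈ H →
        ∃ c, (c = i ∨ c = j ∨ c = k) ∧ c ∈ H ∧ (t = c ∨ t = z * c) := by
      intro t ht ht2 htH
      rcases hcases t ht with h | h | h | h | h | h | h | h
      · exact absurd (by rw [h, one_mul] at ht2; exact ht2.symm) hz1
      · exact absurd (by rw [h, hz2] at ht2; exact ht2.symm) hz1
      · exact ⟨i, Or.inl rfl, h ▸ htH, Or.inl h⟩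
      · exact ⟨i, Or.inl rfl, hzx' _ (h ▸ htH), Or.inr h⟩
      · exact ⟨j, Or.inr (Or.inl rfl), h ▸ htH, Or.inl h⟩
      · exact ⟨j, Or.inr (Or.inl rfl), hzx' _ (h ▸ htH), Or.inr h⟩
      · exact ⟨k, Or.inr (Or.inr rfl), h ▸ htH, Or.inl h⟩
      · exact ⟨k, Or.inr (Or.inr rfl), hzx' _ (h ▸ htH), Or.inr h⟩
    obtain ⟨c, hc1, hc2, hc3⟩ := hclass b hb hb2 hbH
    obtain ⟨d, hd1, hd2, hd3⟩ := hclass cb hcbQ hcb2 hbx
    have hcd : c ≠ d := by
      rintro rfl
      have hzzc : z * (z * c) = c := by rw [← mul_assoc, hz2, one_mul]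
      rcases hc3 with e1 | e1 <;> rcases hd3 with e2 | e2
      · exact hnotclass.1 (e2.trans e1.symm)
      · exact hnotclass.2 (by rw [e2, e1])
      · exact hnotclass.2 (by rw [e2, e1, hzzc])
      · exact hnotclass.1 (e2.trans e1.symm)
    rcases hc1 with rfl | rfl | rfl <;> rcases hd1 with rfl | rfl | rfl
    · exact absurd rfl hcd
    · exact ⟨hc2, hd2⟩
    · exact ⟨hc2, hjH hc2 hd2⟩
    · exact ⟨hd2, hc2⟩
    · exact absurd rfl hcd
    · exact ⟨hiH hc2 hd2, hc2⟩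
    · exact ⟨hd2, hjH hd2 hc2⟩
    · exact ⟨hiH hd2 hc2, hd2⟩
    · exact absurd rfl hcd
  have hle : Subgroup.closure ({i, j} : Set G) ≤ H := by
    rw [Subgroup.closure_le]
    rintro t (rfl | rfl)
    exacts [hall.1, hall.2]
  exact hle (hgenQ.le hq)

end Config

/-- A self-centralising subgroup with an automorphism of order three inverted in the normaliser
forces a cyclic derived subgroup. -/
theorem isCyclic_commutator_of_config (hG : IsPGroup 2 G) (hgen : Gen2 (⊤ : Subgroup G))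
    (hΦm : Cfsg.IsMetacyclic ↥(frattini G)) {M1 : Subgroup G} (hM1 : M1.index = 2)
    (hM1m : Cfsg.IsMetacyclic ↥M1)
    (hab : ∀ p ∈ commutator G, ∀ q ∈ commutator G, p * q = q * p)
    {R : Subgroup G} (hC : Subgroup.centralizer (R : Set G) ≤ R) {α : MulAut ↥R} (hα3 : α ^ 3 = 1)
    (hα1 : α ≠ 1) {g : G} (hgN : g ∈ Subgroup.normalizer (R : Set G)) (hgR : g ∉ R)
    (hN : ∀ h ∈ Subgroup.normalizer (R : Set G), h ∈ R ∨ g⁻¹ * h ∈ R)
    (hga : ∀ r s t : ↥R, (s : G) = g * r * g⁻¹ → (t : G) = g * (α r : ↥R) * g⁻¹ → t = α (α s)) :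
    IsCyclic ↥(commutator G) := by
  classical
  have hc : commutator G ≤ frattini G := by
    obtain ⟨u, v, huv⟩ := hgen
    refine commutator_le_of_mem huv ?_
    have h1 : u * u ∈ frattini G := sq_mem_frattini hG u
    have h2 := sq_mem_frattini hG (u⁻¹ * v)
    have h3 := sq_mem_frattini hG v
    rw [commutatorElement_def,
      show u * v * u⁻¹ * v⁻¹ = (u * u) * ((u⁻¹ * v) * (u⁻¹ * v)) * (v * v)⁻¹ by group]
    exact mul_mem (mul_mem h1 h2) (inv_mem h3)
  have hHm : Cfsg.IsMetacyclic ↥(M1.subgroupOf R) :=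
    isMetacyclic_of_surjective (isMetacyclic_of_le hM1m (inf_le_left : M1 ⊓ R ≤ M1))
      (MonoidHom.mk' (fun x : ↥(M1 ⊓ R) => (⟨⟨x, x.2.2⟩, x.2.1⟩ : ↥(M1.subgroupOf R)))
        fun _ _ => rfl)
      (by rintro ⟨⟨x, hx⟩, hxH⟩; exact ⟨⟨x, hxH, hx⟩, rfl⟩)
  have hH : ∀ x y : ↥R, x ∉ M1.subgroupOf R → y ∉ M1.subgroupOf R → x * y ∈ M1.subgroupOf R := by
    intro x y hx hy
    simp only [Subgroup.mem_subgroupOf, Subgroup.coe_mul] at *
    rw [Subgroup.mul_mem_iff_of_index_two hM1]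
    exact iff_of_false hx hy
  obtain ⟨Q₀, w₀, hQn, hQgen, hQα, hw, hsup, hshape⟩ :=
    exists_shape (hG.to_subgroup R) hα3 hα1 hHm hH
  have h3 := alpha_three hα3
  let a : G → G := fun x => if hx : x ∈ R then ((α ⟨x, hx⟩ : ↥R) : G) else 1
  have ha : ∀ x : ↥R, a x = (α x : ↥R) := fun x => by
    simp only [a, SetLike.coe_mem, dite_true, Subtype.coe_eta]
  have haR : ∀ (x : G) (hx : x ∈ R), a x = (α ⟨x, hx⟩ : ↥R) := fun x hx => ha ⟨x, hx⟩
  set Q := Q₀.map R.subtype with hQ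
  have hQle : Q ≤ R := by rintro _ ⟨x, -, rfl⟩; exact x.2
  have hQmem : ∀ x : ↥R, (x : G) ∈ Q ↔ x ∈ Q₀ := fun x =>
    Subgroup.mem_map_iff_mem R.subtype_injective
  let c : ↥R → ↥R := fun r => ⟨g * r * g⁻¹, (Subgroup.mem_normalizer_iff.1 hgN r).1 r.2⟩
  have hcα : ∀ r, c (α r) = α (α (c r)) := fun r => hga r (c r) (c (α r)) rfl rfl
  have hcm : ∀ r s, c (r * s) = c r * c s := fun r s => Subtype.ext (by
    show g * ((r : G) * s) * g⁻¹ = g * r * g⁻¹ * (g * s * g⁻¹); group)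
  have hcQ : ∀ r ∈ Q₀, c r ∈ Q₀ := by
    intro r hr
    rw [hQgen] at hr
    induction hr using Subgroup.closure_induction with
    | mem d hd =>
      obtain ⟨x, rfl⟩ := hd
      have hinvc : c x⁻¹ = (c x)⁻¹ := Subtype.ext (by
        show g * (x : G)⁻¹ * g⁻¹ = (g * x * g⁻¹)⁻¹; group)
      have e : c (x⁻¹ * α x) = ((c x)⁻¹ * α (c x)) * ((α (c x))⁻¹ * α (α (c x))) := by
        rw [hcm, hinvc, hcα]; group
      rw [e, hQgen]
      exact mul_mem (Subgroup.subset_closure ⟨c x, rfl⟩) (Subgroup.subset_closure ⟨α (c x), rfl⟩)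
    | one =>
      have e : c 1 = 1 := Subtype.ext (by show g * (1 : G) * g⁻¹ = 1; group)
      rw [e]; exact one_mem _
    | mul p q _ _ hp hq => rw [hcm]; exact mul_mem hp hq
    | inv p _ hp =>
      have e : c p⁻¹ = (c p)⁻¹ := Subtype.ext (by
        show g * (p : G)⁻¹ * g⁻¹ = (g * p * g⁻¹)⁻¹; group)
      rw [e]; exact inv_mem hp
  have C : Config R Q a g (w₀ : G) :=
    { centralizer := hC
      gnorm := hgN
      gnot := hgR
      norm := hN
      Qle := hQle
      wmem := w₀.2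
      amem := fun r hr => by rw [haR r hr]; exact (α ⟨r, hr⟩).2
      amul := fun r hr s hs => by
        rw [haR r hr, haR s hs, haR _ (mul_mem hr hs), ← Subgroup.coe_mul, ← map_mul]; rfl
      athree := fun r hr => by rw [haR r hr, ha, ha, h3]
      aQ := by rintro _ ⟨x, hx, rfl⟩; exact ⟨α x, hQα x hx, (ha x).symm⟩
      aw := by rw [ha, hw]
      split := fun r hr => by
        have h1 : (⟨r, hr⟩ : ↥R) ∈ Q₀ ⊔ Subgroup.zpowers w₀ := hsup ▸ Subgroup.mem_top _
        obtain ⟨q, hq, _, ⟨k, rfl⟩, e⟩ := Subgroup.mem_sup_of_normal_left.1 h1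
        refine ⟨q, (hQmem q).2 hq, k, ?_⟩
        simpa using congrArg Subtype.val e
      Qconj := by
        rintro r hr _ ⟨x, hx, rfl⟩
        exact ⟨⟨r, hr⟩ * x * ⟨r, hr⟩⁻¹, hQn.conj_mem x hx ⟨r, hr⟩, by simp⟩
      gQ := by rintro _ ⟨x, hx, rfl⟩; exact ⟨c x, hcQ x hx, rfl⟩
      ga := fun r hr => by
        have e := congrArg Subtype.val (hcα ⟨r, hr⟩)
        rw [haR r hr]
        refine e.trans ?_
        rw [show g * r * g⁻¹ = ((c ⟨r, hr⟩ : ↥R) : G) from rfl, ha, ha] }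
  have hmapcl : ∀ (x : ↥R) (_ : Q₀ = Subgroup.closure {x, α x}),
      Q = Subgroup.closure ({(x : G), a x} : Set G) := fun x hx => by
    rw [hQ, hx, MonoidHom.map_closure, Set.image_pair, ha]; rfl
  rcases hshape with ⟨u, hu⟩ | ⟨i, z, hi⟩
  · refine C.cyclic_hom hG hgen hΦm hc hab ?_ (u := (u : G)) ((hQmem u).2 hu.mem)
      (congrArg Subtype.val hu.sq) (fun h => hu.ne (Subtype.ext h))
      (fun h => hu.move (Subtype.ext (by rw [← ha]; exact h))) ?_ ?_ ?_ ?_
    · rintro _ ⟨p, hp, rfl⟩ _ ⟨q, hq, rfl⟩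
      exact congrArg Subtype.val (hu.comm p hp q hq)
    · rw [ha, ha, hu.norm, Subgroup.coe_mul]
    · rintro _ ⟨v, hv, rfl⟩ hv2
      rw [ha]
      rcases hu.inv_mem v hv (Subtype.ext hv2) with h | h | h | h <;> rw [h] <;> simp
    · rintro _ ⟨q, hq, rfl⟩ hqf
      have := hu.fixed q hq (Subtype.ext (by rw [← ha]; exact hqf))
      rw [this]; rfl
    · obtain ⟨p, hp, hpe⟩ := hu.gen
      exact ⟨p, (hQmem p).2 hp, hmapcl p hpe⟩
  · have hcv : ∀ x : ↥R, (α x : G) = a x := fun x => (ha x).symm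
    refine C.cyclic_quat hG hgen hΦm hc hab (i := (i : G)) (z := (z : G)) ((hQmem i).2 hi.mem)
      (congrArg Subtype.val hi.sq) (fun h => hi.ne (Subtype.ext h)) (congrArg Subtype.val hi.zz)
      (by rw [ha, hi.zfix]) (fun r hr => congrArg Subtype.val (hi.zcentral ⟨r, hr⟩)) ?_ ?_ ?_
      (hmapcl i hi.gen)
    · rw [ha]; exact congrArg Subtype.val hi.anti
    · rw [ha]; exact congrArg Subtype.val hi.anti'
    · rintro _ ⟨q, hq, rfl⟩
      rw [ha, ha]
      rcases hi.cases q hq with h | h | h | h | h | h | h | h <;> rw [h] <;> simp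

end Cfsg.Agent.Bicyclic2
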