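import Cfsg.Agent.Lib.Bicyclic2.OuterSix
import Cfsg.Agent.Lib.Bicyclic2.Cases
import Cfsg.Agent.Lib.Fusion.SmallEssential
import Cfsg.Agent.Lib.Fusion.Saturated

/-!
A saturated fusion system other than the inner one on a bicyclic non-metacyclic 2-group has an
essential subgroup whose outer automiser is symmetric of degree three; hence the derived subgroup
of the 2-group is cyclic.
-/

set_option autoImplicit false

namespace Cfsg.Agent.Bicyclic2

open Cfsg Cfsg.FusionSystem Cfsg.Agent Cfsg.Agent.Fusion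

/-- A 2-group with a metacyclic subgroup of index at most two is three-generated. -/
theorem card_frattini_quot_le {P : Type*} [Group P] [Finite P] (hP : IsPGroup 2 P) {H : Subgroup P}
    (hHm : Cfsg.IsMetacyclic ↥H) (hH : ∀ x y, x ∉ H → y ∉ H → x * y ∈ H) :
    Nat.card (P ⧸ frattini P) ≤ 8 := by
  classical
  haveI : Fact (Nat.Prime 2) := ⟨Nat.prime_two⟩
  obtain ⟨a, b, hab⟩ := gen2_of_metacyclic hHm
  obtain ⟨c, hc⟩ : ∃ c : P, Subgroup.closure ({a, b, c} : Set P) = ⊤ := by
    have hsub : ∀ c, H ≤ Subgroup.closure ({a, b, c} : Set P) := fun c => by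
      rw [← hab]; exact Subgroup.closure_mono (by intro t ht; rcases ht with rfl | rfl <;> simp)
    by_cases hall : ∀ y, y ∈ H
    · exact ⟨1, eq_top_iff.2 fun y _ => hsub 1 (hall y)⟩
    · push Not at hall
      obtain ⟨c, hc⟩ := hall
      refine ⟨c, eq_top_iff.2 fun y _ => ?_⟩
      by_cases hy : y ∈ H
      · exact hsub c hy
      · have h1 : y * c⁻¹ ∈ H := hH y c⁻¹ hy fun h => hc (by simpa using inv_mem h)
        simpa using mul_mem (hsub c h1) (Subgroup.subset_closure (by simp : c ∈ _))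
  have h2 := PGroup.card_closure_sup_frattini_le hP ({a, b, c} : Finset P)
  rw [show Subgroup.closure (({a, b, c} : Finset P) : Set P) = ⊤ by simpa using hc, top_sup_eq,
    Subgroup.card_top, Subgroup.card_eq_card_quotient_mul_card_subgroup (frattini P),
    mul_comm (Nat.card (frattini P))] at h2
  have h4 : (2 : ℕ) ^ ({a, b, c} : Finset P).card ≤ 8 :=
    (Nat.pow_le_pow_right (by norm_num) Finset.card_le_three).trans (by norm_num)
  exact (Nat.le_of_mul_le_mul_right h2 Nat.card_pos).trans h4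

/-- The action of automorphisms on the quotient by the Frattini subgroup. -/
theorem exists_frattini_action (P : Type*) [Group P] :
    ∃ ψ : MulAut P →* MulAut (P ⧸ frattini P),
      ∀ (a : MulAut P) (x : P), ψ a (x : P ⧸ frattini P) = ((a x : P) : P ⧸ frattini P) := by
  have hmap : ∀ a : MulAut P, (frattini P).map a.toMonoidHom = frattini P := fun a =>
    Subgroup.characteristic_iff_map_eq.1 inferInstance a
  let ψ : MulAut P →* MulAut (P ⧸ frattini P) :=
    { toFun := fun a => QuotientGroup.congr _ _ a (hmap a)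
      map_one' := MulEquiv.ext fun x => by
        induction x using QuotientGroup.induction_on with
        | H x => rfl
      map_mul' := fun a b => MulEquiv.ext fun x => by
        induction x using QuotientGroup.induction_on with
        | H x => rfl }
  exact ⟨ψ, fun a x => rfl⟩

/-- The outer automiser of a group with no outer normal 2-subgroup and a strongly embedded
subgroup is symmetric of degree three. -/
theorem outer_six {P : Type*} [Group P] [Finite P] (hP : IsPGroup 2 P) {H : Subgroup P}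
    (hHm : Cfsg.IsMetacyclic ↥H) (hH : ∀ x y, x ∉ H → y ∉ H → x * y ∈ H)
    (A : Subgroup (MulAut P)) [Finite (MulAut P)] [((Inn P).subgroupOf A).Normal]
    {E : Subgroup (↥A ⧸ (Inn P).subgroupOf A)} (hE : Cfsg.IsStronglyPEmbedded 2 E)
    (hcore : ∀ N : Subgroup (MulAut P), N ≤ A → (∀ c ∈ N, ∀ b ∈ A, b * c * b⁻¹ ∈ N) →
      IsPGroup 2 N → N ≤ Inn P) :
    Nat.card (↥A ⧸ (Inn P).subgroupOf A) = 6 ∧ ∀ x y : ↥A ⧸ (Inn P).subgroupOf A,
      orderOf x = 2 → orderOf y = 3 → x * y ≠ y * x := by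
  haveI : Fact (Nat.Prime 2) := ⟨Nat.prime_two⟩
  obtain ⟨ψ, hψ⟩ := exists_frattini_action P
  have hV : ∀ x : P ⧸ frattini P, x * x = 1 := fun x => by
    induction x using QuotientGroup.induction_on with
    | H y => exact (QuotientGroup.eq_one_iff _).2 (sq_mem_frattini hP y)
  have hcm : ∀ x y : P ⧸ frattini P, x * y = y * x := comm_of_sq_one hV
  set θ₀ : ↥A →* MulAut (P ⧸ frattini P) := ψ.comp A.subtype with hθ₀
  have hInnker : ∀ a : ↥A, (a : MulAut P) ∈ Inn P → θ₀ a = 1 := by
    intro a ha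
    obtain ⟨r, hr⟩ := ha
    refine MulEquiv.ext fun x => ?_
    induction x using QuotientGroup.induction_on with
    | H x =>
      show ψ (a : MulAut P) (x : P ⧸ frattini P) = _
      rw [hψ, ← hr, MulAut.conj_apply, MulAut.one_apply, QuotientGroup.mk_mul, QuotientGroup.mk_mul,
        QuotientGroup.mk_inv, hcm (r : P ⧸ frattini P), mul_inv_cancel_right]
  have hker : θ₀.ker ≤ (Inn P).subgroupOf A := by
    intro a ha
    have hN : θ₀.ker.map A.subtype ≤ Inn P := by
      refine hcore _ (Subgroup.map_subtype_le _) ?_ ?_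
      · intro c hc b hb
        obtain ⟨c', hc', rfl⟩ := Subgroup.mem_map.1 hc
        let b' : ↥A := ⟨b, hb⟩
        refine Subgroup.mem_map.2 ⟨b' * c' * b'⁻¹, θ₀.normal_ker.conj_mem c' hc' b', ?_⟩
        rw [map_mul, map_mul, map_inv]
        simp only [Subgroup.coe_subtype, b']
      · refine IsPGroup.map ?_ _
        refine isPGroup_of_coprime_orderOf_eq_one fun c hc => ?_
        refine Subtype.ext (Subtype.ext ?_)
        refine PGroup.MetacyclicTwo.aut_trivial_of_frattini hP ?_ fun x => ?_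
        · rwa [Subgroup.orderOf_coe, Subgroup.orderOf_coe]
        · have h1 : ψ ((c : ↥A) : MulAut P) (x : P ⧸ frattini P) = (x : P ⧸ frattini P) := by
            have h := DFunLike.congr_fun (MonoidHom.mem_ker.1 c.2) (x : P ⧸ frattini P)
            exact h
          rw [hψ] at h1
          exact QuotientGroup.eq.1 h1.symm
    exact hN ⟨a, ha, rfl⟩
  let θ : (↥A ⧸ (Inn P).subgroupOf A) →* MulAut (P ⧸ frattini P) :=
    QuotientGroup.lift _ θ₀ fun a ha => hInnker a ha
  have hθ : Function.Injective θ := by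
    rw [injective_iff_map_eq_one]
    intro q
    induction q using QuotientGroup.induction_on with
    | H a => intro h; exact (QuotientGroup.eq_one_iff a).2 (hker h)
  exact card_eq_six hV (card_frattini_quot_le hP hHm hH) θ hθ hE

variable {Ω : Type*} [Group Ω] {S : Subgroup Ω} [Finite S] {F : FusionSystem S}

/-- The automiser of the whole group is inner. -/
theorem aut_top_le_inner (hS : IsPGroup 2 S) (hgen : Gen2 (⊤ : Subgroup ↥S))
    (hm : ¬ Cfsg.IsMetacyclic ↥S) {M1 : Subgroup ↥S} (hM1 : M1.index = 2)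
    (hM1m : Cfsg.IsMetacyclic ↥M1) (hF : F.IsSaturated 2) :
    F.autGroup S ≤ (innerFusionSystem S).autGroup S := by
  haveI : Fact (Nat.Prime 2) := ⟨Nat.prime_two⟩
  obtain ⟨Q, hQ, hQa, -⟩ := hF S le_rfl
  have hQS : Q = S := eq_of_le_of_card_le le_rfl (isConj_le hQ).2 (isConj_card hQ).ge
  subst hQS
  have := finite_autGroup (F := F) hQa.1
  refine (autGroup_eq_of_isPGroup hQa (isPGroup_of_coprime_orderOf_eq_one fun α hα => ?_)).trans
    (autInducedBy_le_autGroup _ le_rfl)
  refine Subtype.ext (aut_eq_one hS hgen hm hM1 (gen2_of_metacyclic hM1m) ?_)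
  rw [Subgroup.orderOf_coe]
  exact Nat.coprime_two_right.1 hα

/-- A saturated system other than the inner one has an essential subgroup. -/
theorem exists_essential (hS : IsPGroup 2 S) (hgen : Gen2 (⊤ : Subgroup ↥S))
    (hm : ¬ Cfsg.IsMetacyclic ↥S) {M1 : Subgroup ↥S} (hM1 : M1.index = 2)
    (hM1m : Cfsg.IsMetacyclic ↥M1) (hF : F.IsSaturated 2)
    (hne : ¬ ∀ P : Subgroup Ω, F.Hom P = (innerFusionSystem S).Hom P) :
    ∃ R, F.IsEssential 2 R := by
  haveI : Fact (Nat.Prime 2) := ⟨Nat.prime_two⟩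
  by_contra hno
  push Not at hno
  refine hne fun P => Set.Subset.antisymm
    (alperin_essential hS hF (innerFusionSystem S) (fun R hR => ?_) P) ?_
  · rcases hR with rfl | hR
    · exact aut_top_le_inner hS hgen hm hM1 hM1m hF
    · exact absurd hR (hno R)
  · rintro φ ⟨hP, g, hg, hx⟩
    exact mem_of_conj hP hg hx

/-- The derived subgroup is cyclic as soon as an essential subgroup exists. -/
theorem isCyclic_of_essential (hS : IsPGroup 2 S) (hgen : Gen2 (⊤ : Subgroup ↥S))
    (hΦm : Cfsg.IsMetacyclic ↥(frattini ↥S))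
    {M1 : Subgroup ↥S} (hM1 : M1.index = 2) (hM1m : Cfsg.IsMetacyclic ↥M1)
    (hab : ∀ p ∈ commutator ↥S, ∀ q ∈ commutator ↥S, p * q = q * p)
    (hF : F.IsSaturated 2) {R : Subgroup Ω} (hR : F.IsEssential 2 R) :
    IsCyclic ↥(commutator ↥S) := by
  classical
  haveI : Fact (Nat.Prime 2) := ⟨Nat.prime_two⟩
  obtain ⟨hcen, hn, hIn, E, hE⟩ := hR
  have hR' : F.IsEssential 2 R := ⟨hcen, hn, hIn, E, hE⟩
  have hRS : R ≤ S := hn.1
  haveI : Finite R := finite_of_le (Ω := Ω) hRS
  haveI : Finite (MulAut R) := finite_mulAut (Ω := Ω) hRS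
  have hRp : IsPGroup 2 R := hS.to_le hRS
  set A := F.autGroup R with hAdef
  -- `R` meets `M1` in a metacyclic subgroup of index at most two
  set R' : Subgroup ↥S := R.subgroupOf S with hR'def
  let e : ↥R' ≃* ↥R := Subgroup.subgroupOfEquivOfLe hRS
  set H : Subgroup R := (M1.subgroupOf R').map e.toMonoidHom with hHdef
  have hHm : Cfsg.IsMetacyclic ↥H := by
    have h1 : Cfsg.IsMetacyclic ↥(M1.subgroupOf R') :=
      isMetacyclic_of_surjective (isMetacyclic_of_le hM1m (inf_le_left : M1 ⊓ R' ≤ M1))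
        (MonoidHom.mk' (fun x : ↥(M1 ⊓ R') => (⟨⟨x, x.2.2⟩, x.2.1⟩ : ↥(M1.subgroupOf R')))
          fun _ _ => rfl)
        (by rintro ⟨⟨x, hx⟩, hxH⟩; exact ⟨⟨x, hxH, hx⟩, rfl⟩)
    exact isMetacyclic_of_surjective h1 (e.toMonoidHom.subgroupMap (M1.subgroupOf R'))
      (MonoidHom.subgroupMap_surjective _ _)
  have hH : ∀ x y : R, x ∉ H → y ∉ H → x * y ∈ H := by
    have hmem : ∀ x : R, x ∈ H ↔ ((e.symm x : ↥R') : ↥S) ∈ M1 := fun x =>
      Subgroup.mem_map_equiv
    intro x y hx hy
    rw [hmem] at hx hy ⊢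
    rw [map_mul, Subgroup.coe_mul, Subgroup.mul_mem_iff_of_index_two hM1]
    exact iff_of_false hx hy
  set I := (Inn R).subgroupOf A with hI
  haveI : I.Normal := hIn
  have := finite_autGroup (F := F) hRS
  obtain ⟨h6, hnc⟩ := outer_six hRp hHm hH A hE fun N hN1 hN2 hN3 =>
    SmallEss.pGroup_le_inn hR' hN1 hN2 hN3
  obtain ⟨-, T, hT⟩ := isFullyAutomized_of_fullyNormalized hS hF hn
  have hIp : IsPGroup 2 I := by
    refine IsPGroup.of_injective ?_ (A.subtype.subgroupMap I) ?_
    · refine (?_ : IsPGroup 2 (Inn R)).to_le ?_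
      · exact hRp.of_surjective MulAut.conj.rangeRestrict MulAut.conj.rangeRestrict_surjective
      · rintro _ ⟨a, ha, rfl⟩
        exact ha
    · intro x y hxy
      exact Subtype.ext (Subtype.ext (congrArg Subtype.val hxy : _))
  obtain ⟨α, σ, hα3, hα1, hσT, hσI, hσα, hTI⟩ := exists_inverted I hIp h6 hnc T
  have hTmem : ∀ t : ↥A, t ∈ (T : Subgroup ↥A) ↔ ∃ g ∈ S, ∀ x : R,
      (((t : MulAut R) x : R) : Ω) = g * (x : Ω) * g⁻¹ := fun t => by
    rw [hT, Subgroup.mem_subgroupOf, mem_autInducedBy_iff]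
  obtain ⟨g, hgS, hg⟩ := (hTmem σ).1 hσT
  have hgN : g ∈ Subgroup.normalizer (R : Set Ω) := mem_normalizer_of_aut hg
  have hgR : g ∉ R := by
    intro h
    refine hσI (show (σ : MulAut R) ∈ Inn R from ⟨⟨g, h⟩, MulEquiv.ext fun x => Subtype.ext ?_⟩)
    rw [MulAut.conj_apply, hg x]
    simp
  have hcent : ∀ y : Ω, y ∈ S → (∀ r ∈ R, r * y = y * r) → y ∈ R := fun y hy hc =>
    hcen.2 R (isConj_refl F hRS) ⟨hy, Subgroup.mem_centralizer_iff.2 hc⟩
  have hnorm : ∀ h ∈ S, h ∈ Subgroup.normalizer (R : Set Ω) → h ∈ R ∨ g⁻¹ * h ∈ R := by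
    intro h hh hhN
    let t : ↥A := ⟨conjAut hhN, autInducedBy_le_autGroup F hRS (conjAut_mem_autInducedBy hh hhN)⟩
    have hinner : ∀ k ∈ S, ∀ u : MulAut R, u ∈ Inn R →
        (∀ x : R, ((u x : R) : Ω) = k * (x : Ω) * k⁻¹) → k ∈ R := by
      rintro k hk _ ⟨r, rfl⟩ hu
      have h1 : (r : Ω)⁻¹ * k ∈ R := hcent _ (mul_mem (inv_mem (hRS r.2)) hk) fun x hx => by
        have h2 := hu ⟨x, hx⟩
        simp only [MulAut.conj_apply, Subgroup.coe_mul, Subgroup.coe_inv] at h2
        calc x * ((r : Ω)⁻¹ * k) = (r : Ω)⁻¹ * ((r : Ω) * x * (r : Ω)⁻¹) * k := by group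
          _ = (r : Ω)⁻¹ * (k * x * k⁻¹) * k := by rw [h2]
          _ = _ := by group
      simpa using mul_mem r.2 h1
    rcases hTI t ((hTmem t).2 ⟨h, hh, fun x => rfl⟩) with ht | ht
    · exact Or.inl (hinner h hh _ ht fun x => rfl)
    · refine Or.inr (hinner _ (mul_mem (inv_mem hgS) hh) _ ht fun x => ?_)
      have h1 := hg (((σ : MulAut R)⁻¹ * conjAut hhN) x)
      rw [MulAut.mul_apply, MulAut.apply_inv_self, coe_conjAut] at h1
      show (((σ : MulAut R)⁻¹ (conjAut hhN x) : R) : Ω) = _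
      calc (((σ : MulAut R)⁻¹ (conjAut hhN x) : R) : Ω)
          = g⁻¹ * (g * (((σ : MulAut R)⁻¹ (conjAut hhN x) : R) : Ω) * g⁻¹) * g := by group
        _ = g⁻¹ * (h * (x : Ω) * h⁻¹) * g := by rw [← h1]
        _ = _ := by group
  -- transport to `S`
  let αR : MulAut ↥R' := MulAut.congr e.symm (α : MulAut R)
  have he : ∀ r : ↥R', ((e r : R) : Ω) = ((r : ↥S) : Ω) := fun r => rfl
  have hαR : ∀ r : ↥R', e (αR r) = (α : MulAut R) (e r) := fun r => by
    show e (e.symm ((α : MulAut R) (e r))) = _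
    rw [MulEquiv.apply_symm_apply]
  have hα3' : αR ^ 3 = 1 := by
    rw [← map_pow, ← Subgroup.coe_pow, hα3, Subgroup.coe_one, map_one]
  have hα1' : αR ≠ 1 := fun h => hα1 (Subtype.ext ((MulAut.congr e.symm).injective
    (h.trans (map_one (MulAut.congr e.symm)).symm)))
  have hmemN : ∀ h : ↥S, h ∈ Subgroup.normalizer (R' : Set ↥S) →
      (h : Ω) ∈ Subgroup.normalizer (R : Set Ω) := by
    intro h hh
    rw [Subgroup.mem_normalizer_iff] at hh ⊢
    intro y
    constructor
    · intro hy; exact (hh ⟨y, hRS hy⟩).1 hy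
    · intro hy
      have hyS : y ∈ S := by
        have h1 := mul_mem (mul_mem (inv_mem h.2) (hRS hy)) h.2
        simpa [mul_assoc] using h1
      exact (hh ⟨y, hyS⟩).2 hy
  refine isCyclic_commutator_of_config hS hgen hΦm hM1 hM1m hab (R := R') ?_ hα3' hα1'
    (g := ⟨g, hgS⟩) ?_ (fun h => hgR h) (fun h hh => ?_) ?_
  · intro y hy
    refine hcent y y.2 fun r hr => ?_
    exact congrArg Subtype.val ((Subgroup.mem_centralizer_iff.1 hy) ⟨r, hRS hr⟩ hr)
  · rw [Subgroup.mem_normalizer_iff]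
    intro y
    exact Subgroup.mem_normalizer_iff.1 hgN y
  · exact hnorm h h.2 (hmemN h hh)
  · intro r s t hs ht
    apply e.injective
    rw [hαR, hαR]
    have key : ∀ x : R, (σ : MulAut R) ((α : MulAut R) x) =
        (α : MulAut R) ((α : MulAut R) ((σ : MulAut R) x)) := by
      intro x
      have h2 : (σ * α : ↥A) = α * α * σ := by
        calc σ * α = (σ * α * σ⁻¹) * σ := by group
          _ = α⁻¹ * σ := by rw [hσα]
          _ = _ := by
            rw [inv_eq_of_mul_eq_one_right (b := α * α) (by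
              rw [← hα3]; simp [pow_succ, mul_assoc])]
      exact DFunLike.congr_fun (congrArg Subtype.val h2) x
    have hes : e s = (σ : MulAut R) (e r) := Subtype.ext (by
      rw [hg, he, he]; exact congrArg Subtype.val hs)
    have het : e t = (σ : MulAut R) ((α : MulAut R) (e r)) := Subtype.ext (by
      rw [hg, ← hαR, he, he]; exact congrArg Subtype.val ht)
    rw [het, hes]
    exact key (e r)

/-- One direction of the characterisation. -/
theorem isCyclic_of_noninner (hS : IsPGroup 2 S) (hgen : Gen2 (⊤ : Subgroup ↥S))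
    (hm : ¬ Cfsg.IsMetacyclic ↥S) (hΦm : Cfsg.IsMetacyclic ↥(frattini ↥S))
    {M1 : Subgroup ↥S} (hM1 : M1.index = 2) (hM1m : Cfsg.IsMetacyclic ↥M1)
    (hab : ∀ p ∈ commutator ↥S, ∀ q ∈ commutator ↥S, p * q = q * p)
    (hF : F.IsSaturated 2) (hne : ¬ ∀ P : Subgroup Ω, F.Hom P = (innerFusionSystem S).Hom P) :
    IsCyclic ↥(commutator ↥S) := by
  obtain ⟨R, hR⟩ := exists_essential hS hgen hm hM1 hM1m hF hne
  exact isCyclic_of_essential hS hgen hΦm hM1 hM1m hab hF hR

end Cfsg.Agent.Bicyclic2
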