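import Cfsg.Agent.Lib.Bicyclic2.Basic
import Cfsg.Agent.Lib.PGroup.Basic
import Cfsg.Agent.Lib.PGroup.Frattini
import Mathlib.GroupTheory.Commutator.Basic
import Mathlib.Tactic.Ring

/-!
A two generated 2-group that is not metacyclic has a quotient `W` with commutator subgroup of
order two that is still not metacyclic; such a `W` is given by coordinates.
-/

set_option autoImplicit false

namespace Cfsg.Agent.Bicyclic2

open scoped commutatorElement

variable {W : Type*} [Group W]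

/-- Coordinates on a minimal two generated nonmetacyclic 2-group. -/
structure WData (A B : W) (r s : ℕ) : Prop where
  gen : Subgroup.closure {A, B} = ⊤
  central : ∀ w : W, Commute w ⁅A, B⁆
  sq : ⁅A, B⁆ * ⁅A, B⁆ = 1
  ne : ⁅A, B⁆ ≠ 1
  two_le : 2 ≤ r
  one_le : 1 ≤ s
  le : s ≤ r
  powA : A ^ 2 ^ r = 1
  powB : B ^ 2 ^ s = 1
  coord : ∀ i j k : ℤ, A ^ i * B ^ j * ⁅A, B⁆ ^ k = 1 → (2 : ℤ) ^ r ∣ i ∧ (2 : ℤ) ^ s ∣ j ∧ 2 ∣ k

namespace WData

variable {A B : W} {r s : ℕ} (h : WData A B r s)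
include h

theorem swap_gen (j u : ℤ) : B ^ j * A ^ u = A ^ u * B ^ j * ⁅A, B⁆ ^ (j * u) := by
  set e := ⁅A, B⁆ with he
  have h1 : B * A * B⁻¹ = A * e := by
    have h2 : A * B * A⁻¹ * B⁻¹ = e := by rw [he, commutatorElement_def]
    have h3 : e = e⁻¹ := (inv_eq_of_mul_eq_one_right h.sq).symm
    have h4 : B * A * B⁻¹ * A⁻¹ = e⁻¹ := by rw [← h2]; group
    calc B * A * B⁻¹ = (B * A * B⁻¹ * A⁻¹) * A := by group
      _ = e * A := by rw [h4, ← h3]
      _ = A * e := (h.central A).eq.symm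
  have h2 : ∀ j : ℤ, B ^ j * A * (B ^ j)⁻¹ = A * e ^ j := by
    intro j
    induction j using Int.induction_on with
    | zero => simp
    | succ n ih =>
      calc B ^ ((n : ℤ) + 1) * A * (B ^ ((n : ℤ) + 1))⁻¹
          = B * (B ^ (n : ℤ) * A * (B ^ (n : ℤ))⁻¹) * B⁻¹ := by group
        _ = B * A * B⁻¹ * (B * e ^ (n : ℤ) * B⁻¹) := by rw [ih]; group
        _ = A * e ^ ((n : ℤ) + 1) := by
          rw [h1, ((h.central B).zpow_right n).eq, mul_inv_cancel_right, zpow_add, zpow_one,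
            mul_assoc, (Commute.self_zpow e n).eq]
    | pred n ih =>
      have h1' : B⁻¹ * A * B = A * e⁻¹ := by
        calc B⁻¹ * A * B = B⁻¹ * (A * e) * B * (B⁻¹ * e⁻¹ * B) := by group
          _ = A * e⁻¹ := by
            rw [← h1, show B⁻¹ * (B * A * B⁻¹) * B = A by group]
            congr 1
            rw [mul_assoc, ← (h.central B).inv_right.eq, inv_mul_cancel_left]
      calc B ^ (-(n : ℤ) - 1) * A * (B ^ (-(n : ℤ) - 1))⁻¹
          = B⁻¹ * (B ^ (-(n : ℤ)) * A * (B ^ (-(n : ℤ)))⁻¹) * B := by group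
        _ = B⁻¹ * A * B * (B⁻¹ * e ^ (-(n : ℤ)) * B) := by rw [ih]; group
        _ = A * e ^ (-(n : ℤ) - 1) := by
          rw [h1', show B⁻¹ * e ^ (-(n : ℤ)) * B = e ^ (-(n : ℤ)) by
            rw [mul_assoc, ← ((h.central B).zpow_right _).eq, inv_mul_cancel_left]]
          group
  have h3 : B ^ j * A ^ u * (B ^ j)⁻¹ = A ^ u * e ^ (j * u) := by
    rw [← conj_zpow, h2, ((h.central A).zpow_right j).mul_zpow, zpow_mul]
  calc B ^ j * A ^ u = B ^ j * A ^ u * (B ^ j)⁻¹ * B ^ j := by group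
    _ = A ^ u * (e ^ (j * u) * B ^ j) := by rw [h3, mul_assoc]
    _ = _ := by rw [(((h.central B).zpow_left j).zpow_right (j * u)).eq.symm, mul_assoc]

theorem mul_form (i j k u v x : ℤ) :
    A ^ i * B ^ j * ⁅A, B⁆ ^ k * (A ^ u * B ^ v * ⁅A, B⁆ ^ x) =
      A ^ (i + u) * B ^ (j + v) * ⁅A, B⁆ ^ (k + x + j * u) := by
  have hc : ∀ (w : W) (n : ℤ), w * ⁅A, B⁆ ^ n = ⁅A, B⁆ ^ n * w := fun w n =>
    ((h.central w).zpow_right n).eq
  calc A ^ i * B ^ j * ⁅A, B⁆ ^ k * (A ^ u * B ^ v * ⁅A, B⁆ ^ x)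
      = A ^ i * B ^ j * (A ^ u * B ^ v * ⁅A, B⁆ ^ x * ⁅A, B⁆ ^ k) := by
        rw [mul_assoc (A ^ i * B ^ j), ← hc (A ^ u * B ^ v * ⁅A, B⁆ ^ x) k]
    _ = A ^ i * (B ^ j * A ^ u) * B ^ v * (⁅A, B⁆ ^ x * ⁅A, B⁆ ^ k) := by group
    _ = A ^ i * (A ^ u * (B ^ j * ⁅A, B⁆ ^ (j * u))) * B ^ v * (⁅A, B⁆ ^ x * ⁅A, B⁆ ^ k) := by
        rw [h.swap_gen, mul_assoc (A ^ u)]
    _ = A ^ i * A ^ u * (B ^ j * B ^ v) * (⁅A, B⁆ ^ (j * u) * (⁅A, B⁆ ^ x * ⁅A, B⁆ ^ k)) := by
        simp only [mul_assoc]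
        rw [← mul_assoc (⁅A, B⁆ ^ (j * u)) (B ^ v), ← hc (B ^ v) (j * u)]
        simp only [mul_assoc]
    _ = _ := by
        rw [← zpow_add, ← zpow_add, ← zpow_add, ← zpow_add]
        congr 2
        ring

theorem exists_form (w : W) : ∃ i j k : ℤ, w = A ^ i * B ^ j * ⁅A, B⁆ ^ k := by
  have hw : w ∈ Subgroup.closure ({A, B} : Set W) := h.gen ▸ Subgroup.mem_top w
  induction hw using Subgroup.closure_induction with
  | mem x hx =>
    rcases hx with rfl | rfl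
    · exact ⟨1, 0, 0, by simp⟩
    · exact ⟨0, 1, 0, by simp⟩
  | one => exact ⟨0, 0, 0, by simp⟩
  | mul x y _ _ hx hy =>
    obtain ⟨i, j, k, rfl⟩ := hx
    obtain ⟨u, v, t, rfl⟩ := hy
    exact ⟨_, _, _, h.mul_form i j k u v t⟩
  | inv x _ hx =>
    obtain ⟨i, j, k, rfl⟩ := hx
    refine ⟨-i, -j, -k + j * -i * -1, inv_eq_of_mul_eq_one_right ?_⟩
    rw [h.mul_form, add_neg_cancel, add_neg_cancel,
      show k + (-k + j * -i * -1) + j * -i = 0 by ring]
    simp

theorem sq_form (i j k : ℤ) :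
    (A ^ i * B ^ j * ⁅A, B⁆ ^ k) * (A ^ i * B ^ j * ⁅A, B⁆ ^ k) =
      A ^ (2 * i) * B ^ (2 * j) * ⁅A, B⁆ ^ (2 * k + j * i) := by
  rw [h.mul_form, two_mul, two_mul, two_mul]

/-- Squares commute with everything. -/
theorem sq_central (w v : W) : Commute (w * w) v := by
  obtain ⟨i, j, k, rfl⟩ := h.exists_form w
  obtain ⟨u, t, x, rfl⟩ := h.exists_form v
  rw [h.sq_form]
  unfold Commute SemiconjBy
  rw [h.mul_form, h.mul_form, add_comm (2 * i), add_comm (2 * j)]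
  congr 1
  obtain ⟨m, hm⟩ : ∃ m, (2 * k + j * i + x + 2 * j * u) = x + (2 * k + j * i) + t * (2 * i) + 2 * m :=
    ⟨j * u - t * i, by ring⟩
  rw [hm, zpow_add _ _ (2 * m), zpow_mul, zpow_two, h.sq, one_zpow, mul_one]

end WData

variable {G : Type*} [Group G] [Finite G]

theorem mem_normalizer_zpowers {H : Type*} [Group H] [Finite H] {x p : H}
    (h : x * p * x⁻¹ ∈ Subgroup.zpowers p) :
    x ∈ Subgroup.normalizer (Subgroup.zpowers p : Set H) := by
  rw [Subgroup.mem_normalizer_iff_map_conj_eq]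
  refine Subgroup.eq_of_le_of_card_ge ?_
    (Subgroup.card_map_of_injective (MulAut.conj x).injective).ge
  rw [MonoidHom.map_zpowers, Subgroup.zpowers_le]
  exact h

/-- The minimal nonmetacyclic quotient, by a subgroup of the commutator subgroup. -/
theorem exists_frame (hG : IsPGroup 2 G) (hgen : Gen2 (⊤ : Subgroup G))
    (hm : ¬ Cfsg.IsMetacyclic G) :
    ∃ (N : Subgroup G) (_ : N.Normal) (a b : G) (r s : ℕ), N ≤ commutator G ∧
      Subgroup.closure {a, b} = ⊤ ∧ WData (a : G ⧸ N) (b : G ⧸ N) r s := by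
  classical
  haveI : Fact (Nat.Prime 2) := ⟨Nat.prime_two⟩
  let P : Subgroup G → Prop := fun N => ∃ hn : N.Normal, N ≤ commutator G ∧
    ¬ @Cfsg.IsMetacyclic (G ⧸ N) (@QuotientGroup.Quotient.group G _ N hn)
  have hP : P ⊥ := ⟨inferInstance, bot_le, fun h =>
    hm (isMetacyclic_of_surjective h QuotientGroup.quotientBot.toMonoidHom
      QuotientGroup.quotientBot.surjective)⟩
  obtain ⟨N, hNmax⟩ := (Set.toFinite {N : Subgroup G | P N}).exists_maximal ⟨⊥, hP⟩
  obtain ⟨hn, hNle, hNm⟩ := hNmax.1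
  haveI := hn
  set π := QuotientGroup.mk' N with hπ
  have hW : IsPGroup 2 (G ⧸ N) := hG.to_quotient N
  have hcomm : commutator (G ⧸ N) = (commutator G).map π := by
    rw [_root_.commutator_def, _root_.commutator_def, Subgroup.map_commutator,
      Subgroup.map_top_of_surjective π (QuotientGroup.mk'_surjective N)]
  have hgenW : Gen2 (⊤ : Subgroup (G ⧸ N)) := by
    have := hgen.map π
    rwa [Subgroup.map_top_of_surjective π (QuotientGroup.mk'_surjective N)] at this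
  have hnab : commutator (G ⧸ N) ≠ ⊥ := fun h0 => hNm (isMetacyclic_of_comm (fun x y => by
    have hxy : ⁅x, y⁆ ∈ commutator (G ⧸ N) :=
      Subgroup.commutator_mem_commutator (Subgroup.mem_top x) (Subgroup.mem_top y)
    rw [h0, Subgroup.mem_bot] at hxy
    exact commutatorElement_eq_one_iff_mul_comm.1 hxy) hgenW)
  obtain ⟨z, hzmem, hz1, hz2⟩ : ∃ z ∈ commutator (G ⧸ N) ⊓ Subgroup.center (G ⧸ N),
      z ≠ 1 ∧ z * z = 1 := by
    set K := commutator (G ⧸ N) ⊓ Subgroup.center (G ⧸ N)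
    have hK : K ≠ ⊥ := PGroup.inf_center_ne_bot hW _ hnab
    obtain ⟨k, hk⟩ := (hW.to_subgroup K).exists_card_eq
    have hd : 2 ∣ Nat.card K := by
      rw [hk]
      refine dvd_pow_self 2 fun h0 => hK ?_
      rw [h0, pow_zero] at hk
      exact Subgroup.card_eq_one.mp hk
    obtain ⟨u, hu⟩ := exists_prime_orderOf_dvd_card' (G := K) 2 hd
    refine ⟨u, u.2, fun h1 => ?_, ?_⟩
    · rw [Subtype.ext h1 (a2 := (1 : K)), orderOf_one] at hu
      omega
    · have := pow_orderOf_eq_one u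
      rw [hu, pow_two] at this
      exact congrArg Subtype.val this
  have hzc : ∀ w, Commute w z := fun w => Subgroup.mem_center_iff.1 hzmem.2 w
  haveI hZn : (Subgroup.zpowers z).Normal := ⟨fun m hm g => by
    obtain ⟨i, rfl⟩ := Subgroup.mem_zpowers_iff.1 hm
    rwa [((hzc g).zpow_right i).eq, mul_inv_cancel_right]⟩
  set Z := Subgroup.zpowers z with hZ
  -- the quotient by `z` is metacyclic
  have hQm : Cfsg.IsMetacyclic ((G ⧸ N) ⧸ Z) := by
    set N' := Z.comap π with hN'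
    haveI : N'.Normal := hZn.comap π
    have hNN' : N ≤ N' := fun x hx => by
      show (x : G ⧸ N) ∈ Z
      rw [(QuotientGroup.eq_one_iff x).2 hx]
      exact one_mem _
    have hN'le : N' ≤ commutator G := by
      intro x hx
      have h1 : π x ∈ commutator (G ⧸ N) := (Subgroup.zpowers_le.2 hzmem.1) hx
      rw [hcomm] at h1
      obtain ⟨y, hy, hyx⟩ := h1
      have h2 := hNle (QuotientGroup.eq.1 hyx)
      simpa using mul_mem hy h2
    have hm' : Cfsg.IsMetacyclic (G ⧸ N') := by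
      by_contra hm'
      obtain ⟨g, rfl⟩ := QuotientGroup.mk_surjective z
      have h1 : N' ≤ N := hNmax.2 ⟨inferInstance, hN'le, hm'⟩ hNN'
      exact hz1 ((QuotientGroup.eq_one_iff g).2 (h1 (Subgroup.mem_zpowers _)))
    refine isMetacyclic_of_surjective hm'
      (QuotientGroup.lift N' ((QuotientGroup.mk' Z).comp π) fun x hx => ?_) ?_
    · exact (QuotientGroup.eq_one_iff _).2 hx
    · intro q
      obtain ⟨w, rfl⟩ := QuotientGroup.mk_surjective q
      obtain ⟨g, rfl⟩ := QuotientGroup.mk_surjective w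
      exact ⟨(g : G ⧸ N'), rfl⟩
  haveI : Group.IsNilpotent (G ⧸ N) := hW.isNilpotent
  have hzΦ : z ∈ frattini (G ⧸ N) := PGroup.commutator_le_frattini hW hzmem.1
  obtain ⟨Kb, hKn, hKc, hKq⟩ := hQm
  haveI := hKn
  obtain ⟨pb, hpb⟩ := Kb.isCyclic_iff_exists_zpowers_eq_top.1 hKc
  obtain ⟨p, rfl⟩ := QuotientGroup.mk_surjective pb
  obtain ⟨qb, hqb⟩ := hKq.exists_generator
  obtain ⟨q1, rfl⟩ := QuotientGroup.mk_surjective qb
  obtain ⟨q, rfl⟩ := QuotientGroup.mk_surjective q1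
  have hgenpq : Subgroup.closure ({p, q} : Set (G ⧸ N)) = ⊤ := by
    refine frattini_nongenerating (eq_top_iff.2 fun w _ => ?_)
    set C := Subgroup.closure ({p, q} : Set (G ⧸ N))
    have hp : p ∈ C ⊔ frattini (G ⧸ N) := Subgroup.mem_sup_left (Subgroup.subset_closure (by simp))
    have hq : q ∈ C ⊔ frattini (G ⧸ N) := Subgroup.mem_sup_left (Subgroup.subset_closure (by simp))
    obtain ⟨i, hi⟩ := Subgroup.mem_zpowers_iff.1 (hqb ((w : (G ⧸ N) ⧸ Z) : _ ⧸ Kb))
    rw [← QuotientGroup.mk_zpow, QuotientGroup.eq, ← hpb] at hi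
    obtain ⟨j, hj⟩ := Subgroup.mem_zpowers_iff.1 hi
    rw [← QuotientGroup.mk_zpow, ← QuotientGroup.mk_zpow, ← QuotientGroup.mk_inv,
      ← QuotientGroup.mk_mul, QuotientGroup.eq] at hj
    have h1 : (p ^ j)⁻¹ * ((q ^ i)⁻¹ * w) ∈ C ⊔ frattini (G ⧸ N) :=
      Subgroup.mem_sup_right ((Subgroup.zpowers_le.2 hzΦ) hj)
    simpa using mul_mem (mul_mem (zpow_mem hq i) (zpow_mem hp j)) h1
  -- `p` is normalized modulo `z`
  obtain ⟨k, t, hpc⟩ : ∃ k t : ℤ, q * p * q⁻¹ = p ^ k * z ^ t := by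
    have h1 : ((q * p * q⁻¹ : G ⧸ N) : (G ⧸ N) ⧸ Z) ∈ Kb := by
      rw [QuotientGroup.mk_mul, QuotientGroup.mk_mul, QuotientGroup.mk_inv]
      exact hKn.conj_mem _ (hpb ▸ Subgroup.mem_zpowers _) _
    rw [← hpb] at h1
    obtain ⟨k, hk⟩ := Subgroup.mem_zpowers_iff.1 h1
    rw [← QuotientGroup.mk_zpow, QuotientGroup.eq] at hk
    obtain ⟨t, ht⟩ := Subgroup.mem_zpowers_iff.1 hk
    exact ⟨k, t, by rw [ht, mul_inv_cancel_left]⟩
  have hzp : z ∉ Subgroup.zpowers p := by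
    intro hzp
    refine hNm (isMetacyclic_of_zpowers (g := p) (h := q) ?_ hgenpq)
    rw [← Subgroup.normalizer_eq_top_iff, eq_top_iff, ← hgenpq, Subgroup.closure_le]
    rintro x (rfl | rfl)
    · exact Subgroup.le_normalizer (Subgroup.mem_zpowers _)
    · refine mem_normalizer_zpowers ?_
      show x * p * x⁻¹ ∈ _
      rw [hpc]
      exact mul_mem (Subgroup.zpow_mem_zpowers p k) (zpow_mem hzp t)
  set c := q * p * q⁻¹ * p⁻¹ with hcdef
  have hc : c = p ^ (k - 1) * z ^ t := by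
    rw [hcdef, hpc, mul_assoc, ← ((hzc p⁻¹).zpow_right t).eq]
    group
  have hcp : Commute p c := by
    rw [hc]
    exact (Commute.self_zpow p _).mul_right ((hzc p).zpow_right t)
  have hcq : q * c * q⁻¹ = c ^ k := by
    have e1 : q * p ^ (k - 1) * q⁻¹ = (p ^ k * z ^ t) ^ (k - 1) := by rw [← hpc, conj_zpow]
    calc q * c * q⁻¹ = (q * p ^ (k - 1) * q⁻¹) * (q * z ^ t * q⁻¹) := by rw [hc]; group
      _ = (p ^ k * z ^ t) ^ (k - 1) * z ^ t := by
        rw [e1, ((hzc q).zpow_right t).eq, mul_inv_cancel_right]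
      _ = c ^ k := by
        rw [hc, ((hzc (p ^ k)).zpow_right t).mul_zpow, ((hzc (p ^ (k - 1))).zpow_right t).mul_zpow,
          ← zpow_mul, ← zpow_mul, ← zpow_mul, ← zpow_mul, mul_assoc, ← zpow_add,
          show k * (k - 1) = (k - 1) * k by ring, show t * (k - 1) + t = t * k by ring]
  haveI hCn : (Subgroup.zpowers c).Normal := by
    rw [← Subgroup.normalizer_eq_top_iff, eq_top_iff, ← hgenpq, Subgroup.closure_le]
    rintro x (rfl | rfl)
    · refine Subgroup.centralizer_le_normalizer _ (Subgroup.mem_centralizer_iff.2 fun y hy => ?_)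
      obtain ⟨i, rfl⟩ := Subgroup.mem_zpowers_iff.1 hy
      exact (hcp.zpow_right i).symm.eq
    · refine mem_normalizer_zpowers ?_
      show x * c * x⁻¹ ∈ _
      rw [hcq]
      exact Subgroup.zpow_mem_zpowers c k
  have hDle : commutator (G ⧸ N) ≤ Subgroup.zpowers c := by
    set π' := QuotientGroup.mk' (Subgroup.zpowers c)
    have hpq : Commute (π' p) (π' q) := by
      have h1 : π' c = 1 := (QuotientGroup.eq_one_iff c).2 (Subgroup.mem_zpowers c)
      replace h1 : π' (q * p * q⁻¹ * p⁻¹) = 1 := h1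
      rw [map_mul, map_mul, map_mul, map_inv, map_inv] at h1
      refine (?_ : π' q * π' p = π' p * π' q).symm
      calc π' q * π' p = (π' q * π' p * (π' q)⁻¹ * (π' p)⁻¹) * (π' p * π' q) := by group
        _ = _ := by rw [h1, one_mul]
    have hab : IsMulCommutative (Subgroup.closure ({π' p, π' q} : Set _)) :=
      Subgroup.isMulCommutative_closure (by
        rintro x (rfl | rfl) y (rfl | rfl) <;> first | rfl | exact hpq | exact hpq.symm)
    have htop : ∀ x : (G ⧸ N) ⧸ Subgroup.zpowers c,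
        x ∈ Subgroup.closure ({π' p, π' q} : Set _) := by
      intro x
      rw [← Set.image_pair π', ← MonoidHom.map_closure, hgenpq,
        Subgroup.map_top_of_surjective π' (QuotientGroup.mk'_surjective _)]
      exact Subgroup.mem_top x
    rw [_root_.commutator_def, Subgroup.commutator_le]
    intro x _ y _
    rw [← QuotientGroup.eq_one_iff, ← QuotientGroup.mk'_apply, map_commutatorElement,
      commutatorElement_eq_one_iff_mul_comm]
    exact congrArg Subtype.val (hab.is_comm.comm ⟨_, htop (π' x)⟩ ⟨_, htop (π' y)⟩)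
  obtain ⟨j, hj⟩ := Subgroup.mem_zpowers_iff.1 (hDle hzmem.1)
  -- the commutator subgroup has order two
  have hc2 : c * c = 1 := by
    rcases Int.even_or_odd j with ⟨i, rfl⟩ | ⟨i, rfl⟩
    · exfalso
      apply hzp
      have h1 : z = p ^ ((k - 1) * (i + i)) := by
        have h2 : z ^ (t * (i + i)) = 1 := by
          rw [show t * (i + i) = 2 * (t * i) by ring, zpow_mul, zpow_two, hz2, one_zpow]
        calc z = c ^ (i + i) := hj.symm
          _ = _ := by
            rw [hc, ((hzc (p ^ (k - 1))).zpow_right t).mul_zpow, ← zpow_mul, ← zpow_mul, h2,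
              mul_one]
      rw [h1]
      exact Subgroup.zpow_mem_zpowers p _
    · obtain ⟨n, hn⟩ := IsPGroup.iff_orderOf.1 hW c
      have h1 : (c * c) ^ (2 * i + 1) = 1 := by
        rw [(Commute.refl c).mul_zpow, hj, hz2]
      obtain ⟨m, hm'⟩ := IsPGroup.iff_orderOf.1 hW (c * c)
      have h2 := orderOf_dvd_iff_zpow_eq_one.2 h1
      rw [hm'] at h2
      rcases m with _ | m
      · exact orderOf_eq_one_iff.1 (by simpa using hm')
      · exfalso
        have h3 : (2 : ℤ) ∣ 2 * i + 1 := by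
          refine dvd_trans ?_ h2
          push_cast
          exact dvd_pow_self 2 m.succ_ne_zero
        omega
  have hcmem : ∀ m : ℤ, c ^ m = 1 ∨ c ^ m = c := by
    intro m
    rcases Int.even_or_odd m with ⟨i, rfl⟩ | ⟨i, rfl⟩
    · left; rw [← two_mul, zpow_mul, zpow_two, hc2, one_zpow]
    · right; rw [zpow_add, zpow_one, zpow_mul, zpow_two, hc2, one_zpow, one_mul]
  have hD : ∀ x y : G ⧸ N, ⁅x, y⁆ = 1 ∨ ⁅x, y⁆ = c := fun x y => by
    obtain ⟨m, hm'⟩ := Subgroup.mem_zpowers_iff.1 (hDle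
      (Subgroup.commutator_mem_commutator (Subgroup.mem_top x) (Subgroup.mem_top y)))
    rw [← hm']
    exact hcmem m
  have hzceq : z = c := by
    rcases hcmem j with h1 | h1
    · exact absurd (hj.symm.trans h1) hz1
    · exact hj.symm.trans h1
  rw [← hzceq] at hD
  have hDZ : ∀ x y : G ⧸ N, ⁅x, y⁆ ∈ Z := fun x y => by
    rcases hD x y with h1 | h1 <;> rw [h1]
    exacts [one_mem _, Subgroup.mem_zpowers z]
  -- choice of the generators
  obtain ⟨u, v, huv⟩ := hgen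
  obtain ⟨a, b₁, hab, hord⟩ : ∃ a b : G, Subgroup.closure {a, b} = ⊤ ∧
      orderOf ((π b : G ⧸ N) : (G ⧸ N) ⧸ Z) ∣ orderOf ((π a : G ⧸ N) : (G ⧸ N) ⧸ Z) := by
    obtain ⟨e1, he1⟩ := IsPGroup.iff_orderOf.1 (hW.to_quotient Z) ((π u : G ⧸ N) : (G ⧸ N) ⧸ Z)
    obtain ⟨e2, he2⟩ := IsPGroup.iff_orderOf.1 (hW.to_quotient Z) ((π v : G ⧸ N) : (G ⧸ N) ⧸ Z)
    rcases le_total e2 e1 with hle | hle
    · exact ⟨u, v, huv, by rw [he1, he2]; exact pow_dvd_pow 2 hle⟩
    · exact ⟨v, u, by rw [Set.pair_comm]; exact huv, by rw [he1, he2]; exact pow_dvd_pow 2 hle⟩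
  set A : G ⧸ N := π a with hA
  obtain ⟨r, hr⟩ := IsPGroup.iff_orderOf.1 (hW.to_quotient Z) (A : (G ⧸ N) ⧸ Z)
  haveI hUn : (Subgroup.zpowers (A : (G ⧸ N) ⧸ Z)).Normal := ⟨fun n hn g => by
    obtain ⟨g, rfl⟩ := QuotientGroup.mk_surjective g
    obtain ⟨m, rfl⟩ := QuotientGroup.mk_surjective n
    have h1 : ((⁅g, m⁆ : G ⧸ N) : (G ⧸ N) ⧸ Z) = 1 := (QuotientGroup.eq_one_iff _).2 (hDZ g m)
    rw [← QuotientGroup.mk'_apply, map_commutatorElement, commutatorElement_eq_one_iff_mul_comm,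
      QuotientGroup.mk'_apply, QuotientGroup.mk'_apply] at h1
    rwa [h1, mul_inv_cancel_right]⟩
  set U := Subgroup.zpowers (A : (G ⧸ N) ⧸ Z) with hU
  obtain ⟨s, hs⟩ := IsPGroup.iff_orderOf.1 ((hW.to_quotient Z).to_quotient U)
    (((π b₁ : G ⧸ N) : (G ⧸ N) ⧸ Z) : _ ⧸ U)
  have hbU : ((π b₁ : G ⧸ N) : (G ⧸ N) ⧸ Z) ^ 2 ^ s ∈ U := by
    rw [← QuotientGroup.eq_one_iff, QuotientGroup.mk_pow, ← hs, pow_orderOf_eq_one]
  obtain ⟨i₀, hi₀⟩ := Subgroup.mem_zpowers_iff.1 hbU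
  have hsr : s ≤ r := by
    have h1 := (orderOf_map_dvd (QuotientGroup.mk' U) ((π b₁ : G ⧸ N) : (G ⧸ N) ⧸ Z)).trans hord
    rw [QuotientGroup.mk'_apply, hs, hr] at h1
    exact (Nat.pow_dvd_pow_iff_le_right (by norm_num)).1 h1
  obtain ⟨i₁, rfl⟩ : (2 : ℤ) ^ s ∣ i₀ := by
    have h1 : (A : (G ⧸ N) ⧸ Z) ^ (i₀ * (2 : ℤ) ^ (r - s)) = 1 := by
      rw [zpow_mul, hi₀, show ((2 : ℤ) ^ (r - s)) = ((2 ^ (r - s) : ℕ) : ℤ) by push_cast; rfl,
        zpow_natCast, ← pow_mul, ← pow_add, Nat.add_sub_cancel' hsr]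
      exact orderOf_dvd_iff_pow_eq_one.1 (hr ▸ hord)
    have h2 := orderOf_dvd_iff_zpow_eq_one.2 h1
    rw [hr] at h2
    push_cast at h2
    rw [show (2 : ℤ) ^ r = 2 ^ s * 2 ^ (r - s) by rw [← pow_add, Nat.add_sub_cancel' hsr]] at h2
    exact (mul_dvd_mul_iff_right (pow_ne_zero _ (by norm_num))).1 h2
  set b := b₁ * a ^ (-i₁) with hb
  set B : G ⧸ N := π b with hB
  have hgenab : Subgroup.closure ({a, b} : Set G) = ⊤ := by
    rw [eq_top_iff, ← hab, Subgroup.closure_le]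
    rintro x (rfl | rfl)
    · exact Subgroup.subset_closure (by simp)
    · have : x = b * a ^ i₁ := by rw [hb]; group
      rw [this]
      exact mul_mem (Subgroup.subset_closure (by simp))
        (zpow_mem (Subgroup.subset_closure (by simp)) _)
  have hgenAB : Subgroup.closure ({A, B} : Set (G ⧸ N)) = ⊤ := by
    rw [hA, hB, ← Set.image_pair π, ← MonoidHom.map_closure, hgenab,
      Subgroup.map_top_of_surjective π (QuotientGroup.mk'_surjective _)]
  have hBq : ((B : G ⧸ N) : (G ⧸ N) ⧸ Z) =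
      ((π b₁ : G ⧸ N) : (G ⧸ N) ⧸ Z) * (A : (G ⧸ N) ⧸ Z) ^ (-i₁) := by
    rw [hB, hb, map_mul, map_zpow, QuotientGroup.mk_mul, QuotientGroup.mk_zpow]
  have hABc : Commute ((π b₁ : G ⧸ N) : (G ⧸ N) ⧸ Z) (A : (G ⧸ N) ⧸ Z) := by
    have h1 : ((⁅π b₁, A⁆ : G ⧸ N) : (G ⧸ N) ⧸ Z) = 1 := (QuotientGroup.eq_one_iff _).2 (hDZ _ _)
    rw [← QuotientGroup.mk'_apply, map_commutatorElement,
      commutatorElement_eq_one_iff_mul_comm] at h1
    exact h1
  have hzu : ∀ x ∈ Z, x = 1 ∨ x = z := by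
    intro x hx
    obtain ⟨i, rfl⟩ := Subgroup.mem_zpowers_iff.1 hx
    rcases Int.even_or_odd i with ⟨j, rfl⟩ | ⟨j, rfl⟩
    · left; rw [← two_mul, zpow_mul, zpow_two, hz2, one_zpow]
    · right; rw [zpow_add, zpow_one, zpow_mul, zpow_two, hz2, one_zpow, one_mul]
  have hnormal : ∀ g : G ⧸ N, z ∈ Subgroup.zpowers g → (Subgroup.zpowers g).Normal := fun g hg =>
    ⟨fun n hn x => by
      have h1 : x * n * x⁻¹ * n⁻¹ ∈ Subgroup.zpowers g := (Subgroup.zpowers_le.2 hg) (hDZ x n)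
      simpa using mul_mem h1 hn⟩
  have hpA : A ^ 2 ^ r = 1 := by
    have h1 : A ^ 2 ^ r ∈ Z := by
      rw [← QuotientGroup.eq_one_iff, QuotientGroup.mk_pow, ← hr, pow_orderOf_eq_one]
    rcases hzu _ h1 with h2 | h2
    · exact h2
    · exact absurd (isMetacyclic_of_zpowers
        (hnormal A (h2 ▸ Subgroup.npow_mem_zpowers A _)) hgenAB) hNm
  have hpB : B ^ 2 ^ s = 1 := by
    have h1 : B ^ 2 ^ s ∈ Z := by
      rw [← QuotientGroup.eq_one_iff, QuotientGroup.mk_pow, hBq, (hABc.zpow_right _).mul_pow,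
        ← hi₀, ← zpow_natCast ((A : (G ⧸ N) ⧸ Z) ^ (-i₁)), ← zpow_mul, ← zpow_add,
        show (2 : ℤ) ^ s * i₁ + -i₁ * ((2 ^ s : ℕ) : ℤ) = 0 by push_cast; ring, zpow_zero]
    rcases hzu _ h1 with h2 | h2
    · exact h2
    · exact absurd (isMetacyclic_of_zpowers (g := B) (h := A)
        (hnormal B (h2 ▸ Subgroup.npow_mem_zpowers B _)) (by rw [Set.pair_comm]; exact hgenAB)) hNm
  have hAB : ⁅A, B⁆ = z := by
    rcases hD A B with h1 | h1
    · exfalso
      refine hNm (isMetacyclic_of_zpowers (g := A) (h := B) ?_ hgenAB)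
      rw [← Subgroup.normalizer_eq_top_iff, eq_top_iff, ← hgenAB, Subgroup.closure_le]
      have hco : Commute A B := commutatorElement_eq_one_iff_mul_comm.1 h1
      rintro x (rfl | rfl)
      · exact Subgroup.le_normalizer (Subgroup.mem_zpowers _)
      · refine Subgroup.centralizer_le_normalizer _ (Subgroup.mem_centralizer_iff.2 fun y hy => ?_)
        obtain ⟨i, rfl⟩ := Subgroup.mem_zpowers_iff.1 hy
        exact (hco.zpow_left i).eq
    · exact h1
  have hs1 : 1 ≤ s := by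
    by_contra h0
    obtain rfl : s = 0 := by omega
    rw [pow_zero, pow_one] at hpB
    exact hz1 (by rw [← hAB, hpB, commutatorElement_one_right])
  have hr2 : 2 ≤ r := by
    by_contra h0
    obtain rfl : r = 1 := by omega
    obtain rfl : s = 1 := by omega
    simp only [pow_one] at hpA hpB
    rw [pow_two] at hpA hpB
    refine hNm (isMetacyclic_of_zpowers (g := A * B) (h := A) (hnormal _ ?_) ?_)
    · refine Subgroup.mem_zpowers_iff.2 ⟨2, ?_⟩
      rw [zpow_two, ← hAB, commutatorElement_def, inv_eq_of_mul_eq_one_right hpA,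
        inv_eq_of_mul_eq_one_right hpB]
      group
    · rw [eq_top_iff, ← hgenAB, Subgroup.closure_le]
      rintro x (hx | hx) <;> rw [hx]
      · exact Subgroup.subset_closure (by simp)
      · have h1 : B = A⁻¹ * (A * B) := by group
        rw [h1]
        exact mul_mem (inv_mem (Subgroup.subset_closure (by simp)))
          (Subgroup.subset_closure (by simp))
  refine ⟨N, hn, a, b, r, s, hNle, hgenab,
    ⟨hgenAB, fun w => hAB ▸ hzc w, hAB ▸ hz2, hAB ▸ hz1, hr2, hs1, hsr, hpA, hpB, ?_⟩⟩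
  intro i j m hijm
  change A ^ i * B ^ j * ⁅A, B⁆ ^ m = 1 at hijm
  rw [hAB] at hijm
  have h1 : (A : (G ⧸ N) ⧸ Z) ^ i * (B : (G ⧸ N) ⧸ Z) ^ j = 1 := by
    have h2 := congrArg (QuotientGroup.mk' Z) hijm
    rw [map_mul, map_mul, map_zpow, map_zpow, map_zpow, map_one,
      QuotientGroup.mk'_apply Z z, (QuotientGroup.eq_one_iff z).2 (Subgroup.mem_zpowers z),
      one_zpow, mul_one] at h2
    exact h2
  have hj : (2 : ℤ) ^ s ∣ j := by
    have h2 := congrArg (QuotientGroup.mk' U) h1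
    have hAU : QuotientGroup.mk' U (A : (G ⧸ N) ⧸ Z) = 1 :=
      (QuotientGroup.eq_one_iff _).2 (Subgroup.mem_zpowers _)
    rw [map_mul, map_zpow, map_zpow, map_one, hBq, map_mul, map_zpow, hAU, one_zpow, one_mul,
      one_zpow, mul_one] at h2
    have h3 := orderOf_dvd_iff_zpow_eq_one.2 h2
    rw [QuotientGroup.mk'_apply, hs] at h3
    exact_mod_cast h3
  have hBj : B ^ j = 1 := by
    obtain ⟨d, rfl⟩ := hj
    rw [zpow_mul, show ((2 : ℤ) ^ s) = ((2 ^ s : ℕ) : ℤ) by push_cast; rfl, zpow_natCast, hpB,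
      one_zpow]
  have hi : (2 : ℤ) ^ r ∣ i := by
    rw [← QuotientGroup.mk_zpow _ B, hBj, QuotientGroup.mk_one, mul_one] at h1
    have h3 := orderOf_dvd_iff_zpow_eq_one.2 h1
    rw [hr] at h3
    exact_mod_cast h3
  refine ⟨hi, hj, ?_⟩
  obtain ⟨d, rfl⟩ := hi
  rw [hBj, mul_one, zpow_mul, show ((2 : ℤ) ^ r) = ((2 ^ r : ℕ) : ℤ) by push_cast; rfl,
    zpow_natCast, hpA, one_zpow, one_mul] at hijm
  rcases Int.even_or_odd m with hm' | ⟨d', rfl⟩
  · exact hm'.two_dvd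
  · rw [zpow_add, zpow_one, zpow_mul, zpow_two, hz2, one_zpow, one_mul] at hijm
    exact absurd hijm hz1

end Cfsg.Agent.Bicyclic2
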