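import Cfsg.Agent.Lib.Fusion.Basic
import Cfsg.Agent.Lib.Fusion.Saturated
import Mathlib.GroupTheory.SpecificGroups.Cyclic
import Mathlib.Tactic.Group

/-!
The group `E = Q⟨w⟩` with `Q` a four-group or a quaternion group of order eight, its automorphism of
order three and the automiser generated by it and an outer involutory element `g` of the normaliser.
-/

set_option autoImplicit false

namespace Cfsg.Agent.Bicyclic2

open Cfsg Cfsg.FusionSystem Cfsg.Agent Cfsg.Agent.Fusion

variable {Ω : Type*} [Group Ω]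

/-- The relations of `Q⟨w⟩`. -/
structure QRel (X Y W : Ω) : Prop where
  wx : Commute W X
  wy : Commute W Y
  x4 : X * X * (X * X) = 1
  yy : Y * Y = X * X
  yx : Y * X * Y⁻¹ = X⁻¹

namespace QRel

variable {X Y W : Ω} (h : QRel X Y W)
include h

theorem xyx : X * Y * X⁻¹ = Y⁻¹ := by
  have h1 : Y * X = X⁻¹ * Y := mul_inv_eq_iff_eq_mul.1 h.yx
  apply eq_inv_of_mul_eq_one_left
  calc X * Y * X⁻¹ * Y = X * Y * (X⁻¹ * Y) := by group
    _ = X * (Y * Y) * X := by rw [← h1]; group
    _ = 1 := by rw [h.yy, ← mul_assoc]; simpa [mul_assoc] using h.x4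

/-- The sign of conjugation by a power of `Y`. -/
theorem swap (j a : ℤ) : Y ^ j * X ^ a = X ^ (if 2 ∣ j then a else -a) * Y ^ j := by
  have hyy : Commute (Y * Y) X := by
    rw [h.yy]; exact (Commute.refl X).mul_left (Commute.refl X)
  have hev : ∀ m : ℤ, Y ^ (2 * m) * X ^ a = X ^ a * Y ^ (2 * m) := fun m => by
    rw [zpow_mul, zpow_two]
    exact (Commute.zpow_zpow hyy m a).eq
  split_ifs with hj
  · obtain ⟨m, rfl⟩ := hj
    exact hev m
  · obtain ⟨m, rfl⟩ : ∃ m, j = 2 * m + 1 := ⟨j / 2, by omega⟩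
    have h1 : Y * X ^ a = X ^ (-a) * Y := by
      have h2 : Y * X ^ a * Y⁻¹ = X ^ (-a) := by rw [← conj_zpow, h.yx, inv_zpow, zpow_neg]
      exact mul_inv_eq_iff_eq_mul.1 h2
    rw [add_comm, zpow_one_add]
    calc Y * Y ^ (2 * m) * X ^ a = Y * (Y ^ (2 * m) * X ^ a) := by group
      _ = Y * X ^ a * Y ^ (2 * m) := by rw [hev]; group
      _ = _ := by rw [h1]; group

/-- The product of two normal forms. -/
theorem mul (i j k a b c : ℤ) : X ^ i * Y ^ j * W ^ k * (X ^ a * Y ^ b * W ^ c) =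
    X ^ (i + if 2 ∣ j then a else -a) * Y ^ (j + b) * W ^ (k + c) := by
  have hw : Commute (W ^ k) (X ^ a * Y ^ b) :=
    (Commute.zpow_zpow h.wx k a).mul_right (Commute.zpow_zpow h.wy k b)
  calc X ^ i * Y ^ j * W ^ k * (X ^ a * Y ^ b * W ^ c)
      = X ^ i * Y ^ j * (W ^ k * (X ^ a * Y ^ b)) * W ^ c := by group
    _ = X ^ i * (Y ^ j * X ^ a) * Y ^ b * W ^ k * W ^ c := by rw [hw.eq]; group
    _ = _ := by
      rw [h.swap, zpow_add, zpow_add, zpow_add]
      simp only [mul_assoc]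

theorem inv (i j k : ℤ) : (X ^ i * Y ^ j * W ^ k)⁻¹ =
    X ^ (if 2 ∣ j then -i else i) * Y ^ (-j) * W ^ (-k) := by
  refine inv_eq_of_mul_eq_one_left ?_
  rw [h.mul]
  have e : (if 2 ∣ j then -i else i) + (if 2 ∣ -j then i else -i) = 0 := by
    split_ifs <;> omega
  rw [e, neg_add_cancel, neg_add_cancel]
  simp

theorem mem_closure_iff {e : Ω} :
    e ∈ Subgroup.closure ({X, Y, W} : Set Ω) ↔ ∃ i j k : ℤ, e = X ^ i * Y ^ j * W ^ k := by
  constructor
  · intro he
    induction he using Subgroup.closure_induction with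
    | mem t ht =>
      rcases ht with rfl | rfl | rfl
      exacts [⟨1, 0, 0, by simp⟩, ⟨0, 1, 0, by simp⟩, ⟨0, 0, 1, by simp⟩]
    | one => exact ⟨0, 0, 0, by simp⟩
    | mul p q _ _ hp hq =>
      obtain ⟨i, j, k, rfl⟩ := hp
      obtain ⟨a, b, c, rfl⟩ := hq
      exact ⟨_, _, _, h.mul i j k a b c⟩
    | inv p _ hp =>
      obtain ⟨i, j, k, rfl⟩ := hp
      exact ⟨_, _, _, h.inv i j k⟩
  · rintro ⟨i, j, k, rfl⟩
    exact mul_mem (mul_mem (zpow_mem (Subgroup.subset_closure (by simp)) i)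
      (zpow_mem (Subgroup.subset_closure (by simp)) j))
      (zpow_mem (Subgroup.subset_closure (by simp)) k)

theorem even_form {i j : ℤ} (hi : 2 ∣ i) (hj : 2 ∣ j) :
    X ^ i * Y ^ j = (X * X) ^ (i / 2 + j / 2) := by
  obtain ⟨a, rfl⟩ := hi
  obtain ⟨b, rfl⟩ := hj
  rw [zpow_mul, zpow_mul, zpow_two, zpow_two, h.yy, ← zpow_add]
  congr 1
  omega

/-- A homomorphism given by a second triple satisfying the relations. -/
theorem exists_hom (hind : ∀ i j k : ℤ, X ^ i * Y ^ j * W ^ k = 1 → 2 ∣ i ∧ 2 ∣ j) {X' Y' : Ω}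
    (h' : QRel X' Y' W) (hsq : X' * X' = X * X) {E : Subgroup Ω}
    (hE : E = Subgroup.closure ({X, Y, W} : Set Ω)) :
    ∃ f : ↥E →* Ω, ∀ (e : ↥E) (i j k : ℤ), (e : Ω) = X ^ i * Y ^ j * W ^ k →
      f e = X' ^ i * Y' ^ j * W ^ k := by
  have hker : ∀ i j k : ℤ, X ^ i * Y ^ j * W ^ k = 1 → X' ^ i * Y' ^ j * W ^ k = 1 := by
    intro i j k e
    obtain ⟨hi, hj⟩ := hind i j k e
    rw [h'.even_form hi hj, hsq, ← h.even_form hi hj]
    exact e
  have hwd : ∀ i j k a b c : ℤ, X ^ i * Y ^ j * W ^ k = X ^ a * Y ^ b * W ^ c →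
      X' ^ i * Y' ^ j * W ^ k = X' ^ a * Y' ^ b * W ^ c := by
    intro i j k a b c e
    have e1 : X ^ i * Y ^ j * W ^ k * (X ^ a * Y ^ b * W ^ c)⁻¹ = 1 := by
      rw [e, mul_inv_cancel]
    rw [h.inv, h.mul] at e1
    have e2 := hker _ _ _ e1
    rw [← h'.mul, ← h'.inv, mul_inv_eq_one] at e2
    exact e2
  subst hE
  have hex : ∀ e : ↥(Subgroup.closure ({X, Y, W} : Set Ω)),
      ∃ i j k : ℤ, (e : Ω) = X ^ i * Y ^ j * W ^ k := fun e => h.mem_closure_iff.1 e.2
  choose I J K hIJK using hex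
  refine ⟨MonoidHom.mk' (fun e => X' ^ I e * Y' ^ J e * W ^ K e) fun p q => ?_,
    fun e i j k he => hwd _ _ _ _ _ _ ((hIJK e).symm.trans he)⟩
  rw [h'.mul]
  refine hwd _ _ _ _ _ _ ?_
  rw [← h.mul, ← hIJK, ← hIJK, ← hIJK, Subgroup.coe_mul]

end QRel

/-- The configuration from which the fusion system is built. -/
structure Setup (S : Subgroup Ω) (x y w g : Ω) : Prop where
  rel : QRel x y w
  xS : x ∈ S
  yS : y ∈ S
  wS : w ∈ S
  gS : g ∈ S
  zc : ∀ h ∈ S, Commute h (x * x)
  indep : ∀ i j k : ℤ, x ^ i * y ^ j * w ^ k = 1 → 2 ∣ i ∧ 2 ∣ j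
  gw : g * w * g⁻¹ = w
  gy : g * y * g⁻¹ = x * y
  gx : g * x * g⁻¹ = x ∨ g * x * g⁻¹ = x⁻¹
  cent : ∀ h ∈ S, Commute h x → Commute h y → Commute h w →
    h ∈ Subgroup.closure ({x, y, w} : Set Ω)
  norm : ∀ h ∈ S, h ∈ Subgroup.normalizer (Subgroup.closure ({x, y, w} : Set Ω) : Set Ω) →
    h ∈ Subgroup.closure ({x, y, w} : Set Ω) ∨ g⁻¹ * h ∈ Subgroup.closure ({x, y, w} : Set Ω)

/-- The group `E`. -/
def setE (x y w : Ω) : Subgroup Ω := Subgroup.closure ({x, y, w} : Set Ω)

/-- The group `Q`. -/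
def setQ (x y : Ω) : Subgroup Ω := Subgroup.closure ({x, y} : Set Ω)

namespace Setup

variable {S : Subgroup Ω} {x y w g : Ω} (D : Setup S x y w g)
include D

theorem E_le : setE x y w ≤ S := by
  rw [setE, Subgroup.closure_le]
  rintro t (rfl | rfl | rfl)
  exacts [D.xS, D.yS, D.wS]

omit D in
theorem x_mem : x ∈ setE x y w := Subgroup.subset_closure (by simp)

omit D in
theorem y_mem : y ∈ setE x y w := Subgroup.subset_closure (by simp)

omit D in
theorem w_mem : w ∈ setE x y w := Subgroup.subset_closure (by simp)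

omit D in
theorem Q_le : setQ x y ≤ setE x y w :=
  Subgroup.closure_mono (by intro t ht; rcases ht with rfl | rfl <;> simp)

theorem z_comm {h : Ω} (hh : h ∈ S) (m : ℤ) : Commute h ((x * x) ^ m) := (D.zc h hh).zpow_right m

theorem ne_one : x ≠ 1 ∧ y ≠ 1 ∧ x * y ≠ 1 ∧ y ≠ x ∧ y ≠ x * (x * x) := by
  refine ⟨fun e => ?_, fun e => ?_, fun e => ?_, fun e => ?_, fun e => ?_⟩
  · have := (D.indep 1 0 0 (by simpa using e)).1; omega
  · have := (D.indep 0 1 0 (by simpa using e)).2; omega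
  · have := (D.indep 1 1 0 (by simpa using e)).1; omega
  · have := (D.indep (-1) 1 0 (by rw [e]; simp)).1; omega
  · have := (D.indep (-3) 1 0 (by
      rw [e, zpow_one, zpow_zero, mul_one, zpow_neg, show (3 : ℤ) = ((3 : ℕ) : ℤ) from rfl,
        zpow_natCast]
      simp [pow_succ, mul_assoc])).1
    omega

/-- The eight elements of `Q`, with `{a, a x²}` grouped. -/
theorem Q_cases {q : Ω} (hq : q ∈ setQ x y) :
    ∃ r : Ω, (r = 1 ∨ r = x ∨ r = y ∨ r = x * y) ∧ (q = r ∨ q = r * (x * x)) := by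
  have hz2 : (x * x) * (x * x) = 1 := D.rel.x4
  have hq' : ∃ i j : ℤ, q = x ^ i * y ^ j := by
    induction hq using Subgroup.closure_induction with
    | mem t ht =>
      rcases ht with rfl | rfl
      exacts [⟨1, 0, by simp⟩, ⟨0, 1, by simp⟩]
    | one => exact ⟨0, 0, by simp⟩
    | mul p q _ _ hp hq =>
      obtain ⟨i, j, rfl⟩ := hp
      obtain ⟨a, b, rfl⟩ := hq
      refine ⟨i + (if 2 ∣ j then a else -a), j + b, ?_⟩
      simpa using D.rel.mul i j 0 a b 0
    | inv p _ hp =>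
      obtain ⟨i, j, rfl⟩ := hp
      refine ⟨if 2 ∣ j then -i else i, -j, ?_⟩
      simpa using D.rel.inv i j 0
  obtain ⟨i, j, rfl⟩ := hq'
  refine ⟨x ^ (i % 2) * y ^ (j % 2), ?_, ?_⟩
  · rcases Int.emod_two_eq_zero_or_one i with hi | hi <;>
      rcases Int.emod_two_eq_zero_or_one j with hj | hj <;> simp [hi, hj]
  · have e : x ^ i * y ^ j = x ^ (i % 2) * y ^ (j % 2) * (x * x) ^ (i / 2 + j / 2) := by
      have h1 : x ^ i = x ^ (i % 2) * (x * x) ^ (i / 2) := by
        rw [← zpow_two, ← zpow_mul, ← zpow_add]; congr 1; omega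
      have h2 : y ^ j = y ^ (j % 2) * (x * x) ^ (j / 2) := by
        rw [← D.rel.yy, ← zpow_two, ← zpow_mul, ← zpow_add]; congr 1; omega
      rw [h1, h2]
      have hc : Commute ((x * x) ^ (i / 2)) (y ^ (j % 2)) :=
        (D.z_comm (zpow_mem D.yS _) (i / 2)).symm
      calc x ^ (i % 2) * (x * x) ^ (i / 2) * (y ^ (j % 2) * (x * x) ^ (j / 2))
          = x ^ (i % 2) * ((x * x) ^ (i / 2) * y ^ (j % 2)) * (x * x) ^ (j / 2) := by group
        _ = x ^ (i % 2) * y ^ (j % 2) * ((x * x) ^ (i / 2) * (x * x) ^ (j / 2)) := by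
            rw [hc.eq]; group
        _ = _ := by rw [← zpow_add]
    rw [e]
    generalize i / 2 + j / 2 = m
    rcases Int.even_or_odd m with ⟨a, rfl⟩ | ⟨a, rfl⟩
    · left; rw [← two_mul, zpow_mul, zpow_two, hz2, one_zpow, mul_one]
    · right; rw [zpow_add, zpow_mul, zpow_two (x * x), hz2, one_zpow, one_mul, zpow_one]

theorem g_norm : g ∈ Subgroup.normalizer (setE x y w : Set Ω) := by
  have hmap : ∀ t ∈ setE x y w, g * t * g⁻¹ ∈ setE x y w := by
    intro t ht
    induction ht using Subgroup.closure_induction with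
    | mem t ht =>
      rcases ht with rfl | rfl | rfl
      · rcases D.gx with h | h <;> rw [h]
        exacts [x_mem, inv_mem x_mem]
      · rw [D.gy]; exact mul_mem x_mem y_mem
      · rw [D.gw]; exact w_mem
    | one => simp
    | mul p q _ _ hp hq =>
      rw [show g * (p * q) * g⁻¹ = (g * p * g⁻¹) * (g * q * g⁻¹) by group]; exact mul_mem hp hq
    | inv p _ hp => rw [← conj_inv]; exact inv_mem hp
  refine Subgroup.mem_normalizer_iff.2 fun t => ⟨hmap t, fun ht => ?_⟩
  -- `g⁻¹` also maps the generators into `E`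
  have hinv : ∀ t ∈ setE x y w, g⁻¹ * t * g ∈ setE x y w := by
    have hgx : g⁻¹ * x * g ∈ setE x y w := by
      rcases D.gx with h | h
      · have : g⁻¹ * x * g = x := by
          calc g⁻¹ * x * g = g⁻¹ * (g * x * g⁻¹) * g := by rw [h]
            _ = x := by group
        rw [this]; exact x_mem
      · have : g⁻¹ * x * g = x⁻¹ := by
          calc g⁻¹ * x * g = g⁻¹ * (g * x * g⁻¹)⁻¹ * g := by rw [h, inv_inv]
            _ = x⁻¹ := by group
        rw [this]; exact inv_mem x_mem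
    intro t ht
    induction ht using Subgroup.closure_induction with
    | mem t ht =>
      rcases ht with h | h | h <;> (replace h : t = _ := h; subst t)
      · exact hgx
      · have e : g⁻¹ * y * g = (g⁻¹ * x * g)⁻¹ * y := by
          calc g⁻¹ * y * g = (g⁻¹ * x * g)⁻¹ * (g⁻¹ * (x * y) * g) := by group
            _ = _ := by rw [← D.gy]; group
        rw [e]
        exact mul_mem (inv_mem hgx) y_mem
      · have e : g⁻¹ * w * g = w := by
          calc g⁻¹ * w * g = g⁻¹ * (g * w * g⁻¹) * g := by rw [D.gw]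
            _ = w := by group
        rw [e]; exact w_mem
    | one => simp
    | mul p q _ _ hp hq =>
      rw [show g⁻¹ * (p * q) * g = (g⁻¹ * p * g) * (g⁻¹ * q * g) by group]; exact mul_mem hp hq
    | inv p _ hp =>
      rw [show g⁻¹ * p⁻¹ * g = (g⁻¹ * p * g)⁻¹ by group]; exact inv_mem hp
  have h1 := hinv _ ht
  rwa [show g⁻¹ * (g * t * g⁻¹) * g = t by group] at h1

theorem comm_Q {e q : Ω} (he : e ∈ setE x y w) (hq : q ∈ setQ x y) : e * q * e⁻¹ ∈ setQ x y := by
  have hx : x ∈ setQ x y := Subgroup.subset_closure (by simp)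
  have hy : y ∈ setQ x y := Subgroup.subset_closure (by simp)
  obtain ⟨i, j, k, rfl⟩ := D.rel.mem_closure_iff.1 he
  have hwq : Commute (w ^ k) q := by
    induction hq using Subgroup.closure_induction with
    | mem t ht => rcases ht with rfl | rfl; exacts [D.rel.wx.zpow_left k, D.rel.wy.zpow_left k]
    | one => exact Commute.one_right _
    | mul p q _ _ hp hq => exact hp.mul_right hq
    | inv p _ hp => exact hp.inv_right
  have e1 : x ^ i * y ^ j * w ^ k * q * (x ^ i * y ^ j * w ^ k)⁻¹ =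
      x ^ i * y ^ j * q * (x ^ i * y ^ j)⁻¹ := by
    calc x ^ i * y ^ j * w ^ k * q * (x ^ i * y ^ j * w ^ k)⁻¹
        = x ^ i * y ^ j * (w ^ k * q) * (w ^ k)⁻¹ * (x ^ i * y ^ j)⁻¹ := by group
      _ = _ := by rw [hwq.eq]; group
  rw [e1]
  have h1 : x ^ i * y ^ j ∈ setQ x y := mul_mem (zpow_mem hx i) (zpow_mem hy j)
  exact mul_mem (mul_mem h1 hq) (inv_mem h1)

/-- Conjugation of `y` by elements of `E`. -/
theorem conj_y {e : Ω} (he : e ∈ setE x y w) : e * y * e⁻¹ = y ∨ e * y * e⁻¹ = y * (x * x) := by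
  obtain ⟨i, j, k, rfl⟩ := D.rel.mem_closure_iff.1 he
  have h1 : x ^ i * y ^ j * w ^ k * y * (x ^ i * y ^ j * w ^ k)⁻¹ = x ^ i * y * (x ^ i)⁻¹ := by
    have hc : Commute (y ^ j * w ^ k) y :=
      ((Commute.refl y).zpow_left j).mul_left (D.rel.wy.zpow_left k)
    calc x ^ i * y ^ j * w ^ k * y * (x ^ i * y ^ j * w ^ k)⁻¹
        = x ^ i * (y ^ j * w ^ k * y * (y ^ j * w ^ k)⁻¹) * (x ^ i)⁻¹ := by group
      _ = _ := by rw [hc.eq]; group
  rw [h1]
  have h2 : x ^ i * y * (x ^ i)⁻¹ = x ^ (2 * i) * y := by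
    have h3 := D.rel.swap 1 (-i)
    rw [if_neg (by norm_num), neg_neg, zpow_one, zpow_neg] at h3
    rw [mul_assoc, h3, ← mul_assoc, ← zpow_add, two_mul]
  rw [h2, zpow_mul, zpow_two]
  rcases Int.even_or_odd i with ⟨a, rfl⟩ | ⟨a, rfl⟩
  · left; rw [← two_mul, zpow_mul, zpow_two, D.rel.x4, one_zpow, one_mul]
  · right
    rw [zpow_add, zpow_mul, zpow_two (x * x), D.rel.x4, one_zpow, one_mul, zpow_one]
    exact ((D.zc y D.yS).eq).symm

theorem g_not_mem : g ∉ setE x y w := by
  intro h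
  obtain ⟨hx1, -, -, -, -⟩ := D.ne_one
  rcases D.conj_y h with e | e <;> rw [D.gy] at e
  · exact hx1 (mul_eq_right.1 e)
  · have e' : x * y = x * x * y := by rw [e]; exact (D.zc y D.yS).eq
    have e2 := mul_right_cancel e'
    exact hx1 (mul_eq_left.1 e2.symm)

theorem center_w {e : Ω} (he : e ∈ setE x y w) : Commute e w := by
  obtain ⟨i, j, k, rfl⟩ := D.rel.mem_closure_iff.1 he
  exact ((D.rel.wx.symm.zpow_left i).mul_left (D.rel.wy.symm.zpow_left j)).mul_left
    ((Commute.refl w).zpow_left k)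

end Setup

/-- The automiser `A`: fix `w` and stabilise `Q`. -/
def setA (x y w : Ω) : Subgroup (MulAut ↥(setE x y w)) where
  carrier := {β | (∀ e : ↥(setE x y w), (e : Ω) = w → β e = e) ∧
    ∀ e : ↥(setE x y w), (e : Ω) ∈ setQ x y ↔ ((β e : ↥(setE x y w)) : Ω) ∈ setQ x y}
  one_mem' := ⟨fun e _ => rfl, fun e => Iff.rfl⟩
  mul_mem' := by
    rintro β γ ⟨h1, h2⟩ ⟨h3, h4⟩
    refine ⟨fun e he => ?_, fun e => (h4 e).trans (h2 (γ e))⟩
    rw [MulAut.mul_apply, h3 e he, h1 e he]
  inv_mem' := by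
    rintro β ⟨h1, h2⟩
    refine ⟨fun e he => β.injective ?_, fun e => ?_⟩
    · rw [MulAut.apply_inv_self, h1 e he]
    · have h := h2 (β⁻¹ e)
      rw [MulAut.apply_inv_self] at h
      exact h.symm

namespace Setup

variable {S : Subgroup Ω} {x y w g : Ω} (D : Setup S x y w g)
include D

theorem exists_alpha : ∃ α ∈ setA x y w, α ^ 3 = 1 ∧ α ≠ 1 ∧
    ((α ⟨x, x_mem⟩ : ↥(setE x y w)) : Ω) = y := by
  have hR := D.rel
  have hyx1 : y * x = x⁻¹ * y := mul_inv_eq_iff_eq_mul.1 hR.yx
  have hxyx := hR.xyx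
  have hxy2 : (x * y) * (x * y) = y * y := by
    calc (x * y) * (x * y) = x * (y * x) * y := by group
      _ = _ := by rw [hyx1]; group
  have h' : QRel y (x * y) w :=
    { wx := hR.wy
      wy := hR.wx.mul_right hR.wy
      x4 := by rw [hR.yy]; exact hR.x4
      yy := hxy2
      yx := by
        calc x * y * y * (x * y)⁻¹ = x * y * x⁻¹ := by group
          _ = y⁻¹ := hxyx }
  obtain ⟨f, hf⟩ := hR.exists_hom D.indep h' hR.yy (E := setE x y w) rfl
  have hfE : ∀ e, f e ∈ setE x y w := fun e => by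
    obtain ⟨i, j, k, he⟩ := hR.mem_closure_iff.1 e.2
    rw [hf e i j k he]
    exact mul_mem (mul_mem (zpow_mem y_mem i) (zpow_mem (mul_mem x_mem y_mem) j))
      (zpow_mem w_mem k)
  let a : ↥(setE x y w) →* ↥(setE x y w) := f.codRestrict _ hfE
  set X : ↥(setE x y w) := ⟨x, x_mem⟩
  set Y : ↥(setE x y w) := ⟨y, y_mem⟩
  set W : ↥(setE x y w) := ⟨w, w_mem⟩
  have haX : a X = Y := Subtype.ext ((hf X 1 0 0 (by simp [X])).trans (by simp [Y]))
  have haY : a Y = X * Y := Subtype.ext ((hf Y 0 1 0 (by simp [Y])).trans (by simp [X, Y]))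
  have haW : a W = W := Subtype.ext ((hf W 0 0 1 (by simp [W])).trans (by simp [W]))
  have hform : ∀ e : ↥(setE x y w), ∃ i j k : ℤ, e = X ^ i * Y ^ j * W ^ k := fun e => by
    obtain ⟨i, j, k, he⟩ := hR.mem_closure_iff.1 e.2
    exact ⟨i, j, k, Subtype.ext (by simp [X, Y, W, he])⟩
  have haXY : a (X * Y) = X := by
    rw [map_mul, haX, haY]
    refine Subtype.ext ?_
    show y * (x * y) = x
    rw [← mul_assoc, hyx1, mul_assoc, hR.yy, inv_mul_cancel_left]
  have h3 : ∀ e, a (a (a e)) = e := fun e => by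
    obtain ⟨i, j, k, rfl⟩ := hform e
    show ((a.comp a).comp a) _ = _
    have e1 : ((a.comp a).comp a) X = X := by
      show a (a (a X)) = X
      rw [haX, haY, haXY]
    have e2 : ((a.comp a).comp a) Y = Y := by
      show a (a (a Y)) = Y
      rw [haY, haXY, haX]
    have e3 : ((a.comp a).comp a) W = W := by
      show a (a (a W)) = W
      rw [haW, haW, haW]
    rw [map_mul, map_mul, map_zpow, map_zpow, map_zpow, e1, e2, e3]
  let α : MulAut ↥(setE x y w) :=
    { toFun := a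
      invFun := fun e => a (a e)
      left_inv := fun e => h3 e
      right_inv := fun e => h3 e
      map_mul' := a.map_mul }
  refine ⟨α, ⟨?_, ?_⟩, MulEquiv.ext fun e => h3 e, fun e => ?_, congrArg Subtype.val haX⟩
  · intro e he
    obtain rfl : e = W := Subtype.ext he
    exact haW
  · have hcl : ∀ e : ↥(setE x y w), (e : Ω) ∈ setQ x y → ((a e : ↥(setE x y w)) : Ω) ∈ setQ x y := by
      intro e he
      have hx : x ∈ setQ x y := Subgroup.subset_closure (by simp)
      have hy : y ∈ setQ x y := Subgroup.subset_closure (by simp)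
      suffices H : ∀ t, t ∈ setQ x y → ∀ ht : t ∈ setE x y w,
          ((a ⟨t, ht⟩ : ↥(setE x y w)) : Ω) ∈ setQ x y from H e he e.2
      intro t ht
      induction ht using Subgroup.closure_induction with
      | mem t ht =>
        intro htE
        rcases ht with rfl | rfl
        · rw [show (⟨t, htE⟩ : ↥(setE t y w)) = X from rfl, haX]; exact hy
        · rw [show (⟨t, htE⟩ : ↥(setE x t w)) = Y from rfl, haY]; exact mul_mem hx hy
      | one => intro htE; rw [show (⟨1, htE⟩ : ↥(setE x y w)) = 1 from rfl, map_one]; exact one_mem _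
      | mul p q hp hq ihp ihq =>
        intro htE
        rw [show (⟨p * q, htE⟩ : ↥(setE x y w)) = ⟨p, Q_le hp⟩ * ⟨q, Q_le hq⟩ from rfl, map_mul,
          Subgroup.coe_mul]
        exact mul_mem (ihp _) (ihq _)
      | inv p hp ih =>
        intro htE
        rw [show (⟨p⁻¹, htE⟩ : ↥(setE x y w)) = (⟨p, Q_le hp⟩ : ↥(setE x y w))⁻¹ from rfl, map_inv,
          Subgroup.coe_inv]
        exact inv_mem (ih _)
    refine fun e => ⟨hcl e, fun h => ?_⟩
    have h' := hcl _ (hcl _ h)
    rwa [show a (a (α e)) = e from h3 e] at h'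
  · have h1 : a X = X := DFunLike.congr_fun e X
    rw [haX] at h1
    exact D.ne_one.2.2.2.1 (congrArg Subtype.val h1)

theorem aut_mem_setA {h : Ω} (hh : h ∈ S) {β : MulAut ↥(setE x y w)}
    (hβ : ∀ e : ↥(setE x y w), ((β e : ↥(setE x y w)) : Ω) = h * (e : Ω) * h⁻¹) :
    β ∈ setA x y w := by
  have hE : ∀ e ∈ setE x y w, e * w * e⁻¹ = w := fun e he => by
    rw [(D.center_w he).eq, mul_inv_cancel_right]
  have hcQ : ∀ q ∈ setQ x y, g * q * g⁻¹ ∈ setQ x y := by
    intro q hq
    induction hq using Subgroup.closure_induction with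
    | mem t ht =>
      rcases ht with rfl | rfl
      · rcases D.gx with e | e <;> rw [e]
        exacts [Subgroup.subset_closure (by simp), inv_mem (Subgroup.subset_closure (by simp))]
      · rw [D.gy]
        exact mul_mem (Subgroup.subset_closure (by simp)) (Subgroup.subset_closure (by simp))
    | one => simp
    | mul p q _ _ hp hq =>
      rw [show g * (p * q) * g⁻¹ = (g * p * g⁻¹) * (g * q * g⁻¹) by group]; exact mul_mem hp hq
    | inv p _ hp => rw [← conj_inv]; exact inv_mem hp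
  have hgQ : ∀ q, q ∈ setE x y w → (q ∈ setQ x y ↔ g * q * g⁻¹ ∈ setQ x y) := by
    haveI : Finite ↥(setQ x y) := by
      classical
      refine (Set.Finite.subset (s := ((({1, x, y, x * y} : Finset Ω) ∪
        ({1, x, y, x * y} : Finset Ω).image (· * (x * x)) : Finset Ω) : Set Ω))
        (Finset.finite_toSet _) fun q hq => ?_).to_subtype
      obtain ⟨r, hr, hqr⟩ := D.Q_cases hq
      simp only [Finset.coe_union, Finset.coe_image, Set.mem_union, Set.mem_image, Finset.coe_insert,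
        Finset.coe_singleton, Set.mem_insert_iff, Set.mem_singleton_iff]
      rcases hqr with e | e
      · exact Or.inl (e ▸ hr)
      · exact Or.inr ⟨r, hr, e.symm⟩
    intro q _
    refine ⟨hcQ q, fun hq => ?_⟩
    let c : ↥(setQ x y) → ↥(setQ x y) := fun t => ⟨g * t * g⁻¹, hcQ t t.2⟩
    have hci : Function.Injective c := fun s t e => by
      have e' : g * (s : Ω) * g⁻¹ = g * (t : Ω) * g⁻¹ := congrArg Subtype.val e
      exact Subtype.ext (mul_left_cancel (mul_right_cancel e'))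
    obtain ⟨t, ht⟩ := Finite.surjective_of_injective hci ⟨_, hq⟩
    have e' : g * (t : Ω) * g⁻¹ = g * q * g⁻¹ := congrArg Subtype.val ht
    rw [← mul_left_cancel (mul_right_cancel e')]
    exact t.2
  have hn : h ∈ Subgroup.normalizer (setE x y w : Set Ω) := mem_normalizer_of_aut hβ
  have key : ∀ e ∈ setE x y w, (e * w * e⁻¹ = w) ∧ ∀ q, q ∈ setQ x y ↔ e * q * e⁻¹ ∈ setQ x y :=
    fun e he => ⟨hE e he, fun q => ⟨D.comm_Q he, fun hq => by
      have h1 := D.comm_Q (inv_mem he) hq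
      rwa [show e⁻¹ * (e * q * e⁻¹) * e⁻¹⁻¹ = q by group] at h1⟩⟩
  rcases D.norm h hh hn with hE' | hE'
  · refine ⟨fun e he => Subtype.ext ?_, fun e => ?_⟩
    · rw [hβ, he]; exact (key h hE').1
    · rw [hβ]; exact (key h hE').2 _
  · set k := g⁻¹ * h
    have e1 : ∀ t : Ω, h * t * h⁻¹ = g * (k * t * k⁻¹) * g⁻¹ := fun t => by
      simp only [k]; group
    refine ⟨fun e he => Subtype.ext ?_, fun e => ?_⟩
    · rw [hβ, he, e1, (key k hE').1, D.gw]
    · rw [hβ, e1]
      exact ((key k hE').2 _).trans (hgQ _ (mul_mem (mul_mem hE' e.2) (inv_mem hE')))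

theorem setA_ext {β γ : MulAut ↥(setE x y w)} (hβ : β ∈ setA x y w) (hγ : γ ∈ setA x y w)
    (h1 : β ⟨x, x_mem⟩ = γ ⟨x, x_mem⟩) (h2 : β ⟨y, y_mem⟩ = γ ⟨y, y_mem⟩) : β = γ := by
  refine MulEquiv.ext fun e => ?_
  obtain ⟨i, j, k, he⟩ := D.rel.mem_closure_iff.1 e.2
  have : e = (⟨x, x_mem⟩ : ↥(setE x y w)) ^ i * ⟨y, y_mem⟩ ^ j * ⟨w, w_mem⟩ ^ k :=
    Subtype.ext (by simp [he])
  rw [this]
  simp only [map_mul, map_zpow, h1, h2, hβ.1 ⟨w, w_mem⟩ rfl, hγ.1 ⟨w, w_mem⟩ rfl]

/-- The eight elements of `Q` other than the central ones. -/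
theorem image_cases {β : MulAut ↥(setE x y w)} (hβ : β ∈ setA x y w)
    {e : ↥(setE x y w)} (he : (e : Ω) ∈ setQ x y) (h1 : (e : Ω) ≠ 1) (h2 : (e : Ω) ≠ x * x) :
    ∃ r : Ω, (r = x ∨ r = y ∨ r = x * y) ∧
      (((β e : ↥(setE x y w)) : Ω) = r ∨ ((β e : ↥(setE x y w)) : Ω) = r * (x * x)) := by
  have hzfix : ∀ γ ∈ setA x y w, ∀ t : ↥(setE x y w), (t : Ω) = x * x → ∀ hne : x * x ≠ 1,
      ((γ t : ↥(setE x y w)) : Ω) = x * x := by
    intro γ hγ t ht hne
    -- `x * x` is the only involution of `Q`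
    have hm : ((γ t : ↥(setE x y w)) : Ω) ∈ setQ x y := (hγ.2 t).1 (by
      rw [ht]; exact mul_mem (Subgroup.subset_closure (by simp)) (Subgroup.subset_closure (by simp)))
    have hsq : ((γ t : ↥(setE x y w)) : Ω) * ((γ t : ↥(setE x y w)) : Ω) = 1 := by
      have h0 : t * t = 1 := Subtype.ext (by rw [Subgroup.coe_mul, ht]; exact D.rel.x4)
      rw [← Subgroup.coe_mul, ← map_mul, h0, map_one]; rfl
    have hz : ∀ r : Ω, r * r = x * x → ((γ t : ↥(setE x y w)) : Ω) ≠ r ∧
        (Commute r (x * x) → ((γ t : ↥(setE x y w)) : Ω) ≠ r * (x * x)) := fun r hr =>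
      ⟨fun e' => hne (by rw [← hr, ← e', hsq]), fun hc e' => hne (by
        rw [← hr]
        have h5 : r * r * ((x * x) * (x * x)) = 1 := by
          rw [← hsq, e']
          calc r * r * ((x * x) * (x * x)) = r * (r * (x * x)) * (x * x) := by group
            _ = r * ((x * x) * r) * (x * x) := by rw [hc.eq]
            _ = _ := by group
        rwa [D.rel.x4, mul_one] at h5)⟩
    have hxy : (x * y) * (x * y) = x * x := by
      calc (x * y) * (x * y) = x * (y * x * y⁻¹) * (y * y) := by group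
        _ = _ := by rw [D.rel.yx, D.rel.yy]; group
    obtain ⟨r, hr, hqr⟩ := D.Q_cases hm
    rcases hr with h0 | h0 | h0 | h0 <;> rw [h0] at hqr
    · rcases hqr with e' | e'
      · exfalso
        apply hne
        rw [← ht]
        have : t = 1 := γ.injective (by rw [map_one]; exact Subtype.ext e')
        rw [this]; rfl
      · rw [e', one_mul]
    · exfalso
      rcases hqr with e' | e'
      exacts [(hz x rfl).1 e', (hz x rfl).2 (D.zc x D.xS) e']
    · exfalso
      rcases hqr with e' | e'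
      exacts [(hz y D.rel.yy).1 e', (hz y D.rel.yy).2 (D.zc y D.yS) e']
    · exfalso
      rcases hqr with e' | e'
      exacts [(hz _ hxy).1 e', (hz _ hxy).2 (D.zc _ (mul_mem D.xS D.yS)) e']
  obtain ⟨r, hr, hqr⟩ := D.Q_cases ((hβ.2 e).1 he)
  rcases hr with rfl | hr
  · exfalso
    rcases hqr with e' | e'
    · exact h1 (congrArg Subtype.val (β.map_eq_one_iff.1 (Subtype.ext e')))
    · rw [one_mul] at e'
      by_cases hne : x * x = 1
      · exact h1 (congrArg Subtype.val (β.map_eq_one_iff.1 (Subtype.ext (e'.trans hne))))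
      · set Z : ↥(setE x y w) := ⟨x * x, mul_mem x_mem x_mem⟩
        have hZ := hzfix β hβ Z rfl hne
        exact h2 (congrArg Subtype.val (β.injective (Subtype.ext (e'.trans hZ.symm) : β e = β Z)))
  · exact ⟨r, hr, hqr⟩

/-- The bound on the automiser. -/
theorem card_setA_le [Finite S] :
    (x * x = 1 → Nat.card (setA x y w) ≤ 6) ∧ (x * x ≠ 1 → Nat.card (setA x y w) ≤ 24) := by
  classical
  haveI : Finite ↥(setE x y w) := finite_of_le (Ω := Ω) D.E_le
  haveI : Finite (MulAut ↥(setE x y w)) := finite_mulAut (Ω := Ω) D.E_le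
  haveI := Fintype.ofFinite ↥(setA x y w)
  set z := x * x with hz
  let T : Finset Ω := {x, y, x * y} ∪ ({x, y, x * y} : Finset Ω).image (· * z)
  let U : Finset (Ω × Ω) := (T ×ˢ T).filter fun p => p.2 ≠ p.1 ∧ p.2 ≠ p.1 * z
  have hzz : z * z = 1 := D.rel.x4
  obtain ⟨hx1, hy1, -, hyx, hyxz⟩ := D.ne_one
  have hxz : x ≠ z := fun e => hx1 (mul_eq_left.1 e.symm)
  have hyz : y ≠ z := fun e => hyxz (by
    have h1 : y * y = 1 := by rw [e, hzz]
    have h2 : z = 1 := D.rel.yy.symm.trans h1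
    exact absurd (e.trans h2) hy1)
  have hF : ∀ β : ↥(setA x y w), ((((β : MulAut _) ⟨x, x_mem⟩ : ↥(setE x y w)) : Ω),
      (((β : MulAut _) ⟨y, y_mem⟩ : ↥(setE x y w)) : Ω)) ∈ U := by
    intro β
    have hin : ∀ e : ↥(setE x y w), (e : Ω) ∈ setQ x y → (e : Ω) ≠ 1 → (e : Ω) ≠ z →
        (((β : MulAut _) e : ↥(setE x y w)) : Ω) ∈ T := by
      intro e he h1 h2
      obtain ⟨r, hr, h⟩ := D.image_cases β.2 he h1 h2
      have hrT : r ∈ ({x, y, x * y} : Finset Ω) := by simpa using hr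
      rcases h with h | h
      · exact Finset.mem_union_left _ (h ▸ hrT)
      · exact Finset.mem_union_right _ (Finset.mem_image.2 ⟨r, hrT, h.symm⟩)
    refine Finset.mem_filter.2 ⟨Finset.mem_product.2
      ⟨hin _ (Subgroup.subset_closure (by simp)) hx1 hxz,
        hin _ (Subgroup.subset_closure (by simp)) hy1 hyz⟩, fun e => hyx ?_, fun e => hyxz ?_⟩
    · exact congrArg Subtype.val ((β : MulAut _).injective (Subtype.ext e) :
        (⟨y, y_mem⟩ : ↥(setE x y w)) = ⟨x, x_mem⟩)
    · have hZx : ((β : MulAut _) ⟨x * z, mul_mem x_mem (mul_mem x_mem x_mem)⟩ :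
          ↥(setE x y w)) = (β : MulAut _) ⟨x, x_mem⟩ * ((β : MulAut _) ⟨x, x_mem⟩ *
            (β : MulAut _) ⟨x, x_mem⟩) := by
        rw [← map_mul, ← map_mul]; rfl
      refine congrArg Subtype.val ((β : MulAut _).injective (Subtype.ext (e.trans ?_)) :
        (⟨y, y_mem⟩ : ↥(setE x y w)) = ⟨x * z, mul_mem x_mem (mul_mem x_mem x_mem)⟩)
      rw [hZx, Subgroup.coe_mul, Subgroup.coe_mul]
      dsimp only
      -- the square of the image of `x` is `z`
      obtain ⟨r, hr, h⟩ := D.image_cases β.2 (e := ⟨x, x_mem⟩) (Subgroup.subset_closure (by simp))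
        hx1 hxz
      have hr2 : r * r = z := by
        rcases hr with rfl | rfl | rfl
        · rfl
        · exact D.rel.yy
        · calc (x * y) * (x * y) = x * (y * x * y⁻¹) * (y * y) := by group
            _ = _ := by rw [D.rel.yx, D.rel.yy, hz]; group
      congr 1
      rcases h with h | h <;> rw [h]
      · exact hr2.symm
      · have hrS : r ∈ S := by
          rcases hr with rfl | rfl | rfl
          exacts [D.xS, D.yS, mul_mem D.xS D.yS]
        calc z = r * r * (z * z) := by rw [hzz, mul_one, hr2]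
          _ = r * (r * z) * z := by group
          _ = r * (z * r) * z := by rw [(D.zc r hrS).eq]
          _ = r * z * (r * z) := by group
  have hinj : Function.Injective fun β : ↥(setA x y w) =>
      (⟨_, hF β⟩ : ↥U) := fun β γ e => by
    have e' := congrArg Subtype.val e
    exact Subtype.ext (D.setA_ext β.2 γ.2 (Subtype.ext (congrArg Prod.fst e'))
      (Subtype.ext (congrArg Prod.snd e')))
  have hle := Fintype.card_le_of_injective _ hinj
  rw [Fintype.card_coe, ← Nat.card_eq_fintype_card] at hle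
  suffices hU : (z = 1 → U.card ≤ 6) ∧ (z ≠ 1 → U.card ≤ 24) from
    ⟨fun e => hle.trans (hU.1 e), fun e => hle.trans (hU.2 e)⟩
  have hmaps : ∀ p ∈ U, p.1 ∈ T := fun p hp =>
    (Finset.mem_product.1 (Finset.mem_filter.1 hp).1).1
  refine ⟨fun h => ?_, fun h => ?_⟩
  · have hT3 : T.card ≤ 3 := by
      have : T = {x, y, x * y} := by simp [T, h]
      rw [this]; exact Finset.card_le_three
    have hfib : ∀ a ∈ T, (U.filter fun p => p.1 = a).card ≤ 2 := by
      intro a ha
      have hsub : (U.filter fun p => p.1 = a) ⊆ (T.erase a).map ⟨fun b => (a, b), fun b c e => (Prod.ext_iff.1 e).2⟩ := by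
        intro p hp
        have hpU : p ∈ U := (Finset.mem_filter.1 hp).1
        obtain rfl : p.1 = a := (Finset.mem_filter.1 hp).2
        obtain ⟨hp1, hp2, -⟩ := Finset.mem_filter.1
          (show p ∈ (T ×ˢ T).filter (fun p => p.2 ≠ p.1 ∧ p.2 ≠ p.1 * z) from hpU)
        exact Finset.mem_map.2 ⟨p.2, Finset.mem_erase.2 ⟨hp2, (Finset.mem_product.1 hp1).2⟩, rfl⟩
      refine (Finset.card_le_card hsub).trans ?_
      rw [Finset.card_map, Finset.card_erase_of_mem ha]
      omega
    have := Finset.card_le_mul_card_image_of_maps_to hmaps 2 hfib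
    omega
  · have hT6 : T.card ≤ 6 := by
      refine (Finset.card_union_le _ _).trans ?_
      have := Finset.card_le_three (a := x) (b := y) (c := x * y)
      have h1 := (Finset.card_image_le (f := (· * z)) (s := ({x, y, x * y} : Finset Ω)))
      omega
    have hfib : ∀ a ∈ T, (U.filter fun p => p.1 = a).card ≤ 4 := by
      intro a ha
      have haz : a * z ∈ T := by
        rcases Finset.mem_union.1 ha with h' | h'
        · exact Finset.mem_union_right _ (Finset.mem_image.2 ⟨a, h', rfl⟩)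
        · obtain ⟨r, hr, rfl⟩ := Finset.mem_image.1 h'
          refine Finset.mem_union_left _ ?_
          rwa [mul_assoc, hzz, mul_one]
      have hsub : (U.filter fun p => p.1 = a) ⊆
          ((T.erase a).erase (a * z)).map ⟨fun b => (a, b), fun b c e => (Prod.ext_iff.1 e).2⟩ := by
        intro p hp
        have hpU : p ∈ U := (Finset.mem_filter.1 hp).1
        obtain rfl : p.1 = a := (Finset.mem_filter.1 hp).2
        obtain ⟨hp1, hp2, hp3⟩ := Finset.mem_filter.1
          (show p ∈ (T ×ˢ T).filter (fun p => p.2 ≠ p.1 ∧ p.2 ≠ p.1 * z) from hpU)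
        exact Finset.mem_map.2 ⟨p.2, Finset.mem_erase.2 ⟨hp3,
          Finset.mem_erase.2 ⟨hp2, (Finset.mem_product.1 hp1).2⟩⟩, rfl⟩
      refine (Finset.card_le_card hsub).trans ?_
      rw [Finset.card_map, Finset.card_erase_of_mem (Finset.mem_erase.2 ⟨fun e => h (mul_eq_left.1 e), haz⟩),
        Finset.card_erase_of_mem ha]
      omega
    have := Finset.card_le_mul_card_image_of_maps_to hmaps 4 hfib
    omega

theorem induced_le : autInducedBy S (setE x y w) ≤ setA x y w := fun β hβ => by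
  obtain ⟨h, hh, hx⟩ := mem_autInducedBy_iff.1 hβ
  exact D.aut_mem_setA hh hx

/-- Facts about the automiser: the induced part has index three and is not normal. -/
theorem automiser [Finite S] (hS : IsPGroup 2 S) :
    Nat.card (setA x y w) = 3 * Nat.card (autInducedBy S (setE x y w)) ∧
      IsPGroup 2 (autInducedBy S (setE x y w)) ∧
      ∃ α ∈ setA x y w, α ∉ autInducedBy S (setE x y w) ∧
        ¬ (∀ β ∈ autInducedBy S (setE x y w), α * β * α⁻¹ ∈ autInducedBy S (setE x y w)) := by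
  classical
  haveI : Fact (Nat.Prime 2) := ⟨Nat.prime_two⟩
  haveI : Finite ↥(setE x y w) := finite_of_le (Ω := Ω) D.E_le
  haveI : Finite (MulAut ↥(setE x y w)) := finite_mulAut (Ω := Ω) D.E_le
  set E := setE x y w
  set P := autInducedBy S E with hP
  have hPp : IsPGroup 2 P := by
    rw [hP, ← range_normalizerAut S E]
    exact (hS.to_le (normalizerIn_le S E)).of_surjective (normalizerAut S E).rangeRestrict
      (normalizerAut S E).rangeRestrict_surjective
  obtain ⟨α, hα, hα3, hα1, hαx⟩ := D.exists_alpha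
  have hαP : α ∉ P := by
    intro h
    obtain ⟨n, hn⟩ := hPp ⟨α, h⟩
    have h1 : orderOf α ∣ 2 ^ n := orderOf_dvd_of_pow_eq_one (congrArg Subtype.val hn)
    haveI : Fact (Nat.Prime 3) := ⟨Nat.prime_three⟩
    rw [orderOf_eq_prime hα3 hα1] at h1
    have := Nat.prime_three.dvd_of_dvd_pow h1
    norm_num at this
  have hdvd : 3 * Nat.card P ∣ Nat.card (setA x y w) := by
    obtain ⟨n, hn⟩ := IsPGroup.iff_card.1 hPp
    have h3 : 3 ∣ Nat.card (setA x y w) := by
      haveI : Fact (Nat.Prime 3) := ⟨Nat.prime_three⟩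
      have h := Subgroup.orderOf_dvd_natCard (setA x y w) hα
      rwa [orderOf_eq_prime hα3 hα1] at h
    refine Nat.Coprime.mul_dvd_of_dvd_of_dvd ?_ h3 (Subgroup.card_dvd_of_le D.induced_le)
    rw [hn]
    exact Nat.Coprime.pow_right n (by norm_num)
  have hlow : (x * x = 1 → 2 ≤ Nat.card P) ∧ (x * x ≠ 1 → 8 ≤ Nat.card P) := by
    set cg : MulAut E := conjAut D.g_norm
    have hcg : cg ∈ P := conjAut_mem_autInducedBy D.gS D.g_norm
    have hcgy : ((cg ⟨y, y_mem⟩ : E) : Ω) = x * y := D.gy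
    obtain ⟨hx1, hy1, hxy1, hyx, hyxz⟩ := D.ne_one
    refine ⟨fun h => ?_, fun h => ?_⟩
    · by_contra hc
      have h1 : Nat.card P = 1 := by have : 0 < Nat.card P := Nat.card_pos; omega
      rw [Subgroup.card_eq_one] at h1
      rw [h1, Subgroup.mem_bot] at hcg
      rw [hcg] at hcgy
      exact hx1 (mul_eq_right.1 hcgy.symm)
    · have hxn : x ∈ Subgroup.normalizer (E : Set Ω) := Subgroup.le_normalizer x_mem
      have hyn : y ∈ Subgroup.normalizer (E : Set Ω) := Subgroup.le_normalizer y_mem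
      set cx : MulAut E := conjAut hxn
      set cy : MulAut E := conjAut hyn
      have hval : ∀ (β : MulAut E), ((β ⟨x, x_mem⟩ : E) : Ω) = ((β ⟨x, x_mem⟩ : E) : Ω) := fun _ => rfl
      have hI : Inn E ≤ P := inn_le_autInducedBy D.E_le
      have hinnY : ∀ β ∈ Inn E, ((β ⟨y, y_mem⟩ : E) : Ω) = y ∨
          ((β ⟨y, y_mem⟩ : E) : Ω) = y * (x * x) := by
        rintro _ ⟨e, rfl⟩
        exact D.conj_y e.2
      have hnI : cg ∉ Inn E := fun hmem => by
        rcases hinnY cg hmem with e | e <;> rw [hcgy] at e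
        · exact hx1 (mul_eq_right.1 e)
        · rw [(D.zc y D.yS).eq] at e
          exact hx1 (mul_eq_left.1 (mul_right_cancel e).symm)
      have h4 : 4 ≤ Nat.card (Inn E) := by
        have hmem : ∀ e : E, MulAut.conj e ∈ Inn E := fun e => ⟨e, rfl⟩
        let F4 : Fin 2 × Fin 2 → Inn E := fun p =>
          ⟨MulAut.conj ((⟨x, x_mem⟩ : E) ^ (p.1 : ℕ) * (⟨y, y_mem⟩ : E) ^ (p.2 : ℕ)), hmem _⟩
        have hxy : x * y * x⁻¹ = y * (x * x) := by
          rw [D.rel.xyx]
          refine inv_eq_of_mul_eq_one_right ?_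
          rw [← mul_assoc, D.rel.yy, D.rel.x4]
        have hval : ∀ p : Fin 2 × Fin 2,
            ((((F4 p : Inn E) : MulAut E) ⟨x, x_mem⟩ : E) : Ω) = (if p.2 = 0 then x else x⁻¹) ∧
            ((((F4 p : Inn E) : MulAut E) ⟨y, y_mem⟩ : E) : Ω) = (if p.1 = 0 then y else y * (x * x)) := by
          rintro ⟨p1, p2⟩
          have hyx' : ∀ m : ℤ, y * x ^ m * y⁻¹ = x ^ (-m) := fun m => by
            rw [← conj_zpow, D.rel.yx, inv_zpow, zpow_neg]
          fin_cases p1 <;> fin_cases p2 <;> simp [F4, MulAut.conj_apply]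
          · exact D.rel.yx
          · exact hxy
          · refine ⟨?_, hxy⟩
            calc x * y * x * (y⁻¹ * x⁻¹) = x * (y * x * y⁻¹) * x⁻¹ := by group
              _ = x⁻¹ := by rw [D.rel.yx]; group
        have hFi : Function.Injective F4 := by
          intro p q e
          have hxne : x⁻¹ ≠ x := fun e' => h (by
            calc x * x = x * x⁻¹ := by rw [e']
              _ = 1 := mul_inv_cancel x)
          have hyne : y * (x * x) ≠ y := fun e' => h (mul_eq_left.1 e')
          obtain ⟨hp1, hp2⟩ := hval p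
          obtain ⟨hq1, hq2⟩ := hval q
          rw [e, hq1] at hp1
          rw [e, hq2] at hp2
          have hsel : ∀ (A B : Ω) (a b : Fin 2), A ≠ B →
              (if b = 0 then A else B) = (if a = 0 then A else B) → a = b := by
            intro A B a b hAB hab
            fin_cases a <;> fin_cases b <;> simp at hab ⊢
            exacts [hAB hab.symm, hAB hab]
          exact Prod.ext (hsel _ _ _ _ hyne.symm hp2) (hsel _ _ _ _ hxne.symm hp1)
        have hc4 := Nat.card_le_card_of_injective F4 hFi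
        rwa [Nat.card_prod, Nat.card_fin] at hc4
      obtain ⟨n, hn⟩ := IsPGroup.iff_card.1 hPp
      have hlt : Nat.card (Inn E) < Nat.card P :=
        Set.Finite.card_lt_card (Set.toFinite _) (SetLike.coe_ssubset_coe.2
          (lt_of_le_of_ne hI fun e => hnI (e ▸ hcg)))
      rw [hn] at hlt ⊢
      rcases n with _ | _ | _ | n
      · simp only [zero_add, pow_zero, pow_succ, one_mul] at hlt; omega
      · simp only [zero_add, pow_zero, pow_succ, one_mul] at hlt; omega
      · simp only [zero_add, pow_zero, pow_succ, one_mul] at hlt; omega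
      · calc (8 : ℕ) = 2 ^ 3 := by norm_num
          _ ≤ _ := Nat.pow_le_pow_right (by norm_num) (by omega)
  have hup := D.card_setA_le
  have heq : Nat.card (setA x y w) = 3 * Nat.card P := by
    obtain ⟨k, hk⟩ := hdvd
    have hpos : 0 < Nat.card (setA x y w) := Nat.card_pos
    have : k = 1 := by
      by_contra hk1
      have hk0 : k ≠ 0 := fun e => by subst e; omega
      have hk2 : 2 ≤ k := by omega
      have h6 : 3 * Nat.card P * 2 ≤ Nat.card (setA x y w) := hk ▸ Nat.mul_le_mul_left _ hk2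
      by_cases hc : x * x = 1
      · have := hup.1 hc; have := hlow.1 hc; omega
      · have := hup.2 hc; have := hlow.2 hc; omega
    rw [hk, this, mul_one]
  refine ⟨heq, hPp, α, hα, hαP, fun hconj => ?_⟩
  -- `α` would stabilise `{x, x⁻¹}`
  have hset : ∀ β ∈ P, ((β ⟨x, x_mem⟩ : E) : Ω) = x ∨ ((β ⟨x, x_mem⟩ : E) : Ω) = x⁻¹ := by
    intro β hβ
    obtain ⟨h, hh, hhx⟩ := mem_autInducedBy_iff.1 hβ
    rw [hhx]
    have hinner : ∀ e ∈ E, e * x * e⁻¹ = x ∨ e * x * e⁻¹ = x⁻¹ := by
      intro e he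
      obtain ⟨i, j, k, rfl⟩ := D.rel.mem_closure_iff.1 he
      have e1 : x ^ i * y ^ j * w ^ k * x * (x ^ i * y ^ j * w ^ k)⁻¹ =
          x ^ i * (y ^ j * x ^ (1 : ℤ) * (y ^ j)⁻¹) * (x ^ i)⁻¹ := by
        calc x ^ i * y ^ j * w ^ k * x * (x ^ i * y ^ j * w ^ k)⁻¹
            = x ^ i * y ^ j * (w ^ k * x) * (w ^ k)⁻¹ * (y ^ j)⁻¹ * (x ^ i)⁻¹ := by group
          _ = _ := by rw [(D.rel.wx.zpow_left k).eq]; group
      rw [e1, D.rel.swap, mul_inv_cancel_right]
      split_ifs
      · left; group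
      · right; group
    rcases D.norm h hh (mem_normalizer_of_aut hhx) with hE | hE
    · exact hinner h hE
    · have e2 : h * x * h⁻¹ = g * (g⁻¹ * h * x * (g⁻¹ * h)⁻¹) * g⁻¹ := by group
      rw [show ((⟨x, x_mem⟩ : E) : Ω) = x from rfl, e2]
      rcases hinner _ hE with e | e <;> rw [e]
      · exact D.gx
      · rw [← conj_inv]
        rcases D.gx with e' | e' <;> rw [e']
        · exact Or.inr rfl
        · exact Or.inl (inv_inv x)
  -- but `P` moves `α x`
  obtain ⟨hx1, -, -, -, -⟩ := D.ne_one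
  have hcgP : conjAut D.g_norm ∈ P := conjAut_mem_autInducedBy D.gS D.g_norm
  have hαinv : α⁻¹ * conjAut D.g_norm * α ∈ P := by
    have h1 := hconj _ hcgP
    have h2 := hconj _ h1
    have e : α * (α * conjAut D.g_norm * α⁻¹) * α⁻¹ = α⁻¹ * conjAut D.g_norm * α := by
      have e3 : α * α = α⁻¹ :=
        eq_inv_of_mul_eq_one_left (by rw [← hα3]; simp [pow_succ])
      calc α * (α * conjAut D.g_norm * α⁻¹) * α⁻¹ = (α * α) * conjAut D.g_norm * (α * α)⁻¹ := by group
        _ = _ := by rw [e3, inv_inv]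
    rwa [e] at h2
  have h5 := hset _ hαinv
  rw [MulAut.mul_apply, MulAut.mul_apply] at h5
  set a := α ⟨x, x_mem⟩ with ha
  have hbad : conjAut D.g_norm a = a ∨ conjAut D.g_norm a = a⁻¹ := by
    rcases h5 with e | e
    · left
      have e' : α⁻¹ (conjAut D.g_norm a) = ⟨x, x_mem⟩ := Subtype.ext e
      have := congrArg α e'
      rwa [MulAut.apply_inv_self] at this
    · right
      have e' : α⁻¹ (conjAut D.g_norm a) = (⟨x, x_mem⟩ : E)⁻¹ := Subtype.ext e
      have := congrArg α e'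
      rwa [MulAut.apply_inv_self, map_inv] at this
  rcases hbad with e | e
  · have e' := congrArg Subtype.val e
    rw [coe_conjAut, hαx, D.gy] at e'
    exact hx1 (mul_eq_right.1 e')
  · have e' := congrArg Subtype.val e
    rw [coe_conjAut, Subgroup.coe_inv, hαx, D.gy] at e'
    have hyinv : y⁻¹ = x * x * y := by
      refine inv_eq_of_mul_eq_one_left ?_
      rw [mul_assoc, D.rel.yy, D.rel.x4]
    rw [hyinv] at e'
    exact hx1 (mul_eq_left.1 (mul_right_cancel e').symm)

end Setup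

end Cfsg.Agent.Bicyclic2
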