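import Cfsg.Agent.Lib.Bicyclic2.Structure

/-!
A metacyclic Frattini subgroup of a 2-group has commuting involutions and contains no quaternion
group of order eight; an involution four-group inside it that is moved by an element normalizing a
self centralizing subgroup forces that subgroup to be normal of index two.
-/

set_option autoImplicit false

namespace Cfsg.Agent.Bicyclic2

open scoped commutatorElement
open Cfsg.Agent

/-- An abelian 2-group with at most one involution is cyclic. -/
theorem isCyclic_of_involution {A : Type*} [Group A] [Finite A] (hA : IsPGroup 2 A)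
    (hab : ∀ x y : A, x * y = y * x) {z : A} (h : ∀ x : A, x * x = 1 → x = 1 ∨ x = z) :
    IsCyclic A := by
  haveI : Nonempty A := ⟨1⟩
  obtain ⟨x, hx⟩ := Finite.exists_max (fun a : A => orderOf a)
  refine ⟨x, fun y => ?_⟩
  suffices H : ∀ n : ℕ, ∀ y : A, y ^ 2 ^ n = 1 → y ∈ Subgroup.zpowers x by
    obtain ⟨n, hn⟩ := hA y
    exact H n y hn
  intro n
  induction n with
  | zero => intro y hy; rw [pow_zero, pow_one] at hy; rw [hy]; exact one_mem _
  | succ n ih =>
    intro y hy
    have h1 : y * y ∈ Subgroup.zpowers x := ih _ (by rw [← pow_two, ← pow_mul, ← pow_succ']; exact hy)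
    obtain ⟨i, hi⟩ := Subgroup.mem_zpowers_iff.1 h1
    obtain ⟨c, hc⟩ := IsPGroup.iff_orderOf.1 hA x
    obtain ⟨d, hd⟩ := IsPGroup.iff_orderOf.1 hA y
    rcases d with _ | d
    · rw [pow_zero, orderOf_eq_one_iff] at hd
      rw [hd]; exact one_mem _
    have hdc : d + 1 ≤ c := by
      have := hx y
      rw [hc, hd] at this
      exact (Nat.pow_le_pow_iff_right (by norm_num)).1 this
    -- the exponent of `x` is even
    have hev : (2 : ℤ) ∣ i := by
      have h2 : x ^ (i * (2 : ℤ) ^ d) = 1 := by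
        rw [zpow_mul, hi, show ((2 : ℤ) ^ d) = ((2 ^ d : ℕ) : ℤ) by push_cast; rfl, zpow_natCast,
          ← pow_two, ← pow_mul, ← pow_succ', ← hd, pow_orderOf_eq_one]
      have h3 := orderOf_dvd_iff_zpow_eq_one.2 h2
      rw [hc] at h3
      push_cast at h3
      have h4 : (2 : ℤ) ^ (d + 1) ∣ i * 2 ^ d := (pow_dvd_pow 2 hdc).trans h3
      rw [pow_succ'] at h4
      exact (mul_dvd_mul_iff_right (pow_ne_zero d (by norm_num))).1 h4
    obtain ⟨j, rfl⟩ := hev
    have h5 : (y * (x ^ j)⁻¹) * (y * (x ^ j)⁻¹) = 1 := by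
      calc (y * (x ^ j)⁻¹) * (y * (x ^ j)⁻¹) = y * y * ((x ^ j)⁻¹ * (x ^ j)⁻¹) := by
            rw [mul_assoc, ← mul_assoc (x ^ j)⁻¹, hab (x ^ j)⁻¹ y, mul_assoc, mul_assoc]
        _ = 1 := by rw [← hi]; group
    have hzmem : z ∈ Subgroup.zpowers x ∨ ∀ w : A, w * w = 1 → w = 1 := by
      obtain ⟨c', rfl⟩ : ∃ c', c = c' + 1 := ⟨c - 1, by omega⟩
      left
      have h6 : x ^ 2 ^ c' * x ^ 2 ^ c' = 1 := by
        rw [← pow_add, ← two_mul, ← pow_succ', ← hc, pow_orderOf_eq_one]
      rcases h _ h6 with h7 | h7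
      · exfalso
        have h8 := orderOf_dvd_of_pow_eq_one h7
        rw [hc] at h8
        have := (Nat.pow_dvd_pow_iff_le_right (by norm_num)).1 h8
        omega
      · rw [← h7]; exact Subgroup.npow_mem_zpowers x _
    have h9 : y * (x ^ j)⁻¹ ∈ Subgroup.zpowers x := by
      rcases h _ h5 with h7 | h7
      · rw [h7]; exact one_mem _
      · rcases hzmem with h8 | h8
        · rw [h7]; exact h8
        · rw [h8 _ h5]; exact one_mem _
    simpa using mul_mem h9 (Subgroup.zpow_mem_zpowers x j)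

variable {G : Type*} [Group G] [Finite G]

/-- A central element of order at most four outside the involutions of the cyclic kernel excludes
inversion of a non-involution of the kernel. -/
theorem central_excludes {M : Subgroup G} (hM : IsPGroup 2 M) (K : Subgroup ↥M) [K.Normal] [IsCyclic K]
    [IsCyclic (↥M ⧸ K)] {p q t : ↥M} (hp : p ∈ K) (hp2 : p * p ≠ 1) (hqp : q * p * q⁻¹ = p⁻¹)
    (hq : q ∉ K) (hq2 : q * q ∈ K) (ht : ∀ m, Commute m t) (ht4 : t ^ 4 = 1)
    (htK : ¬ (t ∈ K ∧ t * t = 1)) : False := by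
  have hKc : ∀ y ∈ K, Commute y p := fun y hy => PGroup.MetacyclicTwo.comm_in_cyclic K hy hp
  -- no element of `q⟨t⟩` centralises `p`
  have hno : ∀ y, (∀ m, Commute m y) → y * q ∉ K := by
    intro y hy hyq
    have h1 : Commute q p := by
      have h2 := hKc _ hyq
      have h3 : q = y⁻¹ * (y * q) := by group
      rw [h3]
      exact (hy p).symm.inv_left.mul_left h2
    apply hp2
    have h4 : q * p * q⁻¹ = p := by rw [h1.eq, mul_inv_cancel_right]
    calc p * p = p * (q * p * q⁻¹) := by rw [h4]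
      _ = 1 := by rw [hqp, mul_inv_cancel]
  set π := QuotientGroup.mk' K with hπ
  have hq1 : π q ≠ 1 := fun h => hq ((QuotientGroup.eq_one_iff q).1 h)
  have hq2' : π q * π q = 1 := (QuotientGroup.eq_one_iff _).2 hq2
  have huniq : ∀ v : ↥M ⧸ K, v * v = 1 → v ≠ 1 → v = π q := by
    intro v hv hv1
    have hoq : orderOf (π q) = 2 := orderOf_eq_prime (by rw [pow_two]; exact hq2') hq1
    obtain ⟨i, hi⟩ := Subgroup.mem_zpowers_iff.1
      (PGroup.MetacyclicTwo.mem_zpowers_of_pow_eq_one (x := v) (y := π q)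
        (by rw [hoq, pow_two]; exact hv))
    rcases Int.even_or_odd i with ⟨j, rfl⟩ | ⟨j, rfl⟩
    · exact absurd (by rw [← hi, ← two_mul, zpow_mul, zpow_two, hq2', one_zpow]) hv1
    · rw [← hi, zpow_add, zpow_one, zpow_mul, zpow_two, hq2', one_zpow, one_mul]
  have hinvK : ∀ y, π y = π q → y * q ∈ K := by
    intro y hy
    rw [← QuotientGroup.eq_one_iff]
    show π (y * q) = 1
    rw [map_mul, hy, hq2']
  have ht2 : t * t ∈ K := by
    by_contra h
    refine hno (t * t) (fun m => (ht m).mul_right (ht m)) (hinvK _ (huniq _ ?_ ?_))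
    · rw [← map_mul, ← map_one π]
      congr 1
      rw [← pow_two, ← pow_two, ← pow_mul]; exact ht4
    · exact fun h1 => h ((QuotientGroup.eq_one_iff _).1 h1)
  by_cases htm : t ∈ K
  · have ht22 : t * t ≠ 1 := fun h => htK ⟨htm, h⟩
    -- `t` is a power of `p`
    have hpo : orderOf (⟨t, htm⟩ : K) ∣ orderOf (⟨p, hp⟩ : K) := by
      haveI : Finite ↥M := inferInstance
      have h4 : orderOf (⟨t, htm⟩ : K) ∣ 2 ^ 2 :=
        orderOf_dvd_of_pow_eq_one (Subtype.ext (by simpa using ht4))
      have h5 : orderOf p ≠ 1 := fun h => hp2 (by rw [orderOf_eq_one_iff.1 h, mul_one])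
      refine h4.trans ?_
      rw [← Subgroup.orderOf_coe]
      obtain ⟨n, hn⟩ := IsPGroup.iff_orderOf.1 hM p
      show 2 ^ 2 ∣ orderOf p
      rw [hn]
      refine pow_dvd_pow 2 ?_
      by_contra hlt
      apply hp2
      rw [← pow_two]
      refine orderOf_dvd_iff_pow_eq_one.1 ?_
      rw [hn]
      exact pow_dvd_pow 2 (show n ≤ 1 by omega)
    obtain ⟨i, hi⟩ := Subgroup.mem_zpowers_iff.1
      (PGroup.MetacyclicTwo.mem_zpowers_of_pow_eq_one (x := (⟨t, htm⟩ : K)) (y := ⟨p, hp⟩)
        (orderOf_dvd_iff_pow_eq_one.1 hpo))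
    have hi' : p ^ i = t := congrArg Subtype.val hi
    apply ht22
    have h6 : q * t * q⁻¹ = t⁻¹ := by rw [← hi', ← conj_zpow, hqp, inv_zpow]
    rw [(ht q).eq, mul_inv_cancel_right] at h6
    calc t * t = t * t⁻¹ := by rw [← h6]
      _ = 1 := mul_inv_cancel t
  · have h1 : π t * π t = 1 := by rw [← map_mul]; exact (QuotientGroup.eq_one_iff _).2 ht2
    exact hno t ht (hinvK t (huniq _ h1 fun h => htm ((QuotientGroup.eq_one_iff t).1 h)))

/-- In a cyclic group an element of square one is determined by being nontrivial. -/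
theorem eq_of_sq_one {A : Type*} [Group A] [Finite A] [IsCyclic A] {u v : A} (hu : u * u = 1)
    (hu1 : u ≠ 1) (hv : v * v = 1) (hv1 : v ≠ 1) : v = u := by
  have hou : orderOf u = 2 := orderOf_eq_prime (by rw [pow_two]; exact hu) hu1
  obtain ⟨i, hi⟩ := Subgroup.mem_zpowers_iff.1
    (PGroup.MetacyclicTwo.mem_zpowers_of_pow_eq_one (x := v) (y := u) (by rw [hou, pow_two]; exact hv))
  rcases Int.even_or_odd i with ⟨j, rfl⟩ | ⟨j, rfl⟩
  · exact absurd (by rw [← hi, ← two_mul, zpow_mul, zpow_two, hu, one_zpow]) hv1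
  · rw [← hi, zpow_add, zpow_one, zpow_mul, zpow_two, hu, one_zpow, one_mul]

/-- A normal subgroup of order four is centralized by squares, hence by the Frattini subgroup. -/
theorem frattini_centralizes (hG : IsPGroup 2 G) {X : Subgroup G} [hX : X.Normal]
    (hc : Nat.card X = 4) : ∀ m ∈ frattini G, ∀ x ∈ X, Commute m x := by
  classical
  haveI : Fact (Nat.Prime 2) := ⟨Nat.prime_two⟩
  have hXne : X ≠ ⊥ := fun h => by rw [h, Subgroup.card_bot] at hc; omega
  obtain ⟨z, hzX, hzc, hzo⟩ := PGroup.exists_orderOf_eq_mem_center hG X hXne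
  have hz1 : z ≠ 1 := fun h => by rw [h, orderOf_one] at hzo; omega
  have hz2 : z * z = 1 := by rw [← pow_two, ← hzo, pow_orderOf_eq_one]
  have hzc' : ∀ g, g * z = z * g := fun g => Subgroup.mem_center_iff.1 hzc g
  have hsq : ∀ g : G, ∀ x ∈ X, Commute (g * g) x := by
    intro g x hx
    have hconj : g * g * x * (g * g)⁻¹ = g * (g * x * g⁻¹) * g⁻¹ := by group
    suffices h : g * (g * x * g⁻¹) * g⁻¹ = x from mul_inv_eq_iff_eq_mul.1 (hconj.trans h)
    by_cases hxz : x = 1 ∨ x = z
    · rcases hxz with rfl | rfl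
      · group
      · rw [hzc', mul_inv_cancel_right, hzc', mul_inv_cancel_right]
    push Not at hxz
    set y := g * x * g⁻¹ with hy
    have hyX : y ∈ X := hX.conj_mem x hx g
    have hy1 : y ≠ 1 := fun h => hxz.1 (conj_eq_one_iff.1 h)
    have hyz : y ≠ z := fun h => hxz.2 (by
      have h1 : x = g⁻¹ * y * g := by rw [hy]; group
      rw [h1, h, mul_assoc, ← hzc', inv_mul_cancel_left])
    have hzx : z * x ≠ 1 := fun h => hxz.2 (mul_left_cancel (h.trans hz2.symm))
    have hyval : y = x ∨ y = z * x := by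
      by_contra hcon
      push Not at hcon
      have hsub : ({1, z, x, z * x, y} : Finset G) ⊆ (X : Set G).toFinite.toFinset := by
        intro t ht
        rw [Set.Finite.mem_toFinset]
        simp only [Finset.mem_insert, Finset.mem_singleton] at ht
        rcases ht with rfl | rfl | rfl | rfl | rfl
        exacts [one_mem X, hzX, hx, mul_mem hzX hx, hyX]
      have h5 : ({1, z, x, z * x, y} : Finset G).card = 5 := by
        rw [Finset.card_insert_of_notMem, Finset.card_insert_of_notMem,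
          Finset.card_insert_of_notMem, Finset.card_insert_of_notMem, Finset.card_singleton] <;>
          simp_all [eq_comm]
      have := Finset.card_le_card hsub
      rw [h5, ← Set.ncard_eq_toFinset_card, ← Nat.card_coe_set_eq] at this
      have h4 : Nat.card ↥(X : Set G) = 4 := hc
      omega
    rcases hyval with h | h
    · rw [h]; exact hy.symm.trans h
    · rw [h]
      calc g * (z * x) * g⁻¹ = z * (g * x * g⁻¹) := by rw [← mul_assoc, hzc']; group
        _ = x := by rw [← hy, h, ← mul_assoc, hz2, one_mul]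
  intro m hm x hx
  have hle : frattini G ≤ Subgroup.centralizer (X : Set G) := by
    refine PGroup.frattini_le (p := 2) ?_ fun g => ?_
    · rw [_root_.commutator_def, Subgroup.commutator_le]
      intro a _ b _
      have h1 : ⁅a, b⁆ = a * a * ((a⁻¹ * b) * (a⁻¹ * b)) * (b * b)⁻¹ := by
        rw [commutatorElement_def]; group
      rw [h1]
      refine mul_mem (mul_mem ?_ ?_) (inv_mem ?_) <;>
        exact Subgroup.mem_centralizer_iff.2 fun y hy => (hsq _ y hy).eq.symm
    · rw [pow_two]
      exact Subgroup.mem_centralizer_iff.2 fun y hy => (hsq g y hy).eq.symm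
  exact (Subgroup.mem_centralizer_iff.1 (hle hm) x hx).symm

/-- In a metacyclic Frattini subgroup of order at least four there is a central element of order
at most four that is not an involution of the cyclic kernel. -/
theorem exists_central (hG : IsPGroup 2 G) (hcard : 4 ≤ Nat.card (frattini G))
    (K : Subgroup ↥(frattini G)) [IsCyclic K] :
    ∃ t : ↥(frattini G), (∀ m, Commute m t) ∧ t ^ 4 = 1 ∧ ¬ (t ∈ K ∧ t * t = 1) := by
  haveI : Fact (Nat.Prime 2) := ⟨Nat.prime_two⟩
  obtain ⟨X, hXn, -, hXΦ, hXc⟩ :=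
    PGroup.exists_normal_card_between hG ⊥ (frattini G) bot_le 2 (by simp) (by simpa using hcard)
  have hc4 : Nat.card X = 4 := by simpa using hXc
  have hcen : ∀ (x : G) (hx : x ∈ X), ∀ m : ↥(frattini G), Commute m ⟨x, hXΦ hx⟩ := fun x hx m =>
    Subtype.ext (frattini_centralizes hG hc4 m m.2 x hx)
  have h4 : ∀ (x : G) (hx : x ∈ X), (⟨x, hXΦ hx⟩ : ↥(frattini G)) ^ 4 = 1 := fun x hx => by
    have h := pow_card_eq_one' (G := X) (x := ⟨x, hx⟩)
    rw [hc4] at h
    exact Subtype.ext (congrArg Subtype.val h :)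
  by_contra hcon
  push Not at hcon
  have hall : ∀ (x : G) (hx : x ∈ X), (⟨x, hXΦ hx⟩ : ↥(frattini G)) ∈ K ∧ x * x = 1 := fun x hx =>
    ⟨(hcon _ (hcen x hx) (h4 x hx)).1, congrArg Subtype.val (hcon _ (hcen x hx) (h4 x hx)).2⟩
  have hle : Nat.card X ≤ 2 := by
    by_contra h2
    push Not at h2
    haveI : Fintype X := Fintype.ofFinite X
    rw [Nat.card_eq_fintype_card] at h2
    obtain ⟨u, v, hu, hv, huv⟩ : ∃ u v : X, u ≠ 1 ∧ v ≠ 1 ∧ u ≠ v := by
      obtain ⟨a, b, c, hab, hac, hbc⟩ := Fintype.two_lt_card_iff.1 h2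
      by_cases ha : a = 1
      · exact ⟨b, c, fun h => hab (ha.trans h.symm), fun h => hac (ha.trans h.symm), hbc⟩
      by_cases hb : b = 1
      · exact ⟨a, c, ha, fun h => hbc (hb.trans h.symm), hac⟩
      exact ⟨a, b, ha, hb, hab⟩
    have key := eq_of_sq_one (A := K) (u := ⟨_, (hall u u.2).1⟩) (v := ⟨_, (hall v v.2).1⟩)
      (Subtype.ext (Subtype.ext (hall u u.2).2))
      (fun h => hu (Subtype.ext (congrArg (fun k : K => ((k : ↥(frattini G)) : G)) h :)))
      (Subtype.ext (Subtype.ext (hall v v.2).2))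
      (fun h => hv (Subtype.ext (congrArg (fun k : K => ((k : ↥(frattini G)) : G)) h :)))
    exact huv (Subtype.ext (congrArg (fun k : K => ((k : ↥(frattini G)) : G)) key :).symm)
  omega

/-- Involutions of a metacyclic Frattini subgroup commute. -/
theorem comm_involutions (hG : IsPGroup 2 G) (hm : Cfsg.IsMetacyclic ↥(frattini G)) {u w : G}
    (hu : u ∈ frattini G) (hw : w ∈ frattini G) (hu2 : u * u = 1) (hw2 : w * w = 1) :
    Commute u w := by
  haveI : Fact (Nat.Prime 2) := ⟨Nat.prime_two⟩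
  by_contra hne
  obtain ⟨K, hKn, hKc, hQc⟩ := hm
  haveI := hKn
  set U : ↥(frattini G) := ⟨u, hu⟩
  set W : ↥(frattini G) := ⟨w, hw⟩
  have hU2 : U * U = 1 := Subtype.ext hu2
  have hW2 : W * W = 1 := Subtype.ext hw2
  have hUW : ¬ Commute U W := fun h => hne (congrArg Subtype.val h.eq)
  have hnotK : ∀ x y : ↥(frattini G), x * x = 1 → x ∈ K → Commute x y := by
    intro x y hx hxK
    by_cases hx1 : x = 1
    · rw [hx1]; exact Commute.one_left y
    have hc : y * x * y⁻¹ ∈ K := hKn.conj_mem x hxK y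
    have key := eq_of_sq_one (A := K) (u := ⟨x, hxK⟩) (v := ⟨_, hc⟩) (Subtype.ext hx)
      (fun h => hx1 (congrArg Subtype.val h :))
      (Subtype.ext (show y * x * y⁻¹ * (y * x * y⁻¹) = 1 by
        calc y * x * y⁻¹ * (y * x * y⁻¹) = y * (x * x) * y⁻¹ := by group
          _ = 1 := by rw [hx]; group))
      (fun h => hx1 (conj_eq_one_iff.1 (congrArg Subtype.val h :)))
    exact (mul_inv_eq_iff_eq_mul.1 (congrArg Subtype.val key :)).symm
  have hUK : U ∉ K := fun h => hUW (hnotK U W hU2 h)
  have hWK : W ∉ K := fun h => hUW (hnotK W U hW2 h).symm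
  set π := QuotientGroup.mk' K
  have hsame : π W = π U := eq_of_sq_one (by rw [← map_mul, hU2, map_one])
    (fun h => hUK ((QuotientGroup.eq_one_iff U).1 h)) (by rw [← map_mul, hW2, map_one])
    (fun h => hWK ((QuotientGroup.eq_one_iff W).1 h))
  have hP : U * W ∈ K := by
    rw [← QuotientGroup.eq_one_iff]
    show π (U * W) = 1
    rw [map_mul, hsame, ← map_mul, hU2, map_one]
  have hUinv : U⁻¹ = U := inv_eq_of_mul_eq_one_right hU2
  have hWinv : W⁻¹ = W := inv_eq_of_mul_eq_one_right hW2
  have hcard : 4 ≤ Nat.card (frattini G) := by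
    obtain ⟨n, hn⟩ := (hG.to_subgroup (frattini G)).exists_card_eq
    haveI := Fintype.ofFinite ↥(frattini G)
    have h3 : 2 < Fintype.card ↥(frattini G) := Fintype.two_lt_card_iff.2 ⟨1, U, W,
      fun h => hUW (h ▸ Commute.one_left W), fun h => hUW (h ▸ Commute.one_right U),
      fun h => hUW (h ▸ Commute.refl U)⟩
    rw [← Nat.card_eq_fintype_card, hn] at h3
    rw [hn]
    rcases n with _ | _ | n
    · simp at h3
    · simp at h3
    · exact Nat.le_mul_of_pos_left 4 (Nat.two_pow_pos n) |>.trans_eq (by ring)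
  obtain ⟨t, ht, ht4, htK⟩ := exists_central hG hcard K
  refine central_excludes (hG.to_subgroup _) K hP (fun h => hUW ?_) ?_ hUK (hU2.symm ▸ one_mem K)
    ht ht4 htK
  · show U * W = W * U
    calc U * W = (U * W)⁻¹ := eq_inv_of_mul_eq_one_left h
      _ = W * U := by rw [mul_inv_rev, hUinv, hWinv]
  · rw [mul_inv_rev, hUinv, hWinv, ← mul_assoc, hU2, one_mul]

/-- A metacyclic Frattini subgroup contains no quaternion group of order eight. -/
theorem no_quaternion (hG : IsPGroup 2 G) (hm : Cfsg.IsMetacyclic ↥(frattini G)) {i j : G}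
    (hi : i ∈ frattini G) (hj : j ∈ frattini G) (hi2 : i * i ≠ 1) (hi4 : i * i * (i * i) = 1)
    (hji : j * j = i * i) (hconj : j * i * j⁻¹ = i⁻¹) : False := by
  haveI : Fact (Nat.Prime 2) := ⟨Nat.prime_two⟩
  obtain ⟨K, hKn, hKc, hQc⟩ := hm
  haveI := hKn
  set I : ↥(frattini G) := ⟨i, hi⟩
  set J : ↥(frattini G) := ⟨j, hj⟩
  have hI2 : I * I ≠ 1 := fun h => hi2 (congrArg Subtype.val h :)
  have hI4 : I * I * (I * I) = 1 := Subtype.ext hi4
  have hJI : J * J = I * I := Subtype.ext hji
  have hC : J * I * J⁻¹ = I⁻¹ := Subtype.ext hconj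
  have hcard : 4 ≤ Nat.card (frattini G) := by
    have h1 : orderOf I = 4 := by
      have := orderOf_eq_prime_pow (p := 2) (n := 1) (x := I)
        (by rw [pow_one, pow_two]; exact hI2)
        (by rw [show 2 ^ (1 + 1) = 2 * 2 by norm_num, pow_mul, pow_two, pow_two]; exact hI4)
      simpa using this
    exact h1 ▸ Nat.le_of_dvd Nat.card_pos (orderOf_dvd_natCard I)
  obtain ⟨t, ht, ht4, htK⟩ := exists_central hG hcard K
  have hII : I * I ∈ K := by
    have h1 := PGroup.MetacyclicTwo.comm_of_cyclic_quotient K J I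
    rw [commutatorElement_def, hC, ← mul_inv_rev] at h1
    have h2 := inv_mem h1
    rwa [inv_inv] at h2
  set π := QuotientGroup.mk' K
  have hsqI : π I * π I = 1 := by rw [← map_mul]; exact (QuotientGroup.eq_one_iff _).2 hII
  have hsqJ : π J * π J = 1 := by rw [← map_mul, hJI]; exact (QuotientGroup.eq_one_iff _).2 hII
  by_cases hIK : I ∈ K
  · refine central_excludes (hG.to_subgroup _) K hIK hI2 hC (fun hJK => hI2 ?_) (hJI ▸ hII) ht ht4
      htK
    have h1 := PGroup.MetacyclicTwo.comm_in_cyclic K hJK hIK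
    rw [h1, mul_inv_cancel_right] at hC
    exact eq_inv_iff_mul_eq_one.1 hC
  -- then `J` or `J I` is in the kernel, and `I` inverts it
  have hIinv : ∀ y : ↥(frattini G), y * y = I * I → J * y * J⁻¹ = y⁻¹ ∨ I * y * I⁻¹ = y⁻¹ →
      y ∈ K → False := by
    rintro y hy (hc | hc) hyK
    · refine central_excludes (hG.to_subgroup _) K hyK (hy ▸ hI2) hc (fun hJK => hI2 ?_)
        (hJI ▸ hII) ht ht4 htK
      have h1 := PGroup.MetacyclicTwo.comm_in_cyclic K hJK hyK
      rw [h1, mul_inv_cancel_right] at hc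
      exact hy ▸ eq_inv_iff_mul_eq_one.1 hc
    · exact central_excludes (hG.to_subgroup _) K hyK (hy ▸ hI2) hc hIK hII ht ht4 htK
  have hJinvI : J⁻¹ * I * J = I⁻¹ := by
    have h1 : J⁻¹ * (J * I * J⁻¹) * J = J⁻¹ * I⁻¹ * J := by rw [hC]
    have h2 : J⁻¹ * (J * I * J⁻¹) * J = I := by group
    calc J⁻¹ * I * J = (J⁻¹ * I⁻¹ * J)⁻¹ := by group
      _ = I⁻¹ := by rw [← h1, h2]
  have hIJ : I * J * I⁻¹ = J⁻¹ := by
    calc I * J * I⁻¹ = J * (J⁻¹ * I * J) * I⁻¹ := by group
      _ = J * (I * I)⁻¹ := by rw [hJinvI, mul_assoc, ← mul_inv_rev]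
      _ = J⁻¹ := by rw [← hJI]; group
  by_cases hJK : J ∈ K
  · exact hIinv J hJI (Or.inr hIJ) hJK
  have hsame : π I = π J := eq_of_sq_one hsqJ (fun h => hJK ((QuotientGroup.eq_one_iff J).1 h))
    hsqI (fun h => hIK ((QuotientGroup.eq_one_iff I).1 h))
  refine hIinv (J * I) ?_ (Or.inr ?_) ?_
  · calc J * I * (J * I) = (J * I * J⁻¹) * (J * J) * I := by group
      _ = I⁻¹ * (I * I) * I := by rw [hC, hJI]
      _ = I * I := by group
  · calc I * (J * I) * I⁻¹ = I * J * I⁻¹ * I := by group
      _ = J⁻¹ * I := by rw [hIJ]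
      _ = (J⁻¹ * I * J) * J⁻¹ := by group
      _ = (J * I)⁻¹ := by rw [hJinvI, mul_inv_rev]
  · rw [← QuotientGroup.eq_one_iff]
    show π (J * I) = 1
    rw [map_mul, hsame, hsqJ]

/-- The involutions of a metacyclic Frattini subgroup fill at most a four-group. -/
theorem four_mem_frattini (hG : IsPGroup 2 G) (hm : Cfsg.IsMetacyclic ↥(frattini G)) {u v w : G}
    (hu : u ∈ frattini G) (hv : v ∈ frattini G) (hw : w ∈ frattini G) (hu2 : u * u = 1)
    (hv2 : v * v = 1) (hw2 : w * w = 1) (hu1 : u ≠ 1) (hv1 : v ≠ 1) (hne : u ≠ v) :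
    w = 1 ∨ w = u ∨ w = v ∨ w = u * v :=
  four_mem hm hu hv hw hu2 hv2 hw2 (comm_involutions hG hm hu hv hu2 hv2)
    (comm_involutions hG hm hu hw hu2 hw2) (comm_involutions hG hm hv hw hv2 hw2) hu1 hv1 hne

/-- A four-group in the Frattini subgroup and in the centre of a self centralizing `R`, moved by
`g ∈ N(R) ∖ R` with `N(R) = R ∪ gR`, makes `R` normal; `g` and any element of `R` outside the
Frattini subgroup generate. -/
theorem normal_of_moves (hG : IsPGroup 2 G) (hgen : Gen2 (⊤ : Subgroup G))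
    (hm : Cfsg.IsMetacyclic ↥(frattini G)) {R : Subgroup G} {g : G}
    (hgN : g ∈ Subgroup.normalizer (R : Set G))
    (hN : ∀ h ∈ Subgroup.normalizer (R : Set G), h ∈ R ∨ g⁻¹ * h ∈ R) {u v : G}
    (hu : u ∈ frattini G) (hv : v ∈ frattini G) (hu2 : u * u = 1) (hv2 : v * v = 1) (hu1 : u ≠ 1)
    (hv1 : v ≠ 1) (hne : u ≠ v) (hR : ∀ r ∈ R, Commute r u ∧ Commute r v)
    (hmove : ¬ (Commute g u ∧ Commute g v)) :
    R.Normal ∧ Subgroup.normalizer (R : Set G) = ⊤ ∧ (∃ h ∈ R, h ∉ frattini G) ∧
      ∀ h ∈ R, h ∉ frattini G → Subgroup.closure ({g, h} : Set G) = ⊤ := by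
  haveI : Fact (Nat.Prime 2) := ⟨Nat.prime_two⟩
  have huv : Commute u v := comm_involutions hG hm hu hv hu2 hv2
  -- the four-group is normal
  set X := Subgroup.closure ({u, v} : Set G) with hX
  have hXΦ : X ≤ frattini G := (Subgroup.closure_le _).2 (by rintro x (rfl | rfl) <;> assumption)
  haveI hXn : X.Normal := by
    refine ⟨fun x hx h => ?_⟩
    have key : ∀ y, y ∈ frattini G → y * y = 1 → y ∈ X := fun y hy hy2 => by
      rcases four_mem_frattini hG hm hu hv hy hu2 hv2 hy2 hu1 hv1 hne with rfl | rfl | rfl | rfl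
      exacts [one_mem _, Subgroup.subset_closure (by simp), Subgroup.subset_closure (by simp),
        mul_mem (Subgroup.subset_closure (by simp)) (Subgroup.subset_closure (by simp))]
    refine key _ ((inferInstance : (frattini G).Normal).conj_mem x (hXΦ hx) h) ?_
    have hx2 : x * x = 1 := by
      have hab : IsMulCommutative X := Subgroup.isMulCommutative_closure (by
        rintro a (rfl | rfl) b (rfl | rfl) <;> first | rfl | exact huv.eq | exact huv.eq.symm)
      induction hx using Subgroup.closure_induction with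
      | mem t ht => rcases ht with rfl | rfl <;> assumption
      | one => simp
      | mul p q hp hq ihp ihq =>
        have hpq : p * q = q * p := congrArg Subtype.val (hab.is_comm.comm ⟨p, hp⟩ ⟨q, hq⟩)
        calc p * q * (p * q) = p * q * (q * p) := by rw [hpq]
          _ = 1 := by rw [mul_assoc, ← mul_assoc q, ihq, one_mul, ihp]
      | inv p _ ihp => rw [← mul_inv_rev, ihp, inv_one]
    calc h * x * h⁻¹ * (h * x * h⁻¹) = h * (x * x) * h⁻¹ := by group
      _ = 1 := by rw [hx2]; group
  set C := Subgroup.centralizer (X : Set G) with hC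
  have hCmem : ∀ r, r ∈ C ↔ Commute r u ∧ Commute r v := by
    intro r
    refine ⟨fun h => ⟨(Subgroup.mem_centralizer_iff.1 h u (Subgroup.subset_closure (by simp))).symm,
      (Subgroup.mem_centralizer_iff.1 h v (Subgroup.subset_closure (by simp))).symm⟩, fun h => ?_⟩
    rw [hC, hX, Subgroup.centralizer_closure]
    refine Subgroup.mem_centralizer_iff.2 ?_
    rintro t (rfl | rfl)
    exacts [h.1.eq.symm, h.2.eq.symm]
  have hRC : R ≤ C := fun r hr => (hCmem r).2 (hR r hr)
  have hgC : g ∉ C := fun h => hmove ((hCmem g).1 h)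
  have hX4 : Nat.card X = 4 := by
    classical
    obtain ⟨n, hn⟩ := (hG.to_subgroup X).exists_card_eq
    have hsub : (X : Set G) ⊆ ({1, u, v, u * v} : Finset G) := by
      intro y hy
      have hy2 : y * y = 1 := by
        have hab : IsMulCommutative X := Subgroup.isMulCommutative_closure (by
          rintro a (rfl | rfl) b (rfl | rfl) <;> first | rfl | exact huv.eq | exact huv.eq.symm)
        have hu' : u ∈ X := Subgroup.subset_closure (by simp)
        have hy' : y ∈ X := hy
        induction hy' using Subgroup.closure_induction with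
        | mem t ht => rcases ht with rfl | rfl <;> assumption
        | one => simp
        | mul p q hp hq ihp ihq =>
          have hpq : p * q = q * p := congrArg Subtype.val (hab.is_comm.comm ⟨p, hp⟩ ⟨q, hq⟩)
          calc p * q * (p * q) = p * q * (q * p) := by rw [hpq]
            _ = 1 := by rw [mul_assoc, ← mul_assoc q, ihq hq, one_mul, ihp hp]
        | inv p hp ihp => rw [← mul_inv_rev, ihp hp, inv_one]
      rcases four_mem_frattini hG hm hu hv (hXΦ hy) hu2 hv2 hy2 hu1 hv1 hne with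
        rfl | rfl | rfl | rfl <;> simp
    have hle : Nat.card X ≤ 4 := by
      have h1 := Set.ncard_le_ncard hsub (Finset.finite_toSet _)
      rw [Set.ncard_coe_finset, ← Nat.card_coe_set_eq] at h1
      exact h1.trans Finset.card_le_four
    haveI := Fintype.ofFinite X
    have h3 : 2 < Fintype.card X := Fintype.two_lt_card_iff.2
      ⟨1, ⟨u, Subgroup.subset_closure (by simp)⟩, ⟨v, Subgroup.subset_closure (by simp)⟩,
        fun h => hu1 (congrArg Subtype.val h).symm, fun h => hv1 (congrArg Subtype.val h).symm,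
        fun h => hne (congrArg Subtype.val h)⟩
    rw [← Nat.card_eq_fintype_card, hn] at h3
    rw [hn] at hle ⊢
    refine le_antisymm hle ?_
    rcases n with _ | _ | n
    · simp at h3
    · simp at h3
    · exact Nat.le_mul_of_pos_left 4 (Nat.two_pow_pos n) |>.trans_eq (by ring)
  have hΦC : frattini G ≤ C := fun m hm' =>
    Subgroup.mem_centralizer_iff.2 fun x hx => (frattini_centralizes hG hX4 m hm' x hx).eq.symm
  have hnR : ¬ R ≤ frattini G := by
    intro hRΦ
    have hRR : R = frattini G := by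
      by_contra hne'
      have hlt : R.subgroupOf (frattini G) < ⊤ := lt_top_iff_ne_top.2 fun h =>
        hne' (le_antisymm hRΦ (Subgroup.subgroupOf_eq_top.1 h))
      haveI : Group.IsNilpotent ↥(frattini G) := (hG.to_subgroup _).isNilpotent
      obtain ⟨⟨h, hhΦ⟩, hhN, hh⟩ := SetLike.exists_of_lt
        (Group.normalizerCondition_of_isNilpotent _ hlt)
      have hhN' : h ∈ Subgroup.normalizer (R : Set G) := by
        refine Subgroup.mem_normalizer_iff.2 fun y => ?_
        by_cases hy : y ∈ frattini G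
        · exact Subgroup.mem_normalizer_iff.1 hhN ⟨y, hy⟩
        · refine iff_of_false (fun hyR => hy (hRΦ hyR)) fun hyR => hy ?_
          have h1 := (inferInstance : (frattini G).Normal).conj_mem _ (hRΦ hyR) h⁻¹
          simpa [mul_assoc] using h1
      rcases hN h hhN' with h1 | h1
      · exact hh h1
      · refine hgC ?_
        have h2 : g = h * (g⁻¹ * h)⁻¹ := by group
        rw [h2]
        exact mul_mem (hΦC hhΦ) (inv_mem (hΦC (hRΦ h1)))
    have htop : Subgroup.zpowers g = ⊤ := by
      refine frattini_nongenerating (eq_top_iff.2 fun h _ => ?_)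
      have hh : h ∈ Subgroup.normalizer (R : Set G) := by
        rw [hRR, Subgroup.normalizer_eq_top]; exact Subgroup.mem_top h
      rcases hN h hh with h1 | h1
      · exact Subgroup.mem_sup_right (hRΦ h1)
      · have h2 := mul_mem (Subgroup.mem_sup_left (T := frattini G) (Subgroup.mem_zpowers g))
          (Subgroup.mem_sup_right (S := Subgroup.zpowers g) (hRΦ h1))
        rwa [mul_inv_cancel_left] at h2
    apply hmove
    obtain ⟨i, hi⟩ := Subgroup.mem_zpowers_iff.1 (htop.ge (Subgroup.mem_top u))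
    obtain ⟨k, hk⟩ := Subgroup.mem_zpowers_iff.1 (htop.ge (Subgroup.mem_top v))
    exact ⟨hi ▸ Commute.self_zpow g i, hk ▸ Commute.self_zpow g k⟩
  obtain ⟨h₀, hh₀, hh₀Φ⟩ := SetLike.not_le_iff_exists.1 hnR
  have hclos : ∀ h ∈ R, h ∉ frattini G → Subgroup.closure ({g, h} : Set G) = ⊤ := by
    intro h hhR hhΦ
    by_contra htop
    obtain ⟨M, hM, hMle⟩ := (eq_top_or_exists_le_coatom _).resolve_left htop
    have hgM : g ∈ M := hMle (Subgroup.subset_closure (by simp))
    have hhM : h ∈ M := hMle (Subgroup.subset_closure (by simp))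
    have hCne : C ≠ ⊤ := fun h => hgC (h ▸ Subgroup.mem_top g)
    obtain ⟨C1, hC1, hCC1⟩ := (eq_top_or_exists_le_coatom _).resolve_left hCne
    have hMi := PGroup.index_of_isCoatom hG hM
    have hC1i := PGroup.index_of_isCoatom hG hC1
    have heq : M = C1 := by
      by_contra hne'
      exact hhΦ (inf_le_frattini hG hgen hMi hC1i hne' ⟨hhM, hCC1 (hRC hhR)⟩)
    -- `C = C1`
    refine hgC ?_
    subst heq
    have h1 : h⁻¹ * g ∈ frattini G ∨ g ∈ frattini G := by
      by_cases hgΦ : g ∈ frattini G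
      · exact Or.inr hgΦ
      refine Or.inl (PGroup.le_frattini_of_forall_coatom (H := Subgroup.zpowers (h⁻¹ * g))
        (fun D hD => Subgroup.zpowers_le.2 ?_) (Subgroup.mem_zpowers _))
      have hDi := PGroup.index_of_isCoatom hG hD
      rcases eq_or_ne D M with hDM | hne'
      · rw [hDM]; exact mul_mem (inv_mem hhM) hgM
      · rw [Subgroup.mul_mem_iff_of_index_two hDi, inv_mem_iff]
        exact iff_of_false (fun h' => hhΦ (inf_le_frattini hG hgen hDi hMi hne' ⟨h', hhM⟩))
          (fun h' => hgΦ (inf_le_frattini hG hgen hDi hMi hne' ⟨h', hgM⟩))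
    rcases h1 with h1 | h1
    · simpa using mul_mem (hRC hhR) (hΦC h1)
    · exact hΦC h1
  have hnorm : Subgroup.normalizer (R : Set G) = ⊤ := by
    rw [eq_top_iff, ← hclos h₀ hh₀ hh₀Φ, Subgroup.closure_le]
    rintro t (rfl | rfl)
    exacts [hgN, Subgroup.le_normalizer hh₀]
  exact ⟨Subgroup.normalizer_eq_top_iff.1 hnorm, hnorm, ⟨h₀, hh₀, hh₀Φ⟩, hclos⟩

end Cfsg.Agent.Bicyclic2
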