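import Cfsg.Agent.Lib.StronglyEmbedded.Conj
import Cfsg.Agent.Lib.OddBaseTwo.SmallBounds
import Mathlib.GroupTheory.SpecificGroups.Cyclic

/-!
A group acting faithfully on an elementary abelian 2-group of order at most eight that has a
strongly 2-embedded subgroup is symmetric of degree three.
-/

set_option autoImplicit false

namespace Cfsg.Agent.Bicyclic2

open Cfsg.Agent

section Action

variable {V : Type*} [Group V] [Finite V]

theorem comm_of_sq_one (hV : ∀ x : V, x * x = 1) (x y : V) : x * y = y * x := by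
  calc x * y = (x * y)⁻¹ := eq_inv_of_mul_eq_one_left (hV _)
    _ = y * x := by rw [mul_inv_rev, inv_eq_of_mul_eq_one_right (hV x),
        inv_eq_of_mul_eq_one_right (hV y)]

/-- An automorphism of order seven fixes no nontrivial element of a group of order eight. -/
theorem fixed_free (hV : ∀ x : V, x * x = 1) (hc : Nat.card V = 8) {f : MulAut V} (h7 : orderOf f = 7)
    {v : V} (hv : f v = v) : v = 1 := by
  classical
  by_contra hv1
  have hcm := comm_of_sq_one hV
  haveI : IsMulCommutative V := ⟨⟨hcm⟩⟩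
  haveI hn : (Subgroup.zpowers v).Normal := ⟨fun n hn g => by
    rwa [hcm g n, mul_inv_cancel_right]⟩
  set W := V ⧸ Subgroup.zpowers v
  have ho : orderOf v = 2 := orderOf_eq_prime (by rw [pow_two]; exact hV v) hv1
  have hW : Nat.card (V ⧸ Subgroup.zpowers v) = 4 := by
    have h := Subgroup.card_eq_card_quotient_mul_card_subgroup (Subgroup.zpowers v)
    rw [Nat.card_zpowers, ho, hc] at h
    omega
  have hfp : f.toMonoidHom v = v := hv
  let fb : W →* W := QuotientGroup.map _ _ f.toMonoidHom (by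
    rw [Subgroup.zpowers_le, Subgroup.mem_comap, hfp]; exact Subgroup.mem_zpowers v)
  have hfb : ∀ x : V, fb (x : W) = (f x : W) := fun x => rfl
  have hiter : ∀ (n : ℕ) (x : V), fb^[n] (x : W) = ((f ^ n) x : V) := by
    intro n
    induction n with
    | zero => intro x; rfl
    | succ n ih => intro x; rw [Function.iterate_succ_apply', ih, hfb, pow_succ', MulAut.mul_apply]
  have h7' : f ^ 7 = 1 := h7 ▸ pow_orderOf_eq_one f
  have h7b : ∀ x : W, fb^[7] x = x := fun x => by
    induction x using QuotientGroup.induction_on with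
    | H x => rw [hiter, h7', MulAut.one_apply]
  -- the induced map is trivial
  have htriv : ∀ x : W, fb x = x := by
    haveI := Fintype.ofFinite W
    haveI : Fact (Nat.Prime 7) := ⟨by norm_num⟩
    let σ : Equiv.Perm W := ⟨fb, fb^[6], fun x => (Function.iterate_succ_apply fb 6 x).symm.trans
      (h7b x), fun x => (Function.iterate_succ_apply' fb 6 x).symm.trans (h7b x)⟩
    have hσ : σ ^ 7 = 1 := Equiv.ext fun x => by rw [Equiv.Perm.coe_pow]; exact h7b x
    have hd := orderOf_dvd_natCard σ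
    rw [Nat.card_perm, hW] at hd
    have h1 : orderOf σ = 1 := by
      rcases (Nat.dvd_prime (by norm_num : Nat.Prime 7)).1 (orderOf_dvd_of_pow_eq_one hσ) with h | h
      · exact h
      · rw [h] at hd; norm_num [Nat.factorial] at hd
    intro x
    exact Equiv.ext_iff.1 (orderOf_eq_one_iff.1 h1) x
  have h2 : f ^ 2 = 1 := MulEquiv.ext fun x => by
    have h1 : x⁻¹ * f x ∈ Subgroup.zpowers v := QuotientGroup.eq.1 (htriv (x : W)).symm
    obtain ⟨k, hk : v ^ k = x⁻¹ * f x⟩ := h1
    have hfx : f x = x * v ^ k := by rw [hk]; group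
    rw [pow_two, MulAut.mul_apply, MulAut.one_apply, hfx, map_mul, map_zpow, hv, hfx, mul_assoc,
      hV, mul_one]
  have := orderOf_dvd_of_pow_eq_one h2
  rw [h7] at this
  norm_num at this

/-- An involution of a group of order eight that fixes a subgroup of order at least four is a
transvection. -/
theorem transvection (hV : ∀ x : V, x * x = 1) (hc : Nat.card V = 8) {f : MulAut V} (hf1 : f ≠ 1)
    (hf2 : f * f = 1) : ∃ v : V, v ≠ 1 ∧ f v = v ∧ (∀ x, f x = x ∨ f x = x * v) ∧
      ∃ u : V, u ≠ 1 ∧ u ≠ v ∧ f u = u := by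
  classical
  have hcm := comm_of_sq_one hV
  let d : V →* V := MonoidHom.mk' (fun x => x * f x) fun x y => by
    rw [map_mul]
    calc x * y * (f x * f y) = x * (y * f x) * f y := by group
      _ = _ := by rw [hcm y (f x)]; group
  have hd : ∀ x, f x = x * d x := fun x => by
    show f x = x * (x * f x)
    rw [← mul_assoc, hV, one_mul]
  have hrk : ∀ y ∈ d.range, f y = y := by
    rintro _ ⟨x, rfl⟩
    show f (x * f x) = x * f x
    have hffx : f (f x) = x := DFunLike.congr_fun hf2 x
    rw [map_mul, hffx, hcm]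
  have hker : ∀ y, y ∈ d.ker ↔ f y = y := fun y => by
    show y * f y = 1 ↔ _
    constructor
    · intro h; rw [← inv_eq_of_mul_eq_one_right h, inv_eq_of_mul_eq_one_right (hV y)]
    · intro h; rw [h, hV]
  have hle : d.range ≤ d.ker := fun y hy => (hker y).2 (hrk y hy)
  have hcards : Nat.card d.ker * Nat.card d.range = 8 := by
    have h := Subgroup.card_eq_card_quotient_mul_card_subgroup d.ker
    rw [Nat.card_congr (QuotientGroup.quotientKerEquivRange d).toEquiv, hc] at h
    rw [mul_comm]; exact h.symm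
  have hr1 : Nat.card d.range ≠ 1 := by
    intro h
    apply hf1
    rw [Subgroup.card_eq_one, MonoidHom.range_eq_bot_iff] at h
    exact MulEquiv.ext fun x => by rw [hd x, h]; simp
  have hle' : Nat.card d.range ≤ Nat.card d.ker := Subgroup.card_le_of_le hle
  have hrd : Nat.card d.range ∣ 8 := ⟨Nat.card d.ker, by rw [mul_comm]; exact hcards.symm⟩
  have hr2 : Nat.card d.range = 2 := by
    obtain ⟨k, hk, hk'⟩ := (Nat.dvd_prime_pow Nat.prime_two).1 (show Nat.card d.range ∣ 2 ^ 3 from hrd)
    rw [hk'] at hr1 hle' hcards ⊢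
    interval_cases k <;> omega
  obtain ⟨⟨v, hv⟩, hv1⟩ : ∃ v : d.range, v ≠ 1 := by
    by_contra h
    push Not at h
    exact hr1 (Nat.card_eq_one_iff_exists.2 ⟨1, h⟩)
  have hv1' : v ≠ 1 := fun e => hv1 (Subtype.ext e)
  have hall : ∀ x, d x = 1 ∨ d x = v := fun x => by
    by_contra h
    push Not at h
    haveI := Fintype.ofFinite d.range
    have h3 := Finset.card_le_univ
      ({1, ⟨v, hv⟩, ⟨d x, ⟨x, rfl⟩⟩} : Finset d.range)
    rw [← Nat.card_eq_fintype_card, hr2, Finset.card_insert_of_notMem, Finset.card_insert_of_notMem,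
      Finset.card_singleton] at h3
    · omega
    · rw [Finset.mem_singleton]; exact fun e => h.2 (congrArg Subtype.val e).symm
    · simp only [Finset.mem_insert, Finset.mem_singleton]
      rintro (e | e)
      · exact hv1' (congrArg Subtype.val e).symm
      · exact h.1 (congrArg Subtype.val e).symm
  refine ⟨v, hv1', hrk v hv, fun x => ?_, ?_⟩
  · rcases hall x with h | h
    · exact Or.inl (by rw [hd x, h, mul_one])
    · exact Or.inr (by rw [hd x, h])
  · by_contra h
    push Not at h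
    have hk4 : Nat.card d.ker = 4 := by rw [hr2] at hcards; omega
    haveI := Fintype.ofFinite d.ker
    have h3 : (Finset.univ : Finset d.ker) ⊆ {1, ⟨v, hle hv⟩} := by
      intro y _
      simp only [Finset.mem_insert, Finset.mem_singleton]
      by_cases hy1 : y = 1
      · exact Or.inl hy1
      · right
        by_contra hy
        exact h y (fun e => hy1 (Subtype.ext e)) (fun e => hy (Subtype.ext e)) ((hker y).1 y.2)
    have h4 := (Finset.card_le_card h3).trans Finset.card_le_two
    rw [Finset.card_univ, ← Nat.card_eq_fintype_card, hk4] at h4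
    omega

end Action

section Embedded

variable {O : Type*} [Group O] [Finite O] {V : Type*} [Group V] [Finite V]

theorem involution_ne_one {E : Subgroup O} (hE : Cfsg.IsStronglyPEmbedded 2 E) :
    ∃ t ∈ E, orderOf t = 2 := by
  haveI : Fact (Nat.Prime 2) := ⟨Nat.prime_two⟩
  obtain ⟨P, hPE, -⟩ := StronglyEmbedded.exists_sylow hE
  have hP2 : 2 ∣ Nat.card (P : Subgroup O) := P.dvd_card_of_dvd_card hE.1
  obtain ⟨t, ht⟩ := exists_prime_orderOf_dvd_card' 2 hP2
  exact ⟨t, hPE t.2, by rw [Subgroup.orderOf_coe]; exact ht⟩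

/-- No element of order seven. -/
theorem not_seven (hV : ∀ x : V, x * x = 1) (hc : Nat.card V = 8) (θ : O →* MulAut V)
    (hθ : Function.Injective θ) {E : Subgroup O} (hE : Cfsg.IsStronglyPEmbedded 2 E) :
    ¬ 7 ∣ Nat.card O := by
  classical
  haveI : Fact (Nat.Prime 2) := ⟨Nat.prime_two⟩
  haveI : Fact (Nat.Prime 7) := ⟨by norm_num⟩
  intro h7
  have hcm := comm_of_sq_one hV
  obtain ⟨t, htE, ht⟩ := involution_ne_one hE
  obtain ⟨α, hα⟩ := exists_prime_orderOf_dvd_card' 7 h7
  have hα' : orderOf (θ α) = 7 := by rw [orderOf_injective θ hθ]; exact hα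
  haveI := Fintype.ofFinite V
  -- all nontrivial elements are translates
  have hreach : ∀ u v : V, u ≠ 1 → v ≠ 1 → ∃ i : ℕ, θ (α ^ i) v = u := by
    intro u v hu hv
    have hinj : Function.Injective fun i : Fin 7 => θ (α ^ (i : ℕ)) v := by
      intro i j hij
      by_contra hne
      have key : ∀ i j : Fin 7, (i : ℕ) < j → θ (α ^ (i : ℕ)) v ≠ θ (α ^ (j : ℕ)) v := by
        intro i j hlt e
        have hd : 0 < (j : ℕ) - i ∧ (j : ℕ) - i < 7 := by have := j.2; omega
        have e2 : θ (α ^ ((j : ℕ) - i)) v = v := by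
          apply (θ (α ^ (i : ℕ))).injective
          rw [← MulAut.mul_apply, ← map_mul, ← pow_add, Nat.add_sub_cancel' hlt.le]
          exact e.symm
        have ho : orderOf (θ (α ^ ((j : ℕ) - i))) = 7 := by
          rw [orderOf_injective θ hθ, orderOf_pow, hα]
          have : Nat.Coprime 7 ((j : ℕ) - i) := (Nat.Prime.coprime_iff_not_dvd (by norm_num)).2
            (Nat.not_dvd_of_pos_of_lt hd.1 hd.2)
          rw [this, Nat.div_one]
        exact hv (fixed_free hV hc ho e2)
      rcases lt_or_gt_of_ne (fun e => hne (Fin.ext e)) with h | h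
      exacts [key i j h hij, key j i h hij.symm]
    by_contra hno
    push Not at hno
    have hsub : (Finset.univ.image fun i : Fin 7 => θ (α ^ (i : ℕ)) v) ⊆
        (Finset.univ.erase (1 : V)).erase u := by
      intro x hx
      obtain ⟨i, -, rfl⟩ := Finset.mem_image.1 hx
      simp only [Finset.mem_erase, Finset.mem_univ, and_true]
      exact ⟨hno i, fun e => hv ((θ (α ^ (i : ℕ))).map_eq_one_iff.1 e)⟩
    have h := Finset.card_le_card hsub
    rw [Finset.card_image_of_injective _ hinj, Finset.card_erase_of_mem (by simp [hu]),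
      Finset.card_erase_of_mem (Finset.mem_univ _), Finset.card_univ, Finset.card_univ,
      Fintype.card_fin, ← Nat.card_eq_fintype_card, hc] at h
    omega
  have hinv : ∀ {s : O}, orderOf s = 2 → θ s ≠ 1 ∧ θ s * θ s = 1 := by
    intro s hs
    refine ⟨fun e => ?_, ?_⟩
    · rw [← map_one θ] at e
      rw [hθ e, orderOf_one] at hs
      exact absurd hs (by norm_num)
    · rw [← map_mul, ← pow_two, ← hs, pow_orderOf_eq_one, map_one]
  obtain ⟨v, hv1, hv, htv, u, hu1, huv, hu⟩ := transvection hV hc (hinv ht).1 (hinv ht).2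
  -- the conjugates of `t` by powers of `α`
  set s : ℕ → O := fun i => α ^ i * t * (α ^ i)⁻¹ with hs
  have hs2 : ∀ i, orderOf (s i) = 2 := fun i =>
    (orderOf_injective (MulAut.conj (α ^ i)).toMonoidHom (MulAut.conj _).injective t).trans ht
  have hsv : ∀ i x, θ (s i) x = x ∨ θ (s i) x = x * θ (α ^ i) v := by
    intro i x
    have e : θ (s i) x = θ (α ^ i) (θ t ((θ (α ^ i))⁻¹ x)) := by
      rw [hs, map_mul, map_mul, map_inv]; rfl
    rcases htv ((θ (α ^ i))⁻¹ x) with h | h <;> rw [e, h]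
    · left; exact MulAut.apply_inv_self V (θ (α ^ i)) x
    · right; rw [map_mul]; congr 1; exact MulAut.apply_inv_self V (θ (α ^ i)) x
  have hmem : ∀ {a b : O}, orderOf a = 2 → a ∈ E → Commute a b → b ∈ E := fun {a b} ha haE hab =>
    StronglyEmbedded.mem_of_conj hE ha haE (by rwa [← hab.eq, mul_inv_cancel_right])
  -- elements with a common centre commute
  have hcommon : ∀ {a b : O} {c : V}, (∀ x, θ a x = x ∨ θ a x = x * c) →
      (∀ x, θ b x = x ∨ θ b x = x * c) → θ a c = c → θ b c = c → Commute a b := by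
    intro a b c ha hb hac hbc
    apply hθ
    rw [map_mul, map_mul]
    refine MulEquiv.ext fun x => ?_
    rw [MulAut.mul_apply, MulAut.mul_apply]
    rcases ha x with h1 | h1 <;> rcases hb x with h2 | h2 <;>
      simp only [h1, h2, map_mul, hac, hbc]
  have hsfix : ∀ i, θ (s i) (θ (α ^ i) v) = θ (α ^ i) v := by
    intro i
    rw [hs, map_mul, map_mul, map_inv, MulAut.mul_apply, MulAut.mul_apply,
      MulAut.inv_apply_self, hv]
  -- one conjugate with centre fixed by `t` lies in `E`
  obtain ⟨i, hi⟩ := hreach u v hu1 hv1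
  have hiE : s i ∈ E := by
    by_cases hct : Commute t (s i)
    · exact hmem ht htE hct
    set b := s i with hb
    have hbu : θ b u = u := by rw [← hi, hb]; exact hsfix i
    have hbx : ∀ x, θ b x = x ∨ θ b x = x * u := fun x => by rw [← hi, hb]; exact hsv i x
    set m := θ (t * b) with hm
    have hmu : m u = u := by rw [hm, map_mul, MulAut.mul_apply, hbu, hu]
    have hvv : v * v = 1 := hV v
    have huu : u * u = 1 := hV u
    have hmd : ∀ x, m x = x ∨ m x = x * v ∨ m x = x * u ∨ m x = x * v * u := fun x => by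
      rw [hm, map_mul, MulAut.mul_apply]
      rcases hbx x with h | h <;> rw [h]
      · rcases htv x with h' | h'
        exacts [Or.inl h', Or.inr (Or.inl h')]
      · rw [map_mul, hu]
        rcases htv x with h' | h' <;> rw [h']
        exacts [Or.inr (Or.inr (Or.inl rfl)), Or.inr (Or.inr (Or.inr rfl))]
    have hmv : m v = v ∨ m v = v * u := by
      rw [hm, map_mul, MulAut.mul_apply]
      rcases hbx v with h | h <;> rw [h]
      · exact Or.inl hv
      · right; rw [map_mul, hv, hu]
    have hvu : v * u = u * v := hcm v u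
    have hvu' : ∀ y, v * (u * y) = u * (v * y) := fun y => by
      rw [← mul_assoc, hvu, mul_assoc]
    have hll : ∀ c y : V, c * (c * y) = y := fun c y => by rw [← mul_assoc, hV, one_mul]
    have hm2 : ∀ x, m (m x) = x ∨ m (m x) = x * u := fun x => by
      rcases hmd x with h | h | h | h <;> rcases hmv with h' | h' <;>
        simp only [h, map_mul, hmu, h', mul_assoc, hvv, huu, hvu, hvu', hll, mul_one, one_mul,
          true_or, or_true]
    have hm4 : m ^ 4 = 1 := MulEquiv.ext fun x => by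
      show m (m (m (m x))) = x
      rcases hm2 x with h | h <;> rw [h]
      · exact h ▸ h
      · rw [map_mul, map_mul, hmu, hmu, h, mul_assoc, huu, mul_one]
    set c := t * b * (t * b) with hc'
    have hcc : c * c = 1 := hθ (by
      rw [hc', map_mul, map_mul, map_one, ← hm, ← hm4]; simp [pow_succ, mul_assoc])
    have ht2 : t * t = 1 := by rw [← pow_two, ← ht, pow_orderOf_eq_one]
    have hb2 : b * b = 1 := by rw [← pow_two, hb, ← hs2 i, pow_orderOf_eq_one]
    have hcne : c ≠ 1 := fun e => hct (by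
      show t * b = b * t
      have e2 : t * b = (t * b)⁻¹ := eq_inv_of_mul_eq_one_left e
      rw [e2, mul_inv_rev, inv_eq_of_mul_eq_one_right ht2, inv_eq_of_mul_eq_one_right hb2])
    have hcinv : c = b * t * (b * t) := by
      calc c = c⁻¹ := eq_inv_of_mul_eq_one_left hcc
        _ = b⁻¹ * t⁻¹ * (b⁻¹ * t⁻¹) := by rw [hc']; group
        _ = _ := by rw [inv_eq_of_mul_eq_one_right ht2, inv_eq_of_mul_eq_one_right hb2]
    have hto : Commute t c := by
      show t * c = c * t
      calc t * c = (t * t) * (b * t * b) := by rw [hc']; group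
        _ = b * t * b := by rw [ht2, one_mul]
        _ = b * t * (b * t) * t := by
            calc b * t * b = b * t * b * (t * t) := by rw [ht2, mul_one]
              _ = _ := by group
        _ = c * t := by rw [← hcinv]
    have hbo : Commute c b := by
      show c * b = b * c
      calc c * b = t * b * t * (b * b) := by rw [hc']; group
        _ = t * b * t := by rw [hb2, mul_one]
        _ = (b * b) * (t * b * t) := by rw [hb2, one_mul]
        _ = b * (b * t * (b * t)) := by group
        _ = b * c := by rw [← hcinv]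
    have hco : orderOf c = 2 := orderOf_eq_prime (by rw [pow_two]; exact hcc) hcne
    exact hmem hco (hmem ht htE hto) hbo
  have hαE : α ∈ E := by
    have hiE' : α ^ i ∈ E := StronglyEmbedded.mem_of_conj hE ht htE hiE
    have hi7 : Nat.Coprime (orderOf α) i := by
      rw [hα, Nat.Prime.coprime_iff_not_dvd (by norm_num)]
      intro h
      apply huv
      have e : α ^ i = 1 := orderOf_dvd_iff_pow_eq_one.1 (by rw [hα]; exact h)
      rw [← hi, e, map_one, MulAut.one_apply]
    obtain ⟨k, hk⟩ := exists_pow_eq_self_of_coprime (x := α) (n := i) hi7.symm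
    rw [← hk]
    exact pow_mem hiE' k
  -- every involution is in `E`
  refine hE.2.1 (eq_top_iff.2 fun β _ => ?_)
  refine StronglyEmbedded.mem_of_conj hE ht htE (g := β) ?_
  have hb2 : orderOf (β * t * β⁻¹) = 2 :=
    (orderOf_injective (MulAut.conj β).toMonoidHom (MulAut.conj β).injective t).trans ht
  obtain ⟨c, hc1, hcfix, hcx, -⟩ := transvection hV hc (hinv hb2).1 (hinv hb2).2
  obtain ⟨j, hj⟩ := hreach c v hc1 hv1
  have hjE : s j ∈ E := mul_mem (mul_mem (pow_mem hαE j) htE) (inv_mem (pow_mem hαE j))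
  exact hmem (hs2 j) hjE (hcommon (fun x => hj ▸ hsv j x) hcx (hj ▸ hsfix j) hcfix)

/-- The group has order six and is not abelian. -/
theorem card_eq_six (hV : ∀ x : V, x * x = 1) (hV8 : Nat.card V ≤ 8) (θ : O →* MulAut V)
    (hθ : Function.Injective θ) {E : Subgroup O} (hE : Cfsg.IsStronglyPEmbedded 2 E) :
    Nat.card O = 6 ∧ ∀ x y : O, orderOf x = 2 → orderOf y = 3 → x * y ≠ y * x := by
  classical
  haveI : Fact (Nat.Prime 2) := ⟨Nat.prime_two⟩
  letI : CommGroup V := { ‹Group V› with mul_comm := comm_of_sq_one hV }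
  obtain ⟨n, hn⟩ : ∃ n, Nat.card V = 2 ^ n :=
    (IsPGroup.iff_card (p := 2)).1 fun x => ⟨1, by rw [pow_one, pow_two]; exact hV x⟩
  have hn3 : n ≤ 3 := (Nat.pow_le_pow_iff_right (by norm_num)).1
    ((hn ▸ hV8).trans (by norm_num : 8 ≤ 2 ^ 3))
  have hdvd : Nat.card O ∣ ∏ i : Fin n, (2 ^ n - 2 ^ (i : ℕ)) :=
    (Subgroup.card_dvd_of_injective θ hθ).trans
      (OddBaseTwo.card_mulAut_dvd (W := V) 2 n hn fun x => by rw [pow_two]; exact hV x)
  have hev : 2 ∣ Nat.card O := hE.1
  have h24 : Nat.card O ∣ 24 := by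
    interval_cases n
    · simp at hdvd; rw [hdvd] at hev; norm_num at hev
    · simp [Fin.prod_univ_succ] at hdvd; rw [hdvd] at hev; norm_num at hev
    · simp [Fin.prod_univ_succ] at hdvd
      exact hdvd.trans (by norm_num)
    · simp [Fin.prod_univ_succ] at hdvd
      have h7 := not_seven hV (hn.trans (by norm_num)) θ hθ hE
      have hco : Nat.Coprime (Nat.card O) 7 :=
        ((Nat.Prime.coprime_iff_not_dvd (by norm_num)).2 h7).symm
      exact hco.dvd_of_dvd_mul_right (show Nat.card O ∣ 24 * 7 by simpa using hdvd)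
  obtain ⟨P, hPE, hPN⟩ := StronglyEmbedded.exists_sylow hE
  have hP1 : (P : Subgroup O) ≠ ⊥ := P.ne_bot_of_dvd_card hev
  have hnormal : ¬ (P : Subgroup O).Normal := fun h => hE.2.1 (eq_top_iff.2 (by
    rw [← Subgroup.normalizer_eq_top_iff.2 h]; exact hPN _ le_rfl hP1))
  -- the core is trivial
  have hcore : ∀ Q : Subgroup O, Q.Normal → IsPGroup 2 Q → Q = ⊥ := by
    intro Q hQn hQ
    by_contra hQ1
    refine hE.2.1 (eq_top_iff.2 ?_)
    have hQP : Q ≤ (P : Subgroup O) := by
      rw [← P.is_maximal' (hQ.to_sup_of_normal_left P.2) le_sup_right]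
      exact le_sup_left
    rw [← Subgroup.normalizer_eq_top_iff.2 hQn]
    exact hPN Q hQP hQ1
  have hidx : (P : Subgroup O).index ∣ 3 := by
    have h1 : (P : Subgroup O).index ∣ Nat.card O := Subgroup.index_dvd_card _
    have h2 := P.not_dvd_index
    have h3 : Nat.Coprime (P : Subgroup O).index 8 := by
      rw [show (8 : ℕ) = 2 ^ 3 by norm_num]
      exact Nat.Coprime.pow_right 3 ((Nat.Prime.coprime_iff_not_dvd Nat.prime_two).2 h2).symm
    exact h3.dvd_of_dvd_mul_right (show (P : Subgroup O).index ∣ 3 * 8 from h1.trans (by simpa using h24))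
  have hidx3 : (P : Subgroup O).index = 3 := by
    rcases (Nat.dvd_prime Nat.prime_three).1 hidx with h | h
    · exact absurd (Subgroup.index_eq_one.1 h ▸ inferInstance) hnormal
    · exact h
  have hsyl : Nat.card (Sylow 2 O) ≤ 3 := Nat.le_of_dvd (by norm_num) (hidx3 ▸ P.card_dvd_index)
  set K := (MulAction.toPermHom O (Sylow 2 O)).ker with hK
  have hKn : ∀ k ∈ K, ∀ Q : Sylow 2 O, k ∈ Subgroup.normalizer ((Q : Subgroup O) : Set O) := by
    intro k hk Q
    exact Sylow.smul_eq_iff_mem_normalizer.1 (Equiv.ext_iff.1 (MonoidHom.mem_ker.1 hk) Q)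
  have hKodd : ¬ 2 ∣ Nat.card K := by
    intro h
    obtain ⟨k, hk⟩ := exists_prime_orderOf_dvd_card' 2 h
    let C : Subgroup O := ⨅ Q : Sylow 2 O, (Q : Subgroup O)
    have hCn : C.Normal := ⟨fun x hx g => by
      rw [Subgroup.mem_iInf] at hx ⊢
      intro Q
      have h1 := hx (g⁻¹ • Q)
      rw [Sylow.coe_subgroup_smul, Subgroup.mem_pointwise_smul_iff_inv_smul_mem] at h1
      simpa using h1⟩
    have hCp : IsPGroup 2 C := P.2.to_le (iInf_le (fun Q : Sylow 2 O => (Q : Subgroup O)) P)
    have hkC : (k : O) ∈ C := by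
      rw [Subgroup.mem_iInf]
      intro Q
      have hz : IsPGroup 2 (Subgroup.zpowers (k : O)) :=
        IsPGroup.of_card (n := 1) (by rw [Nat.card_zpowers, Subgroup.orderOf_coe, hk, pow_one])
      have h1 := hz.inf_normalizer_sylow Q
      have h2 : (k : O) ∈ Subgroup.zpowers (k : O) ⊓ Subgroup.normalizer ((Q : Subgroup O) : Set O) :=
        ⟨Subgroup.mem_zpowers _, hKn k k.2 Q⟩
      exact (h1.le h2).2
    rw [hcore C hCn hCp, Subgroup.mem_bot] at hkC
    rw [show k = 1 from Subtype.ext hkC, orderOf_one] at hk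
    norm_num at hk
  have hK1 : K = ⊥ := by
    by_contra hne
    have hKd : Nat.card K ∣ 3 :=
      (Nat.Coprime.pow_right 3 ((Nat.Prime.coprime_iff_not_dvd Nat.prime_two).2 hKodd).symm
        ).dvd_of_dvd_mul_right (show Nat.card K ∣ 3 * 2 ^ 3 from
          (Subgroup.card_subgroup_dvd_card K).trans (by simpa using h24))
    have hK3 : Nat.card K = 3 := by
      rcases (Nat.dvd_prime Nat.prime_three).1 hKd with h | h
      · exact absurd (Subgroup.card_eq_one.1 h) hne
      · exact h
    apply hnormal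
    rw [← Subgroup.normalizer_eq_top_iff, ← Subgroup.card_eq_iff_eq_top]
    set N := Subgroup.normalizer ((P : Subgroup O) : Set O)
    have hPN' : Nat.card (P : Subgroup O) ∣ Nat.card N :=
      Subgroup.card_dvd_of_le Subgroup.le_normalizer
    have hKN : Nat.card K ∣ Nat.card N := Subgroup.card_dvd_of_le fun k hk => hKn k hk P
    obtain ⟨a, ha⟩ := IsPGroup.iff_card.1 P.2
    have htot := (P : Subgroup O).card_mul_index
    rw [hidx3, ha] at htot
    rw [ha] at hPN'
    rw [hK3] at hKN
    refine Nat.dvd_antisymm (Subgroup.card_subgroup_dvd_card N) ?_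
    rw [← htot]
    exact Nat.Coprime.mul_dvd_of_dvd_of_dvd (Nat.Coprime.pow_left a (by norm_num)) hPN' hKN
  have hfact : Nat.card O ∣ 6 := by
    have h1 := Subgroup.card_dvd_of_injective (MulAction.toPermHom O (Sylow 2 O))
      ((MonoidHom.ker_eq_bot_iff _).1 hK1)
    rw [Nat.card_perm] at h1
    refine h1.trans ?_
    have : (Nat.card (Sylow 2 O)).factorial ∣ (3).factorial := Nat.factorial_dvd_factorial hsyl
    simpa [Nat.factorial] using this
  have h6 : Nat.card O = 6 := by
    have h1 : (P : Subgroup O).index ∣ Nat.card O := Subgroup.index_dvd_card _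
    rw [hidx3] at h1
    exact Nat.dvd_antisymm hfact (Nat.Coprime.mul_dvd_of_dvd_of_dvd (by norm_num : Nat.Coprime 2 3) hev h1)
  refine ⟨h6, fun x y hx hy hxy => ?_⟩
  have h1 : orderOf (x * y) = 6 := by
    rw [Commute.orderOf_mul_eq_mul_orderOf_of_coprime hxy (by rw [hx, hy]; norm_num), hx, hy]
  haveI : IsCyclic O := isCyclic_of_orderOf_eq_card (x * y) (by rw [h1, h6])
  exact hnormal (Subgroup.normal_of_comm _)

/-- An element of order three inverted by an element of a Sylow 2-subgroup. -/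
theorem exists_inverted {A : Type*} [Group A] [Finite A] (I : Subgroup A) [I.Normal]
    (hI : IsPGroup 2 I) (h6 : Nat.card (A ⧸ I) = 6)
    (hnc : ∀ x y : A ⧸ I, orderOf x = 2 → orderOf y = 3 → x * y ≠ y * x) (T : Sylow 2 A) :
    ∃ α σ : A, α ^ 3 = 1 ∧ α ≠ 1 ∧ σ ∈ (T : Subgroup A) ∧ σ ∉ I ∧ σ * α * σ⁻¹ = α⁻¹ ∧
      ∀ t ∈ (T : Subgroup A), t ∈ I ∨ σ⁻¹ * t ∈ I := by
  classical
  haveI : Fact (Nat.Prime 2) := ⟨Nat.prime_two⟩
  haveI : Fact (Nat.Prime 3) := ⟨Nat.prime_three⟩
  obtain ⟨k, hk⟩ := IsPGroup.iff_card.1 hI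
  have hA : Nat.card A = 6 * 2 ^ k := by
    rw [Subgroup.card_eq_card_quotient_mul_card_subgroup I, h6, hk]
  have hIT : I ≤ (T : Subgroup A) := by
    rw [← T.is_maximal' (hI.to_sup_of_normal_left T.2) le_sup_right]
    exact le_sup_left
  set π := QuotientGroup.mk' I
  set Tb := (T : Subgroup A).map π with hTb
  have hT2 : Nat.card Tb = 2 := by
    have hsurj := QuotientGroup.mk'_surjective I
    have h1 : Nat.card Tb ∣ 6 := h6 ▸ Subgroup.card_subgroup_dvd_card Tb
    obtain ⟨j, hj⟩ := IsPGroup.iff_card.1 (T.2.map π)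
    have h2 : ¬ 2 ∣ Tb.index := by
      intro h
      refine T.not_dvd_index (h.trans ?_)
      exact Subgroup.index_map_dvd _ hsurj
    have h3 := Tb.card_mul_index
    rw [h6, hj] at h3
    rw [hj] at h1 ⊢
    have hj1 : j ≤ 1 := by
      by_contra hc
      push Not at hc
      have : (2 : ℕ) ^ 2 ∣ 6 := (pow_dvd_pow 2 hc).trans h1
      norm_num at this
    interval_cases j
    · exfalso; exact h2 (by rw [pow_zero, one_mul] at h3; rw [h3]; norm_num)
    · norm_num
  obtain ⟨⟨tb, htb⟩, htb1⟩ : ∃ x : Tb, x ≠ 1 := by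
    by_contra h
    push Not at h
    have := Nat.card_eq_one_iff_exists.2 ⟨(1 : Tb), h⟩
    omega
  obtain ⟨τ, hτ, rfl⟩ := htb
  have hτI : τ ∉ I := fun h => htb1 (Subtype.ext ((QuotientGroup.eq_one_iff τ).2 h))
  have hall : ∀ x ∈ Tb, x = 1 ∨ x = π τ := by
    intro x hx
    by_contra h
    push Not at h
    haveI := Fintype.ofFinite Tb
    have h3 := Finset.card_le_univ
      ({1, ⟨π τ, ⟨τ, hτ, rfl⟩⟩, ⟨x, hx⟩} : Finset Tb)
    rw [← Nat.card_eq_fintype_card, hT2, Finset.card_insert_of_notMem, Finset.card_insert_of_notMem,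
      Finset.card_singleton] at h3
    · omega
    · rw [Finset.mem_singleton]; exact fun e => h.2 (congrArg Subtype.val e).symm
    · simp only [Finset.mem_insert, Finset.mem_singleton]
      rintro (e | e)
      · exact hτI ((QuotientGroup.eq_one_iff τ).1 (congrArg Subtype.val e).symm)
      · exact h.1 (congrArg Subtype.val e).symm
  have hτ2 : orderOf (π τ) = 2 := by
    have hd0 := orderOf_dvd_natCard (⟨π τ, ⟨τ, hτ, rfl⟩⟩ : Tb)
    rw [hT2, ← Subgroup.orderOf_coe] at hd0
    have hd : orderOf (π τ) ∣ 2 := hd0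
    rcases (Nat.dvd_prime Nat.prime_two).1 hd with h | h
    · exact absurd ((QuotientGroup.eq_one_iff τ).1 (orderOf_eq_one_iff.1 h)) hτI
    · exact h
  obtain ⟨α, hα⟩ := exists_prime_orderOf_dvd_card' (G := A) 3 (by rw [hA]; exact Dvd.dvd.mul_right (by norm_num) _)
  have hα3 : α ^ 3 = 1 := hα ▸ pow_orderOf_eq_one α
  have hαI : α ∉ I := fun h => by
    have h1 : orderOf (⟨α, h⟩ : I) ∣ 2 ^ k := hk ▸ orderOf_dvd_natCard _
    rw [Subgroup.orderOf_mk, hα] at h1
    have := Nat.prime_three.dvd_of_dvd_pow h1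
    norm_num at this
  have hπα : orderOf (π α) = 3 := by
    have hd : orderOf (π α) ∣ 3 := hα ▸ orderOf_map_dvd π α
    rcases (Nat.dvd_prime Nat.prime_three).1 hd with h | h
    · exact absurd ((QuotientGroup.eq_one_iff α).1 (orderOf_eq_one_iff.1 h)) hαI
    · exact h
  set Lb := Subgroup.zpowers (π α) with hLb
  have hLidx : Lb.index = 2 := by
    have h := Lb.card_mul_index
    rw [hLb] at h ⊢
    rw [Nat.card_zpowers, hπα, h6] at h
    omega
  haveI : Lb.Normal := Subgroup.normal_of_index_eq_two hLidx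
  set L := Lb.comap π with hL
  have hLcard : Nat.card L = 3 * 2 ^ k := by
    have h := L.card_mul_index
    rw [hL] at h ⊢
    rw [Subgroup.index_comap_of_surjective _ (QuotientGroup.mk'_surjective I), hLidx, hA] at h
    omega
  have hαL : α ∈ L := Subgroup.mem_zpowers (π α)
  set β := τ * α * τ⁻¹ with hβ
  have hβL : β ∈ L := by
    show π β ∈ Lb
    rw [hβ, map_mul, map_mul, map_inv]
    exact (inferInstance : Lb.Normal).conj_mem _ (Subgroup.mem_zpowers (π α)) (π τ)
  have hβ3 : orderOf β = 3 :=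
    (orderOf_injective (MulAut.conj τ).toMonoidHom (MulAut.conj τ).injective α).trans hα
  have hsyl : ∀ γ : A, orderOf γ = 3 → ∀ hγ : γ ∈ L, ∃ Q : Sylow 3 L,
      (Q : Subgroup L) = Subgroup.zpowers ⟨γ, hγ⟩ := by
    intro γ hγ3 hγ
    have hzc : Nat.card (Subgroup.zpowers (⟨γ, hγ⟩ : L)) = 3 := by
      rw [Nat.card_zpowers, Subgroup.orderOf_mk, hγ3]
    obtain ⟨Q, hQ⟩ := (IsPGroup.of_card (n := 1) (by rw [hzc, pow_one]) :
      IsPGroup 3 (Subgroup.zpowers (⟨γ, hγ⟩ : L))).exists_le_sylow
    refine ⟨Q, (Subgroup.eq_of_le_of_card_ge hQ ?_).symm⟩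
    obtain ⟨e, he⟩ := IsPGroup.iff_card.1 Q.2
    have hd : Nat.card (Q : Subgroup L) ∣ 3 * 2 ^ k := hLcard ▸ Subgroup.card_subgroup_dvd_card _
    rw [he] at hd ⊢
    have hd' := Nat.Coprime.dvd_of_dvd_mul_right
      (Nat.Coprime.pow e k (by norm_num : Nat.Coprime 3 2)) hd
    rw [hzc]
    exact Nat.le_of_dvd (by norm_num) hd'
  obtain ⟨P1, hP1⟩ := hsyl α hα hαL
  obtain ⟨P2, hP2⟩ := hsyl β hβ3 hβL
  obtain ⟨x, hx⟩ := MulAction.exists_smul_eq L P1 P2
  have hxα : (x : A) * α * (x : A)⁻¹ ∈ Subgroup.zpowers β := by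
    have h1 : x * ⟨α, hαL⟩ * x⁻¹ ∈ ((x • P1 : Sylow 3 L) : Subgroup L) := by
      rw [Sylow.coe_subgroup_smul]
      exact Subgroup.smul_mem_pointwise_smul _ (MulAut.conj x) _ (hP1 ▸ Subgroup.mem_zpowers _)
    rw [hx, hP2] at h1
    obtain ⟨m, hm⟩ := h1
    exact ⟨m, by simpa using congrArg Subtype.val hm⟩
  obtain ⟨e, he : π α ^ e = π x⟩ := x.2
  set i := (x : A) * (α ^ e)⁻¹ with hi
  have hiI : i ∈ I := by
    rw [← QuotientGroup.eq_one_iff]
    show π i = 1
    rw [hi, map_mul, map_inv, map_zpow, he, mul_inv_cancel]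
  have hiα : i * α * i⁻¹ ∈ Subgroup.zpowers β := by
    have e1 : i * α * i⁻¹ = (x : A) * α * (x : A)⁻¹ := by
      rw [hi]
      calc (x : A) * (α ^ e)⁻¹ * α * ((x : A) * (α ^ e)⁻¹)⁻¹
          = (x : A) * ((α ^ e)⁻¹ * α * α ^ e) * (x : A)⁻¹ := by group
        _ = _ := by rw [show (α ^ e)⁻¹ * α * α ^ e = α by group]
    rwa [e1]
  set σ := τ⁻¹ * i with hσ
  have hσT : σ ∈ (T : Subgroup A) := mul_mem (inv_mem hτ) (hIT hiI)
  have hπi : π i = 1 := (QuotientGroup.eq_one_iff i).2 hiI
  have hπσ : π σ = π τ := by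
    rw [hσ, map_mul, hπi, mul_one, map_inv]
    exact inv_eq_of_mul_eq_one_right (by rw [← pow_two, ← hτ2, pow_orderOf_eq_one])
  have hσI : σ ∉ I := fun h =>
    hτI ((QuotientGroup.eq_one_iff τ).1 (hπσ.symm.trans ((QuotientGroup.eq_one_iff σ).2 h)))
  have hσα : σ * α * σ⁻¹ ∈ Subgroup.zpowers α := by
    obtain ⟨m, hm : β ^ m = i * α * i⁻¹⟩ := hiα
    refine ⟨m, ?_⟩
    show α ^ m = _
    have e1 : β ^ m = τ * α ^ m * τ⁻¹ := by rw [hβ, conj_zpow]
    calc α ^ m = τ⁻¹ * (τ * α ^ m * τ⁻¹) * τ := by group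
      _ = τ⁻¹ * (i * α * i⁻¹) * τ := by rw [← e1, hm]
      _ = _ := by rw [hσ]; group
  refine ⟨α, σ, hα3, fun h => hαI (h ▸ one_mem I), hσT, hσI, ?_, fun t ht => ?_⟩
  · obtain ⟨m, hm : α ^ m = σ * α * σ⁻¹⟩ := hσα
    have hmod : α ^ m = α ^ (m % 3) := by
      rw [← Int.emod_add_mul_ediv m 3, zpow_add, zpow_mul, show α ^ (3 : ℤ) = α ^ (3 : ℕ) from
        zpow_natCast α 3, hα3, one_zpow, mul_one, Int.add_mul_emod_self_left, Int.emod_emod]
    have h0 : m % 3 = 0 ∨ m % 3 = 1 ∨ m % 3 = 2 := by omega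
    rcases h0 with h | h | h <;> rw [hmod, h] at hm
    · rw [zpow_zero] at hm
      exact absurd (conj_eq_one_iff.1 hm.symm) fun e => hαI (e ▸ one_mem I)
    · rw [zpow_one] at hm
      refine absurd ?_ (hnc (π τ) (π α) hτ2 hπα)
      rw [← hπσ, ← map_mul, ← map_mul]
      exact congrArg π (mul_inv_eq_iff_eq_mul.1 hm.symm)
    · rw [← hm]
      refine (inv_eq_of_mul_eq_one_right ?_).symm
      rw [show α ^ (2 : ℤ) = α ^ (2 : ℕ) from zpow_natCast α 2, ← pow_succ', hα3]
  · rcases hall (π t) ⟨t, ht, rfl⟩ with h | h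
    · exact Or.inl ((QuotientGroup.eq_one_iff t).1 h)
    · exact Or.inr (QuotientGroup.eq.1 (hπσ.trans h.symm))

end Embedded

end Cfsg.Agent.Bicyclic2
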