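import Cfsg.Agent.Lib.Bicyclic2.Structure
import Cfsg.Agent.Lib.Bicyclic2.LemmaV
import Cfsg.Agent.Lib.Bicyclic2.Model
import Mathlib.Tactic.LinearCombination
import Mathlib.RingTheory.Coprime.Lemmas
import Mathlib.RingTheory.Int.Basic

/-!
A bicyclic non-metacyclic 2-group with cyclic derived subgroup contains the configuration
`E = Q⟨w⟩`, `g`.
-/

set_option autoImplicit false

namespace Cfsg.Agent.Bicyclic2

open scoped commutatorElement
open Cfsg.Agent

theorem dvd_of_mul_odd {ν : ℕ} {u v : ℤ} (hv : ¬ (2 : ℤ) ∣ v) (h : (2 : ℤ) ^ ν ∣ u * v) :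
    (2 : ℤ) ^ ν ∣ u :=
  IsCoprime.dvd_of_dvd_mul_right
    (IsCoprime.pow_left ((Int.prime_two.coprime_iff_not_dvd).2 hv)) h

/-- Transport of a configuration from the group `↥S` into `Ω`. -/
theorem Setup.coe {Ω : Type*} [Group Ω] {S : Subgroup Ω} {x y w g : ↥S}
    (D : Setup (⊤ : Subgroup ↥S) x y w g) : Setup S (x : Ω) (y : Ω) (w : Ω) (g : Ω) := by
  have hcl : ∀ h : ↥S, (h : Ω) ∈ Subgroup.closure ({(x : Ω), (y : Ω), (w : Ω)} : Set Ω) ↔
      h ∈ Subgroup.closure ({x, y, w} : Set ↥S) := by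
    intro h
    have e : (Subgroup.closure ({x, y, w} : Set ↥S)).map S.subtype =
        Subgroup.closure ({(x : Ω), (y : Ω), (w : Ω)} : Set Ω) := by
      rw [MonoidHom.map_closure]
      simp [Set.image_insert_eq, Set.image_singleton]
    rw [← e]
    exact Subgroup.mem_map_iff_mem S.subtype_injective
  have hcoe : ∀ {p q : ↥S}, p = q → (p : Ω) = (q : Ω) := fun h => congrArg Subtype.val h
  exact
    { rel :=
        { wx := congrArg Subtype.val D.rel.wx.eq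
          wy := congrArg Subtype.val D.rel.wy.eq
          x4 := congrArg Subtype.val D.rel.x4
          yy := congrArg Subtype.val D.rel.yy
          yx := congrArg Subtype.val D.rel.yx }
      xS := x.2
      yS := y.2
      wS := w.2
      gS := g.2
      zc := fun h hh => congrArg Subtype.val (D.zc ⟨h, hh⟩ (Subgroup.mem_top _)).eq
      indep := fun i j k e => D.indep i j k (Subtype.ext (by simpa using e))
      gw := congrArg Subtype.val D.gw
      gy := congrArg Subtype.val D.gy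
      gx := D.gx.imp (fun e => congrArg Subtype.val e) (fun e => congrArg Subtype.val e)
      cent := fun h hh h1 h2 h3 => (hcl ⟨h, hh⟩).2 (D.cent ⟨h, hh⟩ (Subgroup.mem_top _)
        (Subtype.ext h1.eq) (Subtype.ext h2.eq) (Subtype.ext h3.eq))
      norm := fun h hh hn => by
        have hn' : (⟨h, hh⟩ : ↥S) ∈
            Subgroup.normalizer (Subgroup.closure ({x, y, w} : Set ↥S) : Set ↥S) := by
          rw [Subgroup.mem_normalizer_iff] at hn ⊢
          intro t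
          have h1 := hn (t : Ω)
          rw [hcl] at h1
          exact h1.trans ((hcl (⟨h, hh⟩ * t * ⟨h, hh⟩⁻¹)))
        rcases D.norm ⟨h, hh⟩ (Subgroup.mem_top _) hn' with e | e
        · exact Or.inl ((hcl ⟨h, hh⟩).2 e)
        · exact Or.inr ((hcl (g⁻¹ * ⟨h, hh⟩)).2 e) }

variable {G : Type*} [Group G] [Finite G]

/-- Parameters of a bicyclic group with cyclic derived subgroup. -/
structure Params (a b c w : G) (r : ℕ) (f s : ℤ) (ν : ℕ) : Prop where
  ab : a * b * a⁻¹ = c * b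
  bc : b * c * b⁻¹ = c⁻¹
  ac : a * c * a⁻¹ = c ^ f
  two_s : 2 * s = -(1 + f)
  wdef : w = c ^ s * (a * a)
  order : orderOf c = 2 ^ (ν + 1)
  bb : b * b = 1 ∨ b * b = c ^ ((2 : ℤ) ^ ν) ∧ 1 ≤ ν
  normal : (Subgroup.zpowers c).Normal
  gen : ∀ h : G, ∃ i j e : ℤ, h = c ^ i * a ^ j * b ^ e
  two_le : 2 ≤ r
  lin : ∀ i l j : ℤ, c ^ i * w ^ l * b ^ j = 1 → 2 ∣ j ∧ (2 : ℤ) ^ r ∣ 2 * l ∧ 2 ∣ i + s * l

/-- The parameters exist. -/
theorem exists_params (hG : IsPGroup 2 G) (hgen : Gen2 (⊤ : Subgroup G))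
    (hΦ : Gen2 (frattini G)) (hm : ¬ Cfsg.IsMetacyclic G) (hcyc : IsCyclic ↥(commutator G)) :
    ∃ (a b c w : G) (r : ℕ) (f s : ℤ) (ν : ℕ), Params a b c w r f s ν := by
  haveI : Fact (Nat.Prime 2) := ⟨Nat.prime_two⟩
  obtain ⟨N, hNn, a, b, r, s0, hN, hab, hW⟩ := exists_frame hG hgen hm
  obtain rfl : s0 = 1 := s_eq_one hG hΦ hN hab hW
  set c := ⁅a, b⁆ with hc
  have hcW : ((c : G) : G ⧸ N) = ⁅(a : G ⧸ N), (b : G ⧸ N)⁆ :=
    map_commutatorElement (QuotientGroup.mk' N) a b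
  have hcmem : c ∈ commutator G :=
    Subgroup.commutator_mem_commutator (Subgroup.mem_top a) (Subgroup.mem_top b)
  haveI hcn : (Subgroup.zpowers c).Normal := by
    obtain ⟨d, hd⟩ := (Subgroup.isCyclic_iff_exists_zpowers_eq_top (commutator G)).1 hcyc
    refine ⟨fun t ht h => ?_⟩
    obtain ⟨i, rfl⟩ := ht
    obtain ⟨k, hk⟩ : c ∈ Subgroup.zpowers d := hd.ge hcmem
    obtain ⟨m, hm'⟩ : h * d * h⁻¹ ∈ Subgroup.zpowers d := hd.ge
      ((inferInstance : (commutator G).Normal).conj_mem d (hd.le (Subgroup.mem_zpowers d)) h)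
    refine ⟨m * i, ?_⟩
    have hk' : d ^ k = c := hk
    have hm'' : d ^ m = h * d * h⁻¹ := hm'
    show c ^ (m * i) = h * c ^ i * h⁻¹
    rw [← conj_zpow, ← hk', ← conj_zpow, ← hm'', ← zpow_mul, ← zpow_mul, ← zpow_mul]
    congr 1; ring
  have hcomm_le : commutator G ≤ Subgroup.zpowers c :=
    commutator_le_of_mem hab (Subgroup.mem_zpowers c)
  obtain ⟨n0, hn0⟩ := hG c
  obtain ⟨e0, -, he0⟩ := (Nat.dvd_prime_pow Nat.prime_two).1 (orderOf_dvd_of_pow_eq_one hn0)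
  have hc1 : c ≠ 1 := fun e => hW.ne (by rw [← hcW, e]; rfl)
  obtain ⟨ν, rfl⟩ : ∃ ν, e0 = ν + 1 := by
    cases e0 with
    | zero => exact absurd (orderOf_eq_one_iff.1 (by rw [he0, pow_zero])) hc1
    | succ ν => exact ⟨ν, rfl⟩
  have heven : ∀ i : ℤ, c ^ i = 1 → (2 : ℤ) ^ (ν + 1) ∣ i := fun i hi => by
    have := orderOf_dvd_iff_zpow_eq_one.2 hi
    rw [he0] at this
    exact_mod_cast this
  have heq : ∀ i : ℤ, (2 : ℤ) ^ (ν + 1) ∣ i → c ^ i = 1 := fun i hi => by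
    apply orderOf_dvd_iff_zpow_eq_one.1
    rw [he0]; exact_mod_cast hi
  -- coordinates
  have hNeven : ∀ k : ℤ, c ^ k ∈ N → 2 ∣ k := fun k hk =>
    (hW.coord 0 0 k (by
      simp [← hcW, ← QuotientGroup.mk_zpow, (QuotientGroup.eq_one_iff _).2 hk])).2.2
  have hbbN : b * b ∈ N := by
    rw [← QuotientGroup.eq_one_iff, QuotientGroup.mk_mul]
    have := hW.powB
    rwa [pow_one, pow_two] at this
  obtain ⟨f, hf⟩ : ∃ f : ℤ, c ^ f = a * c * a⁻¹ := hcn.conj_mem c (Subgroup.mem_zpowers c) a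
  obtain ⟨t, ht⟩ : ∃ t : ℤ, c ^ t = b * c * b⁻¹ := hcn.conj_mem c (Subgroup.mem_zpowers c) b
  obtain ⟨m2, hm2⟩ : ∃ m2 : ℤ, c ^ m2 = b * b := hcomm_le (hN hbbN)
  obtain ⟨m, rfl⟩ := hNeven m2 (by rw [hm2]; exact hbbN)
  have hab' : a * b * a⁻¹ = c * b := by rw [hc, commutatorElement_def]; group
  have hodd : ∀ (h : G) (u : ℤ), c ^ u = h * c * h⁻¹ → ¬ 2 ∣ u := by
    rintro h u hu ⟨u', rfl⟩
    have h1 : (c ^ (2 * u')) ^ ((2 : ℤ) ^ ν) = 1 := by
      rw [← zpow_mul]; exact heq _ ⟨u', by ring⟩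
    rw [hu, conj_zpow, conj_eq_one_iff] at h1
    have h2 := heven _ h1
    have h3 : (2 : ℤ) ^ (ν + 1) ≤ (2 : ℤ) ^ ν := Int.le_of_dvd (by positivity) h2
    have h4 : (2 : ℤ) ^ ν < (2 : ℤ) ^ (ν + 1) := pow_lt_pow_right₀ (by norm_num) (Nat.lt_succ_self ν)
    omega
  have hfodd := hodd a f hf
  have htodd := hodd b t ht
  have h1 : (2 : ℤ) ^ (ν + 1) ∣ 2 * m * f - (1 + t + 2 * m) := by
    refine heven _ ?_
    have e1 : c ^ (2 * m * f) = c ^ (1 + t + 2 * m) := by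
      calc c ^ (2 * m * f) = (c ^ f) ^ (2 * m) := by rw [← zpow_mul]; congr 1; ring
        _ = a * (b * b) * a⁻¹ := by rw [hf, conj_zpow, hm2]
        _ = (a * b * a⁻¹) * (a * b * a⁻¹) := by group
        _ = c * (b * c * b⁻¹) * (b * b) := by rw [hab']; group
        _ = _ := by rw [← ht, ← hm2, ← zpow_one_add, ← zpow_add]
    rw [zpow_sub, e1, mul_inv_cancel]
  have h2 : (2 : ℤ) ^ (ν + 1) ∣ 2 * m * t - 2 * m := by
    refine heven _ ?_
    have e1 : c ^ (2 * m * t) = c ^ (2 * m) := by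
      calc c ^ (2 * m * t) = (c ^ t) ^ (2 * m) := by rw [← zpow_mul]; congr 1; ring
        _ = b * (b * b) * b⁻¹ := by rw [ht, conj_zpow, hm2]
        _ = b * b := by group
        _ = _ := hm2.symm
    rw [zpow_sub, e1, mul_inv_cancel]
  obtain ⟨h4m, ht1⟩ : (2 : ℤ) ^ (ν + 1) ∣ 4 * m ∧ (2 : ℤ) ^ (ν + 1) ∣ t + 1 := by
    by_cases hν : ν = 0
    · subst hν
      norm_num
      exact ⟨⟨2 * m, by ring⟩, by omega⟩
    · obtain ⟨p, rfl⟩ : ∃ p, f = 2 * p + 1 := ⟨f / 2, by omega⟩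
      have h4 : (4 : ℤ) ∣ (2 : ℤ) ^ (ν + 1) :=
        ⟨(2 : ℤ) ^ (ν - 1), by rw [show ν + 1 = 2 + (ν - 1) by omega, pow_add]; norm_num⟩
      have e : 2 * m * (2 * p + 1) - (1 + t + 2 * m) = 4 * (m * p) - (1 + t) := by ring
      rw [e] at h1
      have ht4 : (4 : ℤ) ∣ 1 + t := by
        have := h4.trans h1
        omega
      obtain ⟨q, hq⟩ : ∃ q, t - 1 = 2 * q := ⟨(t - 1) / 2, by omega⟩
      have hqodd : ¬ (2 : ℤ) ∣ q := by omega
      have h4m : (2 : ℤ) ^ (ν + 1) ∣ 4 * m := by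
        refine dvd_of_mul_odd hqodd ?_
        rwa [show 4 * m * q = 2 * m * (2 * q) by ring, ← hq, mul_sub, mul_one]
      refine ⟨h4m, ?_⟩
      have h5 : (2 : ℤ) ^ (ν + 1) ∣ 4 * (m * p) := by rw [← mul_assoc]; exact h4m.mul_right p
      have := dvd_sub h5 h1
      rwa [show 4 * (m * p) - (4 * (m * p) - (1 + t)) = t + 1 by ring] at this
  have hbc : b * c * b⁻¹ = c⁻¹ := by
    rw [← ht, ← mul_eq_one_iff_eq_inv, ← zpow_add_one]
    exact heq _ ht1
  obtain ⟨s, hs⟩ : ∃ s : ℤ, 2 * s = -(1 + f) := ⟨-((1 + f) / 2), by omega⟩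
  have hgen' : ∀ h : G, ∃ i j e : ℤ, h = c ^ i * a ^ j * b ^ e := by
    intro h
    set π := QuotientGroup.mk' (Subgroup.zpowers c)
    have hπ : Commute (π a) (π b) := by
      show π a * π b = π b * π a
      rw [← map_mul, ← map_mul]
      refine QuotientGroup.eq.2 (hcomm_le ?_)
      have e : (a * b)⁻¹ * (b * a) = ⁅b⁻¹, a⁻¹⁆ := by rw [commutatorElement_def]; group
      rw [e]
      exact Subgroup.commutator_mem_commutator (Subgroup.mem_top _) (Subgroup.mem_top _)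
    have hh : ∃ j e : ℤ, π h = π a ^ j * π b ^ e := by
      have : h ∈ Subgroup.closure ({a, b} : Set G) := hab ▸ Subgroup.mem_top h
      induction this using Subgroup.closure_induction with
      | mem t ht =>
        rcases ht with h' | h'
        · exact ⟨1, 0, by rw [show t = a from h']; simp⟩
        · exact ⟨0, 1, by rw [show t = b from h']; simp⟩
      | one => exact ⟨0, 0, by simp⟩
      | mul p q _ _ hp hq =>
        obtain ⟨j, e, hp⟩ := hp
        obtain ⟨j', e', hq⟩ := hq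
        refine ⟨j + j', e + e', ?_⟩
        rw [map_mul, hp, hq, zpow_add, zpow_add]
        calc π a ^ j * π b ^ e * (π a ^ j' * π b ^ e') = π a ^ j * (π b ^ e * π a ^ j') * π b ^ e' := by group
          _ = π a ^ j * (π a ^ j' * π b ^ e) * π b ^ e' := by rw [(hπ.symm.zpow_zpow e j').eq]
          _ = _ := by group
      | inv p _ hp =>
        obtain ⟨j, e, hp⟩ := hp
        refine ⟨-j, -e, ?_⟩
        rw [map_inv, hp, mul_inv_rev, zpow_neg, zpow_neg]
        exact ((hπ.symm.zpow_zpow e j).inv_inv).eq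
    obtain ⟨j, e, hh⟩ := hh
    obtain ⟨i, hi⟩ : h * (a ^ j * b ^ e)⁻¹ ∈ Subgroup.zpowers c := by
      rw [← QuotientGroup.eq_one_iff]
      show π _ = 1
      rw [map_mul, map_inv, map_mul, map_zpow, map_zpow, ← hh, mul_inv_cancel]
    exact ⟨i, j, e, by
      rw [show c ^ i = h * (a ^ j * b ^ e)⁻¹ from hi]; group⟩
  refine ⟨a, b, c, c ^ s * (a * a), r, f, s, ν,
    ⟨hab', hbc, hf.symm, hs, rfl, he0, ?_, hcn, hgen', hW.two_le, fun i l j e => ?_⟩⟩
  · by_cases hb : b * b = 1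
    · exact Or.inl hb
    · refine Or.inr ?_
      obtain ⟨q, hq⟩ := h4m
      by_cases hν : ν = 0
      · exact absurd (by rw [← hm2]; exact heq _ (by rw [hν]; exact ⟨m, by ring⟩)) hb
      refine ⟨?_, by omega⟩
      rw [← hm2]
      have e1 : 2 * m = (2 : ℤ) ^ ν * q := by
        have : 4 * m = 2 * ((2 : ℤ) ^ ν * q) := by rw [hq, pow_succ]; ring
        omega
      rcases Int.even_or_odd q with ⟨q', rfl⟩ | ⟨q', rfl⟩
      · exfalso
        refine hb ?_
        rw [← hm2, e1]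
        exact heq _ ⟨q', by ring⟩
      · rw [e1, show (2 : ℤ) ^ ν * (2 * q' + 1) = (2 : ℤ) ^ (ν + 1) * q' + (2 : ℤ) ^ ν by ring,
          zpow_add, heq _ (dvd_mul_right _ _), one_mul]
  · set π := QuotientGroup.mk' N
    have hec : ∀ v : G ⧸ N, Commute v (π c) := fun v => by
      rw [show π c = ⁅(a : G ⧸ N), (b : G ⧸ N)⁆ from hcW]; exact hW.central v
    have hπw : π (c ^ s * (a * a)) ^ l = π a ^ (2 * l) * π c ^ (s * l) := by
      have h1 : π (c ^ s * (a * a)) = π a ^ (2 : ℤ) * π c ^ s := by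
        rw [map_mul, map_mul, map_zpow, zpow_two, ((hec (π a * π a)).zpow_right s).eq]
      rw [h1, ((hec _).zpow_right s).mul_zpow, ← zpow_mul, ← zpow_mul]
    have e' : (a : G ⧸ N) ^ (2 * l) * (b : G ⧸ N) ^ j * ⁅(a : G ⧸ N), (b : G ⧸ N)⁆ ^ (i + s * l) = 1 := by
      rw [← hcW]
      show π a ^ (2 * l) * π b ^ j * π c ^ (i + s * l) = 1
      have := congrArg π e
      rw [map_mul, map_mul, map_one, map_zpow, map_zpow, map_zpow, hπw] at this
      rw [← this, zpow_add]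
      have hci : ∀ v : G ⧸ N, ∀ k : ℤ, Commute v (π c ^ k) := fun v k => (hec v).zpow_right k
      calc π a ^ (2 * l) * π b ^ j * (π c ^ i * π c ^ (s * l))
          = (π a ^ (2 * l) * π b ^ j * π c ^ i) * π c ^ (s * l) := by group
        _ = π c ^ i * (π a ^ (2 * l) * π b ^ j) * π c ^ (s * l) := by rw [(hci _ i).eq]
        _ = π c ^ i * (π a ^ (2 * l) * (π b ^ j * π c ^ (s * l))) := by group
        _ = _ := by rw [(hci (π b ^ j) (s * l)).eq]; group
    obtain ⟨hi2, hj2, hk2⟩ := hW.coord _ _ _ e'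
    exact ⟨by simpa using hj2, hi2, hk2⟩

namespace Params

variable {a b c w : G} {r ν : ℕ} {f s : ℤ} (P : Params a b c w r f s ν)
include P

theorem cpow {i j : ℤ} : c ^ i = c ^ j ↔ (2 : ℤ) ^ (ν + 1) ∣ i - j := by
  rw [← mul_inv_eq_one, ← zpow_sub, ← orderOf_dvd_iff_zpow_eq_one, P.order]
  push_cast
  rfl

theorem b_cpow (i : ℤ) : b * c ^ i = c ^ (-i) * b := by
  have h : b * c ^ i * b⁻¹ = c ^ (-i) := by rw [← conj_zpow, P.bc, inv_zpow, zpow_neg]
  exact mul_inv_eq_iff_eq_mul.1 h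

theorem conj_b (i : ℤ) : c ^ i * b * (c ^ i)⁻¹ = c ^ (2 * i) * b := by
  rw [← zpow_neg, mul_assoc, P.b_cpow, neg_neg, ← mul_assoc, ← zpow_add, two_mul]

theorem a_cpow (i : ℤ) : a * c ^ i * a⁻¹ = c ^ (f * i) := by
  rw [← conj_zpow, P.ac, ← zpow_mul]

theorem w_b : Commute w b := by
  have h1 : a * a * b * (a * a)⁻¹ = c ^ (1 + f) * b := by
    calc a * a * b * (a * a)⁻¹ = a * (a * b * a⁻¹) * a⁻¹ := by group
      _ = a * (c * b) * a⁻¹ := by rw [P.ab]
      _ = (a * c ^ (1 : ℤ) * a⁻¹) * (a * b * a⁻¹) := by group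
      _ = c ^ f * (c * b) := by rw [P.a_cpow, P.ab, mul_one]
      _ = _ := by rw [← mul_assoc, ← zpow_add_one, add_comm]
  have h2 : w * b * w⁻¹ = b := by
    calc w * b * w⁻¹ = c ^ s * (a * a * b * (a * a)⁻¹) * (c ^ s)⁻¹ := by rw [P.wdef]; group
      _ = c ^ (1 + f) * (c ^ s * b * (c ^ s)⁻¹) := by rw [h1]; group
      _ = c ^ (1 + f + 2 * s) * b := by rw [P.conj_b, ← mul_assoc, ← zpow_add]
      _ = b := by rw [P.two_s, add_neg_cancel, zpow_zero, one_mul]
  exact mul_inv_eq_iff_eq_mul.1 h2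

theorem w_cpow (i : ℤ) : w * c ^ i * w⁻¹ = c ^ (f * f * i) := by
  calc w * c ^ i * w⁻¹ = c ^ s * (a * (a * c ^ i * a⁻¹) * a⁻¹) * (c ^ s)⁻¹ := by rw [P.wdef]; group
    _ = _ := by rw [P.a_cpow, P.a_cpow, ← zpow_add, ← zpow_neg, ← zpow_add]; congr 1; ring

theorem w_comm_cpow {i : ℤ} (h : (2 : ℤ) ^ (ν + 1) ∣ (f * f - 1) * i) : Commute w (c ^ i) := by
  have h1 : w * c ^ i * w⁻¹ = c ^ i := by
    rw [P.w_cpow, P.cpow]
    rwa [show f * f * i - i = (f * f - 1) * i by ring]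
  exact mul_inv_eq_iff_eq_mul.1 h1

theorem f_odd : ¬ 2 ∣ f := by have := P.two_s; omega

theorem eight_dvd : (8 : ℤ) ∣ f * f - 1 := by
  obtain ⟨p, rfl⟩ : ∃ p, f = 2 * p + 1 := ⟨f / 2, by have := P.f_odd; omega⟩
  obtain ⟨q, hq⟩ := Int.even_mul_succ_self p
  exact ⟨q, by linear_combination 4 * hq⟩

theorem a_w (hν : ν ≤ 1) : a * w * a⁻¹ = w := by
  have h1 : a * w * a⁻¹ = c ^ (f * s) * (a * a) := by
    calc a * w * a⁻¹ = (a * c ^ s * a⁻¹) * (a * a) := by rw [P.wdef]; group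
      _ = _ := by rw [P.a_cpow]
  have h2 : c ^ (f * s) = c ^ s := by
    rw [P.cpow]
    obtain ⟨p, hp⟩ : ∃ p, f = 2 * p + 1 := ⟨f / 2, by have := P.f_odd; omega⟩
    have hs : s = -(p + 1) := by have := P.two_s; omega
    obtain ⟨q, hq⟩ := Int.even_mul_succ_self p
    refine dvd_trans (pow_dvd_pow 2 (show ν + 1 ≤ 2 by omega)) ⟨-q, ?_⟩
    subst hs hp
    linear_combination (-2) * hq
  rw [h1, h2, ← P.wdef]

/-- The involution of `⟨c⟩` is central. -/
theorem central_of_sq {i : ℤ} (h : c ^ (2 * i) = 1) (v : G) : Commute v (c ^ i) := by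
  rw [← zpow_zero c, P.cpow, sub_zero, pow_succ'] at h
  have hi : (2 : ℤ) ^ ν ∣ i := Int.dvd_of_mul_dvd_mul_left (by norm_num) h
  obtain ⟨k, hk⟩ := hi
  obtain ⟨u, hu⟩ : ∃ u : ℤ, c ^ u = v * c * v⁻¹ := P.normal.conj_mem c (Subgroup.mem_zpowers c) v
  have hu2 : ¬ 2 ∣ u := by
    rintro ⟨u', rfl⟩
    have h1 : (c ^ (2 * u')) ^ ((2 : ℤ) ^ ν) = 1 := by
      rw [← zpow_mul, ← zpow_zero c, P.cpow]
      exact ⟨u', by ring⟩
    rw [hu, conj_zpow, conj_eq_one_iff, ← zpow_zero c, P.cpow, sub_zero] at h1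
    have h3 : (2 : ℤ) ^ (ν + 1) ≤ (2 : ℤ) ^ ν := Int.le_of_dvd (by positivity) h1
    have h4 : (2 : ℤ) ^ ν < (2 : ℤ) ^ (ν + 1) := pow_lt_pow_right₀ (by norm_num) (Nat.lt_succ_self ν)
    omega
  have h1 : v * c ^ i * v⁻¹ = c ^ i := by
    rw [← conj_zpow, ← hu, ← zpow_mul, P.cpow]
    obtain ⟨u', rfl⟩ : ∃ u', u = 2 * u' + 1 := ⟨u / 2, by omega⟩
    exact ⟨u' * k, by rw [hk]; ring⟩
  exact mul_inv_eq_iff_eq_mul.1 h1

/-- Normal forms. -/
theorem form (h : G) : ∃ (i l e : ℤ), h = c ^ i * w ^ l * b ^ e ∨ h = c ^ i * a * w ^ l * b ^ e := by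
  obtain ⟨i, j, e, rfl⟩ := P.gen h
  haveI := P.normal
  set π := QuotientGroup.mk' (Subgroup.zpowers c)
  have hev : ∀ q : ℤ, ∃ k : ℤ, a ^ (2 * q) = c ^ k * w ^ q := by
    intro q
    have h1 : a ^ (2 * q) * (w ^ q)⁻¹ ∈ Subgroup.zpowers c := by
      rw [← QuotientGroup.eq_one_iff]
      show π _ = 1
      have hw : π w = π (a * a) := by
        rw [P.wdef, map_mul, show π (c ^ s) = 1 from
          (QuotientGroup.eq_one_iff _).2 (Subgroup.zpow_mem_zpowers c s), one_mul]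
      rw [map_mul, map_inv, map_zpow, map_zpow, hw, zpow_mul, zpow_two, map_mul, mul_inv_cancel]
    obtain ⟨k, hk : c ^ k = a ^ (2 * q) * (w ^ q)⁻¹⟩ := h1
    exact ⟨k, by rw [hk]; group⟩
  rcases Int.even_or_odd j with ⟨q, rfl⟩ | ⟨q, rfl⟩
  · obtain ⟨k, hk⟩ := hev q
    refine ⟨i + k, q, e, Or.inl ?_⟩
    rw [← two_mul, hk, zpow_add]; group
  · obtain ⟨k, hk⟩ := hev q
    refine ⟨i + f * k, q, e, Or.inr ?_⟩
    rw [add_comm (2 * q), zpow_one_add, hk, zpow_add, ← P.a_cpow]; group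

theorem conj_form (h : G) : ∃ J : ℤ, h * b * h⁻¹ = c ^ J * b ∧
    (Commute h b → ∃ i l e : ℤ, c ^ (2 * i) = 1 ∧ h = c ^ i * w ^ l * b ^ e) := by
  obtain ⟨i, l, e, hh | hh⟩ := P.form h
  · have hc : Commute (w ^ l * b ^ e) b :=
      (P.w_b.zpow_left l).mul_left ((Commute.refl b).zpow_left e)
    have e1 : h * b * h⁻¹ = c ^ (2 * i) * b := by
      calc h * b * h⁻¹ = c ^ i * (w ^ l * b ^ e * b * (w ^ l * b ^ e)⁻¹) * (c ^ i)⁻¹ := by
            rw [hh]; group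
        _ = _ := by rw [hc.eq, mul_inv_cancel_right, P.conj_b]
    refine ⟨2 * i, e1, fun hb => ⟨i, l, e, ?_, hh⟩⟩
    rw [hb.eq, mul_inv_cancel_right] at e1
    exact mul_eq_right.1 e1.symm
  · have hc : Commute (w ^ l * b ^ e) b :=
      (P.w_b.zpow_left l).mul_left ((Commute.refl b).zpow_left e)
    have e1 : h * b * h⁻¹ = c ^ (2 * i + 1) * b := by
      calc h * b * h⁻¹ = c ^ i * (a * (w ^ l * b ^ e * b * (w ^ l * b ^ e)⁻¹) * a⁻¹) * (c ^ i)⁻¹ := by
            rw [hh]; group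
        _ = c ^ (1 : ℤ) * (c ^ i * b * (c ^ i)⁻¹) := by
            rw [hc.eq, mul_inv_cancel_right, P.ab]; group
        _ = _ := by rw [P.conj_b, ← mul_assoc, ← zpow_add, add_comm]
    refine ⟨2 * i + 1, e1, fun hb => ?_⟩
    exfalso
    rw [hb.eq, mul_inv_cancel_right] at e1
    have h2 : c ^ (2 * i + 1) = c ^ (0 : ℤ) := by rw [zpow_zero]; exact mul_eq_right.1 e1.symm
    rw [P.cpow, sub_zero] at h2
    have h3 : (2 : ℤ) ∣ 2 * i + 1 := (dvd_pow_self 2 (Nat.succ_ne_zero ν)).trans h2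
    omega

/-- The configuration, from its defining data. -/
theorem setup_of {k p : ℤ} {g : G}
    (hx4 : c ^ k * c ^ k * (c ^ k * c ^ k) = 1) (hyy : b * w ^ p * (b * w ^ p) = c ^ k * c ^ k)
    (hwx : Commute w (c ^ k)) (hz : ∀ i : ℤ, c ^ (2 * i) = 1 → c ^ i ∈ Subgroup.zpowers (c ^ k))
    (hind : ∀ i j l : ℤ, (c ^ k) ^ i * (b * w ^ p) ^ j * w ^ l = 1 → 2 ∣ i ∧ 2 ∣ j)
    (hgw : g * w * g⁻¹ = w) (hgb : g * b * g⁻¹ = c ^ k * b)
    (hgx : g * c ^ k * g⁻¹ = c ^ k ∨ g * c ^ k * g⁻¹ = (c ^ k)⁻¹) :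
    Setup (⊤ : Subgroup G) (c ^ k) (b * w ^ p) w g := by
  set x := c ^ k with hx
  set y := b * w ^ p with hy
  set E := Subgroup.closure ({x, y, w} : Set G) with hE
  have hxE : x ∈ E := Subgroup.subset_closure (by simp)
  have hyE : y ∈ E := Subgroup.subset_closure (by simp)
  have hwE : w ∈ E := Subgroup.subset_closure (by simp)
  have hbE : b ∈ E := by simpa [hy] using mul_mem hyE (inv_mem (zpow_mem hwE p))
  have hwy : Commute w y := P.w_b.mul_right (Commute.self_zpow w p)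
  have hrel : QRel x y w :=
    { wx := hwx
      wy := hwy
      x4 := hx4
      yy := hyy
      yx := by
        have h1 : y * x * y⁻¹ = b * (w ^ p * x * (w ^ p)⁻¹) * b⁻¹ := by rw [hy]; group
        rw [h1, (hwx.zpow_left p).eq, mul_inv_cancel_right, hx, ← conj_zpow, P.bc, inv_zpow] }
  have hcb : ∀ h : G, Commute h b → h ∈ E := fun h hb => by
    obtain ⟨J, -, hJ⟩ := P.conj_form h
    obtain ⟨i, l, e, hi, rfl⟩ := hJ hb
    exact mul_mem (mul_mem ((Subgroup.zpowers_le.2 hxE) (hz i hi)) (zpow_mem hwE l)) (zpow_mem hbE e)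
  have hxb : ∀ i : ℤ, x ^ i * b * (x ^ i)⁻¹ = x ^ (2 * i) * b := fun i => by
    rw [hx, ← zpow_mul, P.conj_b, ← zpow_mul]; congr 2; ring
  -- even exponents
  have heven : ∀ (h : G) (i : ℤ), h * b * h⁻¹ = x ^ (2 * i) * b → h ∈ E := fun h i e => by
    have h1 : (x ^ i)⁻¹ * h * b * ((x ^ i)⁻¹ * h)⁻¹ = b := by
      calc (x ^ i)⁻¹ * h * b * ((x ^ i)⁻¹ * h)⁻¹ = (x ^ i)⁻¹ * (h * b * h⁻¹) * x ^ i := by group
        _ = (x ^ i)⁻¹ * (x ^ i * b * (x ^ i)⁻¹) * x ^ i := by rw [e, hxb]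
        _ = b := by group
    have := mul_mem (zpow_mem hxE i) (hcb _ (mul_inv_eq_iff_eq_mul.1 h1))
    rwa [mul_inv_cancel_left] at this
  refine ⟨hrel, Subgroup.mem_top _, Subgroup.mem_top _, Subgroup.mem_top _, Subgroup.mem_top _,
    fun h _ => ?_, hind, hgw, ?_, hgx, fun h _ h1 h2 h3 => ?_, fun h _ hn => ?_⟩
  · rw [hx, ← zpow_add]
    refine P.central_of_sq ?_ h
    rw [two_mul, zpow_add, zpow_add]
    exact hx4
  · calc g * y * g⁻¹ = (g * b * g⁻¹) * (g * w * g⁻¹) ^ p := by rw [hy, conj_zpow]; group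
      _ = x * y := by rw [hgb, hgw, hy, mul_assoc]
  · refine hcb h ?_
    have : b = y * (w ^ p)⁻¹ := by rw [hy, mul_inv_cancel_right]
    rw [this]
    exact h2.mul_right (h3.zpow_right p).inv_right
  · obtain ⟨J, hJ, -⟩ := P.conj_form h
    have hcJ : c ^ J ∈ E := by
      have h1 : h * b * h⁻¹ ∈ E := (Subgroup.mem_normalizer_iff.1 hn b).1 hbE
      rw [hJ] at h1
      simpa using mul_mem h1 (inv_mem hbE)
    obtain ⟨i, hi⟩ : c ^ J ∈ Subgroup.zpowers x := by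
      obtain ⟨i, j, l, e⟩ := hrel.mem_closure_iff.1 hcJ
      have hj : 2 ∣ j := by
        refine (P.lin (J - k * i) (-(p * j + l)) (-j) ?_).1.trans ?_ |> fun h => (Int.dvd_neg).1 h
        · have hyj : y ^ j = b ^ j * w ^ (p * j) := by
            rw [hy, (P.w_b.symm.zpow_right p).mul_zpow, ← zpow_mul]
          rw [hyj, hx, ← zpow_mul] at e
          rw [zpow_sub, e, zpow_neg, zpow_neg, zpow_add]
          have hbw : ∀ u v : ℤ, Commute (b ^ u) (w ^ v) := fun u v =>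
            Commute.zpow_zpow P.w_b.symm u v
          calc c ^ (k * i) * (b ^ j * w ^ (p * j)) * w ^ l * (c ^ (k * i))⁻¹ *
                (w ^ (p * j) * w ^ l)⁻¹ * (b ^ j)⁻¹
              = c ^ (k * i) * (b ^ j * w ^ (p * j + l)) * (c ^ (k * i))⁻¹ *
                (w ^ (p * j + l))⁻¹ * (b ^ j)⁻¹ := by rw [zpow_add]; group
            _ = _ := by
              have hc : Commute (c ^ (k * i)) (b ^ j * w ^ (p * j + l)) := by
                refine Commute.mul_right ?_ ?_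
                · have hb2 : Commute (c ^ (k * i)) (c ^ J) := Commute.zpow_zpow (Commute.refl c) _ _
                  have e' : b ^ j = (c ^ (k * i))⁻¹ * c ^ J * (w ^ (p * j + l))⁻¹ := by
                    rw [e, zpow_add]; group
                  rw [e']
                  exact ((Commute.refl _).inv_right.mul_right hb2).mul_right
                    ((by rw [zpow_mul, ← hx]; exact (hwx.symm.zpow_left i).zpow_right _ :
                      Commute (c ^ (k * i)) (w ^ (p * j + l))).inv_right)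
                · rw [zpow_mul, ← hx]; exact (hwx.symm.zpow_left i).zpow_right _
              rw [hc.eq]
              group
        · exact dvd_rfl
      obtain ⟨q, rfl⟩ := hj
      have hy2 : y ^ (2 * q) = x ^ (2 * q) := by
        rw [zpow_mul, zpow_two, hrel.yy, zpow_mul, zpow_two]
      have e1 : c ^ (J - k * (i + 2 * q)) = w ^ l := by
        rw [zpow_sub, e, hy2, ← zpow_add, zpow_mul, ← hx]
        calc x ^ (i + 2 * q) * w ^ l * (x ^ (i + 2 * q))⁻¹
            = w ^ l * x ^ (i + 2 * q) * (x ^ (i + 2 * q))⁻¹ := by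
              rw [((hwx.symm.zpow_left _).zpow_right l).eq]
          _ = _ := by group
      have h2 : c ^ (2 * (J - k * (i + 2 * q))) = 1 := by
        have hb := P.w_b.zpow_left l
        rw [← e1] at hb
        have := P.conj_b (J - k * (i + 2 * q))
        rw [hb.eq, mul_inv_cancel_right] at this
        exact mul_eq_right.1 this.symm
      have h3 := mul_mem (hz _ h2) (zpow_mem (Subgroup.mem_zpowers x) (i + 2 * q))
      rwa [hx, ← zpow_mul, ← zpow_add, sub_add_cancel, ← hx] at h3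
    have hi' : x ^ i = c ^ J := hi
    rw [← hi'] at hJ
    rcases Int.even_or_odd i with ⟨q, rfl⟩ | ⟨q, rfl⟩
    · exact Or.inl (heven h q (by rw [hJ, two_mul]))
    · right
      have hgi : ∀ {eps : ℤ}, g⁻¹ * x * g = x ^ eps → ¬ 2 ∣ eps → g⁻¹ * h ∈ E := by
        intro eps he heps
        have hb' : g⁻¹ * b * g = x ^ (-eps) * b := by
          calc g⁻¹ * b * g = (g⁻¹ * x * g)⁻¹ * (g⁻¹ * (x * b) * g) := by group
            _ = (x ^ eps)⁻¹ * b := by rw [he, ← hgb]; group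
            _ = _ := by rw [zpow_neg]
        have hxi : ∀ u : ℤ, g⁻¹ * x ^ u * g = x ^ (eps * u) := fun u => by
          have h' := conj_zpow (a := g⁻¹) (b := x) (i := u)
          rw [inv_inv, he, ← zpow_mul] at h'
          exact h'.symm
        refine heven _ (eps * q) ?_
        calc g⁻¹ * h * b * (g⁻¹ * h)⁻¹ = g⁻¹ * (h * b * h⁻¹) * g := by group
          _ = (g⁻¹ * x ^ (2 * q + 1) * g) * (g⁻¹ * b * g) := by rw [hJ]; group
          _ = x ^ (eps * (2 * q + 1) + -eps) * b := by rw [hxi, hb', ← mul_assoc, ← zpow_add]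
          _ = _ := by congr 2; ring
      rcases hgx with e | e
      · exact hgi (eps := 1) (by
          rw [zpow_one]
          calc g⁻¹ * x * g = g⁻¹ * (g * x * g⁻¹) * g := by rw [e]
            _ = x := by group) (by norm_num)
      · exact hgi (eps := -1) (by
          rw [zpow_neg_one]
          calc g⁻¹ * x * g = g⁻¹ * (g * x * g⁻¹)⁻¹ * g := by rw [e, inv_inv]
            _ = x⁻¹ := by group) (by norm_num)

/-- The configuration exists. -/
theorem exists_setup : ∃ x y w' g : G, Setup (⊤ : Subgroup G) x y w' g := by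
  have h8 := P.eight_dvd
  have hzero : ∀ i : ℤ, c ^ i = 1 ↔ (2 : ℤ) ^ (ν + 1) ∣ i := fun i => by
    rw [← zpow_zero c, P.cpow, sub_zero]
  have hdvdν : ∀ i : ℤ, c ^ (2 * i) = 1 → (2 : ℤ) ^ ν ∣ i := fun i h => by
    rw [hzero, pow_succ'] at h
    exact Int.dvd_of_mul_dvd_mul_left (by norm_num) h
  have hy2 : ∀ p j : ℤ, (b * w ^ p) ^ j = b ^ j * w ^ (p * j) := fun p j => by
    rw [(P.w_b.symm.zpow_right p).mul_zpow, ← zpow_mul]
  have hBj : ∀ K p i j l : ℤ, (c ^ K) ^ i * (b * w ^ p) ^ j * w ^ l = 1 → 2 ∣ j := by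
    intro K p i j l e
    refine (P.lin (K * i) (p * j + l) j ?_).1
    rw [← e, hy2, zpow_add, ← zpow_mul]
    have hbw : Commute (b ^ j) (w ^ (p * j) * w ^ l) :=
      (Commute.zpow_zpow P.w_b.symm j _).mul_right (Commute.zpow_zpow P.w_b.symm j l)
    calc c ^ (K * i) * (w ^ (p * j) * w ^ l) * b ^ j
        = c ^ (K * i) * ((w ^ (p * j) * w ^ l) * b ^ j) := by group
      _ = _ := by rw [← hbw.eq]; group
  set z := c ^ ((2 : ℤ) ^ ν) with hz
  have hz2 : z * z = 1 := by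
    rw [hz, ← zpow_add, hzero, pow_succ]; exact ⟨1, by ring⟩
  have hzne : z ≠ 1 := by
    rw [hz, Ne, hzero]
    intro h
    have h3 : (2 : ℤ) ^ (ν + 1) ≤ (2 : ℤ) ^ ν := Int.le_of_dvd (by positivity) h
    have h4 : (2 : ℤ) ^ ν < (2 : ℤ) ^ (ν + 1) := pow_lt_pow_right₀ (by norm_num) (Nat.lt_succ_self ν)
    omega
  by_cases hcase : b * b = 1 ∧ z ∉ Subgroup.zpowers w
  · obtain ⟨hbb, hzw⟩ := hcase
    have hwz : Commute w z := P.w_comm_cpow (by
      obtain ⟨q, hq⟩ : (2 : ℤ) ∣ f * f - 1 := by obtain ⟨q, hq⟩ := h8; exact ⟨4 * q, by omega⟩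
      exact ⟨q, by rw [hq]; ring⟩)
    have hzc : ∀ v, Commute v z := fun v =>
      P.central_of_sq (i := (2 : ℤ) ^ ν) (by rw [hzero]; exact ⟨1, by ring⟩) v
    have hind : ∀ i j l : ℤ, z ^ i * (b * w ^ (0 : ℤ)) ^ j * w ^ l = 1 → 2 ∣ i ∧ 2 ∣ j := by
      intro i j l e
      have hj := hBj _ 0 i j l e
      refine ⟨?_, hj⟩
      obtain ⟨q, rfl⟩ := hj
      rw [zpow_zero, mul_one, zpow_mul, zpow_two, hbb, one_zpow, mul_one] at e
      by_contra hi
      obtain ⟨u, rfl⟩ : ∃ u, i = 2 * u + 1 := ⟨i / 2, by omega⟩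
      refine hzw ⟨-l, ?_⟩
      rw [zpow_add, zpow_mul, zpow_two, hz2, one_zpow, one_mul, zpow_one] at e
      show w ^ (-l) = z
      rw [zpow_neg]
      exact (eq_inv_of_mul_eq_one_left e).symm
    have hmk : ∀ g : G, g * w * g⁻¹ = w → g * b * g⁻¹ = z * b →
        ∃ x y w' g : G, Setup (⊤ : Subgroup G) x y w' g := fun g hgw hgb =>
      ⟨_, _, _, _, P.setup_of (k := (2 : ℤ) ^ ν) (p := 0) (g := g) (by rw [← hz, hz2, one_mul])
        (by rw [zpow_zero, mul_one, hbb, ← hz, hz2]) hwz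
        (fun i hi => by
          obtain ⟨u, rfl⟩ := hdvdν i hi
          rw [zpow_mul]; exact Subgroup.zpow_mem_zpowers _ u) hind hgw hgb
        (Or.inl (by rw [(hzc g).eq, mul_inv_cancel_right]))⟩
    rcases Nat.eq_zero_or_pos ν with h0 | h0
    · refine hmk a (P.a_w (by omega)) ?_
      rw [P.ab, hz, h0, pow_zero, zpow_one]
    · obtain ⟨μ, rfl⟩ : ∃ μ, ν = μ + 1 := ⟨ν - 1, by omega⟩
      refine hmk (c ^ ((2 : ℤ) ^ μ)) ?_ (by rw [P.conj_b, hz, pow_succ']; )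
      have hc := P.w_comm_cpow (i := (2 : ℤ) ^ μ) (by
        obtain ⟨q, hq⟩ := h8; exact ⟨2 * q, by rw [hq]; ring⟩)
      rw [← hc.eq, mul_inv_cancel_right]
  · -- the quaternion case
    have hν : 1 ≤ ν := by
      rcases P.bb with hbb | ⟨-, h⟩
      · by_contra hν
        obtain rfl : ν = 0 := by omega
        obtain ⟨l, hl : w ^ l = z⟩ : z ∈ Subgroup.zpowers w := by
          by_contra h; exact hcase ⟨hbb, h⟩
        obtain ⟨-, h2, h3⟩ := P.lin (-1) l 0 (by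
          rw [zpow_zero, mul_one, hl, hz, pow_zero, ← zpow_add, neg_add_cancel, zpow_zero])
        have hl2 : (2 : ℤ) ∣ l := by
          have : (2 : ℤ) ^ 2 ∣ 2 * l := (pow_dvd_pow 2 P.two_le).trans h2
          omega
        obtain ⟨q, rfl⟩ := hl2
        have : (2 : ℤ) ∣ -1 := by
          have h5 : (2 : ℤ) ∣ s * (2 * q) := ⟨s * q, by ring⟩
          exact (dvd_add_left h5).1 h3
        omega
      · exact h
    obtain ⟨μ, rfl⟩ : ∃ μ, ν = μ + 1 := ⟨ν - 1, by omega⟩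
    set k := (2 : ℤ) ^ μ with hk
    set x := c ^ k with hx
    have hxx : x * x = z := by rw [hx, hz, ← zpow_add, hk, pow_succ]; congr 1; ring
    have hx4 : x * x * (x * x) = 1 := by rw [hxx, hz2]
    have hwx : Commute w x := P.w_comm_cpow (by
      obtain ⟨q, hq⟩ := h8; exact ⟨2 * q, by rw [hq, hk]; ring⟩)
    obtain ⟨p, hp⟩ : ∃ p : ℤ, b * w ^ p * (b * w ^ p) = z := by
      rcases P.bb with hbb | ⟨hbb, -⟩
      · obtain ⟨l, hl : w ^ l = z⟩ : z ∈ Subgroup.zpowers w := by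
          by_contra h; exact hcase ⟨hbb, h⟩
        obtain ⟨-, h2, -⟩ := P.lin (-(2 : ℤ) ^ (μ + 1)) l 0 (by
          rw [zpow_zero, mul_one, hl, hz, ← zpow_add, neg_add_cancel, zpow_zero])
        have hl2 : (2 : ℤ) ∣ l := by
          have : (2 : ℤ) ^ 2 ∣ 2 * l := (pow_dvd_pow 2 P.two_le).trans h2
          omega
        obtain ⟨q, rfl⟩ := hl2
        refine ⟨q, ?_⟩
        calc b * w ^ q * (b * w ^ q) = b * (w ^ q * b) * w ^ q := by group
          _ = b * b * w ^ (2 * q) := by rw [(P.w_b.zpow_left q).eq, two_mul, zpow_add]; group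
          _ = z := by rw [hbb, hl, one_mul]
      · exact ⟨0, by rw [zpow_zero, mul_one, hbb, hz]⟩
    have hind : ∀ i j l : ℤ, x ^ i * (b * w ^ p) ^ j * w ^ l = 1 → 2 ∣ i ∧ 2 ∣ j := by
      intro i j l e
      have hj := hBj k p i j l e
      refine ⟨?_, hj⟩
      obtain ⟨q, rfl⟩ := hj
      have hz' : (b * w ^ p) ^ (2 * q) = x ^ (2 * q) := by
        rw [zpow_mul, zpow_two, hp, zpow_mul, zpow_two, hxx]
      rw [hz', ← zpow_add] at e
      have hb : Commute (x ^ (i + 2 * q)) b := by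
        rw [eq_inv_of_mul_eq_one_left e, ← zpow_neg]
        exact P.w_b.zpow_left _
      have h1 := P.conj_b (k * (i + 2 * q))
      rw [zpow_mul, ← hx, hb.eq, mul_inv_cancel_right] at h1
      have h2 : c ^ (2 * (k * (i + 2 * q))) = 1 := mul_eq_right.1 h1.symm
      have h3 := hdvdν _ h2
      rw [hk, pow_succ] at h3
      have h4 : (2 : ℤ) ∣ i + 2 * q := Int.dvd_of_mul_dvd_mul_left (by positivity) h3
      omega
    have hmk : ∀ g : G, g * w * g⁻¹ = w → g * b * g⁻¹ = x * b →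
        (g * x * g⁻¹ = x ∨ g * x * g⁻¹ = x⁻¹) →
        ∃ x y w' g : G, Setup (⊤ : Subgroup G) x y w' g := fun g hgw hgb hgx =>
      ⟨_, _, _, _, P.setup_of (k := k) (p := p) (g := g) hx4 (by rw [hp, ← hxx]) hwx
        (fun i hi => by
          obtain ⟨u, rfl⟩ := hdvdν i hi
          refine ⟨2 * u, ?_⟩
          show x ^ (2 * u) = _
          rw [hx, ← zpow_mul, hk]; congr 1; ring) hind hgw hgb hgx⟩
    rcases Nat.eq_zero_or_pos μ with h0 | h0
    · subst h0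
      have hk1 : k = 1 := by rw [hk, pow_zero]
      refine hmk a (P.a_w (by omega)) (by rw [P.ab, hx, hk1, zpow_one]) ?_
      rw [hx, hk1, P.a_cpow, mul_one, zpow_one]
      obtain ⟨p', hp'⟩ : ∃ p', f = 2 * p' + 1 := ⟨f / 2, by have := P.f_odd; omega⟩
      rcases Int.even_or_odd p' with ⟨q, rfl⟩ | ⟨q, rfl⟩
      · left
        conv_rhs => rw [← zpow_one c]
        rw [P.cpow]; exact ⟨q, by rw [hp']; ring⟩
      · right
        rw [← zpow_neg_one, P.cpow]; exact ⟨q + 1, by rw [hp']; ring⟩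
    · obtain ⟨ρ, rfl⟩ : ∃ ρ, μ = ρ + 1 := ⟨μ - 1, by omega⟩
      have hc := P.w_comm_cpow (i := (2 : ℤ) ^ ρ) (by
        obtain ⟨q, hq⟩ := h8; exact ⟨q, by rw [hq]; ring⟩)
      refine hmk (c ^ ((2 : ℤ) ^ ρ)) (by rw [← hc.eq, mul_inv_cancel_right]) ?_ (Or.inl ?_)
      · rw [P.conj_b, hx, hk, pow_succ']
      · rw [hx, ((Commute.refl c).zpow_zpow _ _).eq, mul_inv_cancel_right]

end Params

end Cfsg.Agent.Bicyclic2
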