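import Cfsg.Agent.Lib.Bicyclic2.Omega
import Cfsg.Agent.Lib.PGroup.MetacyclicTwoAut
import Mathlib.GroupTheory.Perm.Cycle.Type

/-!
A 2-group with a metacyclic subgroup of index at most two and an automorphism `α` of order three
is `Q⟨w⟩`: `Q` is normal, homocyclic of rank two or quaternion of order eight, moved fixed point
freely modulo its Frattini subgroup, and `α` fixes `w`.
-/

set_option autoImplicit false

namespace Cfsg.Agent.Bicyclic2

open scoped commutatorElement
open Cfsg.Agent

variable {P : Type*} [Group P] [Finite P]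

theorem alpha_three {α : MulAut P} (h3 : α ^ 3 = 1) (x : P) : α (α (α x)) = x := by
  have h := DFunLike.congr_fun h3 x
  exact h

/-- A map of period three without fixed points lives on a set of cardinality divisible by three. -/
theorem three_dvd_card {X : Type*} [Finite X] {f : X → X} (h3 : ∀ x, f (f (f x)) = x)
    (hfix : ∀ x, f x ≠ x) : 3 ∣ Nat.card X := by
  classical
  haveI := Fintype.ofFinite X
  haveI : Fact (Nat.Prime 3) := ⟨Nat.prime_three⟩
  by_contra h
  rw [Nat.card_eq_fintype_card] at h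
  let σ : Equiv.Perm X := ⟨f, fun x => f (f x), h3, h3⟩
  obtain ⟨a, ha⟩ := Equiv.Perm.exists_fixed_point_of_prime (n := 1) h (σ := σ)
    (Equiv.ext fun x => h3 x)
  exact hfix a ha

/-- An odd order automorphism of an abelian 2-group fixing the involutions is trivial. -/
theorem eq_one_of_fix_involutions {A : Type*} [Group A] [Finite A] (hA : IsPGroup 2 A)
    (hab : ∀ x y : A, x * y = y * x) {β : MulAut A} (hodd : Odd (orderOf β))
    (h : ∀ x : A, x * x = 1 → β x = x) : β = 1 := by
  suffices H : ∀ n : ℕ, ∀ x : A, x ^ 2 ^ n = 1 → β x = x by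
    exact MulEquiv.ext fun x => by
      obtain ⟨n, hn⟩ := hA x
      exact H n x hn
  intro n
  induction n with
  | zero => intro x hx; rw [pow_zero, pow_one] at hx; rw [hx, map_one]
  | succ n ih =>
    intro x hx
    have h1 : β (x * x) = x * x := ih _ (by rw [← pow_two, ← pow_mul, ← pow_succ']; exact hx)
    set d := x⁻¹ * β x with hd
    have hd2 : d * d = 1 := by
      calc d * d = (x⁻¹ * x⁻¹) * (β x * β x) := by
            rw [hd]
            calc x⁻¹ * β x * (x⁻¹ * β x) = x⁻¹ * (β x * x⁻¹) * β x := by group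
              _ = _ := by rw [hab (β x) x⁻¹]; group
        _ = 1 := by rw [← map_mul, h1]; group
    have hβx : β x = x * d := by rw [hd]; group
    have hiter : ∀ m : ℕ, (β ^ m) x = x * d ^ m := by
      intro m
      induction m with
      | zero => simp
      | succ m ihm =>
        rw [pow_succ', MulAut.mul_apply, ihm, map_mul, map_pow, h d hd2, hβx, mul_assoc, ← pow_succ']
    obtain ⟨k, hk⟩ := hodd
    have h2 := hiter (orderOf β)
    rw [pow_orderOf_eq_one, MulAut.one_apply, hk, pow_succ, pow_mul, pow_two, hd2, one_pow,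
      one_mul] at h2
    rw [hβx, ← h2]

theorem card_four {A : Type*} [Group A] [DecidableEq A] {a b : A} (ha : a ≠ 1) (hb : b ≠ 1)
    (hab : a ≠ b) (hab1 : a * b ≠ 1) : ({1, a, b, a * b} : Finset A).card = 4 := by
  rw [Finset.card_insert_of_notMem, Finset.card_insert_of_notMem,
    Finset.card_insert_of_notMem, Finset.card_singleton]
  · rw [Finset.mem_singleton]; exact fun h => ha (mul_eq_right.1 h.symm)
  · rw [Finset.mem_insert, Finset.mem_singleton]
    rintro (h | h)
    exacts [hab h, hb (mul_eq_left.1 h.symm)]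
  · rw [Finset.mem_insert, Finset.mem_insert, Finset.mem_singleton]
    rintro (h | h | h)
    exacts [ha h.symm, hb h.symm, hab1 h.symm]

/-- The homocyclic shape of `Q`. -/
structure HomShape (α : MulAut P) (Q : Subgroup P) (u : P) : Prop where
  comm : ∀ p ∈ Q, ∀ q ∈ Q, p * q = q * p
  mem : u ∈ Q
  sq : u * u = 1
  ne : u ≠ 1
  move : α u ≠ u
  norm : α (α u) = u * α u
  inv_mem : ∀ v ∈ Q, v * v = 1 → v = 1 ∨ v = u ∨ v = α u ∨ v = u * α u
  fixed : ∀ q ∈ Q, α q = q → q = 1
  gen : ∃ p ∈ Q, Q = Subgroup.closure {p, α p}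

/-- The quaternion shape of `Q`. -/
structure QuatShape (α : MulAut P) (Q : Subgroup P) (i z : P) : Prop where
  mem : i ∈ Q
  sq : i * i = z
  ne : z ≠ 1
  zz : z * z = 1
  zfix : α z = z
  zcentral : ∀ p : P, p * z = z * p
  anti : i * α i * i⁻¹ = (α i)⁻¹
  anti' : α i * i * (α i)⁻¹ = i⁻¹
  cases : ∀ q ∈ Q, q = 1 ∨ q = z ∨ q = i ∨ q = z * i ∨ q = α i ∨ q = z * α i ∨
    q = α (α i) ∨ q = z * α (α i)
  gen : Q = Subgroup.closure {i, α i}

/-- The decomposition `P = Q⟨w⟩`. -/
theorem exists_shape (hP : IsPGroup 2 P) {α : MulAut P} (hα3 : α ^ 3 = 1) (hα1 : α ≠ 1)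
    {H : Subgroup P} (hHm : Cfsg.IsMetacyclic ↥H) (hH : ∀ x y, x ∉ H → y ∉ H → x * y ∈ H) :
    ∃ (Q : Subgroup P) (w : P), Q.Normal ∧ Q = Subgroup.closure {d | ∃ x, d = x⁻¹ * α x} ∧
      (∀ q ∈ Q, α q ∈ Q) ∧ α w = w ∧ Q ⊔ Subgroup.zpowers w = ⊤ ∧
      ((∃ u, HomShape α Q u) ∨ ∃ i z, QuatShape α Q i z) := by
  classical
  haveI : Fact (Nat.Prime 2) := ⟨Nat.prime_two⟩
  have h3 := alpha_three hα3
  set Q := Subgroup.closure {d | ∃ x, d = x⁻¹ * α x} with hQ
  have hgenQ : ∀ x, x⁻¹ * α x ∈ Q := fun x => Subgroup.subset_closure ⟨x, rfl⟩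
  have hQα : ∀ q ∈ Q, α q ∈ Q := by
    intro q hq
    induction hq using Subgroup.closure_induction with
    | mem d hd => obtain ⟨x, rfl⟩ := hd; rw [map_mul, map_inv]; exact hgenQ (α x)
    | one => rw [map_one]; exact one_mem _
    | mul p q _ _ hp hq => rw [map_mul]; exact mul_mem hp hq
    | inv p _ hp => rw [map_inv]; exact inv_mem hp
  haveI hQn : Q.Normal := by
    refine ⟨fun q hq y => ?_⟩
    induction hq using Subgroup.closure_induction with
    | mem d hd =>
      obtain ⟨x, rfl⟩ := hd
      have h1 : y * (x⁻¹ * α x) * y⁻¹ =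
          ((x * y⁻¹)⁻¹ * α (x * y⁻¹)) * ((y⁻¹)⁻¹ * α y⁻¹)⁻¹ := by
        rw [map_mul, map_inv]; group
      rw [h1]
      exact mul_mem (hgenQ _) (inv_mem (hgenQ _))
    | one => simp
    | mul p q _ _ hp hq =>
      rw [show y * (p * q) * y⁻¹ = (y * p * y⁻¹) * (y * q * y⁻¹) by group]
      exact mul_mem hp hq
    | inv p _ hp => rw [← conj_inv]; exact inv_mem hp
  -- `α` on `Q`
  let β : MulAut ↥Q :=
    { toFun := fun q => ⟨α q, hQα q q.2⟩
      invFun := fun q => ⟨α (α q), hQα _ (hQα q q.2)⟩
      left_inv := fun q => Subtype.ext (h3 q)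
      right_inv := fun q => Subtype.ext (h3 q)
      map_mul' := fun p q => Subtype.ext (map_mul α (p : P) q) }
  have hβv : ∀ q : ↥Q, ((β q : ↥Q) : P) = α q := fun q => rfl
  have hβ3 : β ^ 3 = 1 := MulEquiv.ext fun q => Subtype.ext (h3 q)
  have hQp : IsPGroup 2 ↥Q := hP.to_subgroup Q
  -- the quotient of `Q` by its Frattini subgroup
  set π := QuotientGroup.mk' (frattini ↥Q) with hπ
  have hsq : ∀ t : ↥Q ⧸ frattini ↥Q, t * t = 1 := fun t => by
    induction t using QuotientGroup.induction_on with
    | H x => exact (QuotientGroup.eq_one_iff _).2 (sq_mem_frattini hQp x)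
  have hcm : ∀ s t : ↥Q ⧸ frattini ↥Q, s * t = t * s := fun s t => by
    calc s * t = (s * t)⁻¹ := eq_inv_of_mul_eq_one_left (hsq _)
      _ = t * s := by rw [mul_inv_rev, inv_eq_of_mul_eq_one_right (hsq s),
          inv_eq_of_mul_eq_one_right (hsq t)]
  have hnorm : ∀ q : ↥Q, π q * π (β q) * π (β (β q)) = 1 := by
    rintro ⟨q, hq⟩
    induction hq using Subgroup.closure_induction with
    | mem d hd =>
      obtain ⟨x, rfl⟩ := hd
      rw [← map_mul, ← map_mul, ← map_one π]
      congr 1
      refine Subtype.ext ?_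
      simp only [Subgroup.coe_mul, OneMemClass.coe_one, hβv, map_mul, map_inv]
      rw [h3]; group
    | one =>
      rw [show (⟨1, _⟩ : ↥Q) = 1 from rfl, map_one β, map_one β, map_one π, mul_one, mul_one]
    | mul p q hp hq ihp ihq =>
      rw [show (⟨p * q, _⟩ : ↥Q) = ⟨p, hp⟩ * ⟨q, hq⟩ from rfl, map_mul, map_mul, map_mul, map_mul,
        map_mul]
      calc π ⟨p, hp⟩ * π ⟨q, hq⟩ * (π (β ⟨p, hp⟩) * π (β ⟨q, hq⟩)) *
            (π (β (β ⟨p, hp⟩)) * π (β (β ⟨q, hq⟩)))
          = (π ⟨p, hp⟩ * π (β ⟨p, hp⟩) * π (β (β ⟨p, hp⟩))) *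
            (π ⟨q, hq⟩ * π (β ⟨q, hq⟩) * π (β (β ⟨q, hq⟩))) := by
            have key : ∀ A B C D E F : ↥Q ⧸ frattini ↥Q,
                A * B * (C * D) * (E * F) = A * C * E * (B * D * F) := by
              intro A B C D E F
              calc A * B * (C * D) * (E * F) = A * (B * C) * (D * E) * F := by group
                _ = A * (C * B) * (E * D) * F := by rw [hcm B C, hcm D E]
                _ = A * C * (B * E) * (D * F) := by group
                _ = A * C * (E * B) * (D * F) := by rw [hcm B E]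
                _ = _ := by group
            exact key _ _ _ _ _ _
        _ = 1 := by rw [ihp, ihq, mul_one]
    | inv p hp ihp =>
      rw [show (⟨p⁻¹, _⟩ : ↥Q) = (⟨p, hp⟩ : ↥Q)⁻¹ from rfl, map_inv, map_inv, map_inv, map_inv,
        map_inv, inv_eq_of_mul_eq_one_right (hsq _), inv_eq_of_mul_eq_one_right (hsq _),
        inv_eq_of_mul_eq_one_right (hsq _)]
      exact ihp
  have hnofix : ∀ q : ↥Q, π (β q) = π q → π q = 1 := by
    intro q hq
    have h1 : π (β (β q)) = π (β q) := by
      have h2 : q⁻¹ * β q ∈ frattini ↥Q := QuotientGroup.eq.1 hq.symm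
      refine (QuotientGroup.eq.2 ?_).symm
      have hc : (frattini ↥Q).Characteristic := inferInstance
      have h4 := (Subgroup.characteristic_iff_comap_eq.1 hc β).ge h2
      rw [Subgroup.mem_comap, MulEquiv.coe_toMonoidHom, map_mul, map_inv] at h4
      exact h4
    have h5 := hnorm q
    rwa [h1, hq, hsq, one_mul] at h5
  -- three generators
  obtain ⟨p₁, p₂, hp12⟩ := gen2_of_metacyclic hHm
  have hcover : ∀ {S : Subgroup P} (r : P), r ∈ S → r ∉ H → H ≤ S → S = ⊤ := by
    intro S r hr hrH hle
    refine eq_top_iff.2 fun y _ => ?_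
    by_cases hy : y ∈ H
    · exact hle hy
    · have h1 : y * r⁻¹ ∈ H := hH y r⁻¹ hy fun h => hrH (by simpa using inv_mem h)
      simpa using mul_mem (hle h1) hr
  have hcard8 : Nat.card (↥Q ⧸ frattini ↥Q) ≤ 8 := by
    have hHQ : Cfsg.IsMetacyclic ↥(H.subgroupOf Q) := by
      refine isMetacyclic_of_surjective (isMetacyclic_of_le hHm (inf_le_left : H ⊓ Q ≤ H))
        (MonoidHom.mk' (fun x : ↥(H ⊓ Q) => (⟨⟨x, x.2.2⟩, x.2.1⟩ : ↥(H.subgroupOf Q)))
          fun _ _ => rfl) ?_
      rintro ⟨⟨x, hx⟩, hxH⟩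
      exact ⟨⟨x, hxH, hx⟩, rfl⟩
    obtain ⟨a, b, hab⟩ := gen2_of_metacyclic hHQ
    obtain ⟨c, hc⟩ : ∃ c : ↥Q, ∀ y : ↥Q, y ∈ Subgroup.closure ({a, b, c} : Set ↥Q) := by
      by_cases hall : ∀ y : ↥Q, (y : P) ∈ H
      · refine ⟨1, fun y => ?_⟩
        have h1 : y ∈ Subgroup.closure ({a, b} : Set ↥Q) := hab.ge (hall y)
        exact Subgroup.closure_mono (by intro t ht; rcases ht with rfl | rfl <;> simp) h1
      · push Not at hall
        obtain ⟨c, hc⟩ := hall
        refine ⟨c, fun y => ?_⟩
        have hsub : Subgroup.closure ({a, b} : Set ↥Q) ≤ Subgroup.closure ({a, b, c} : Set ↥Q) :=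
          Subgroup.closure_mono (by intro t ht; rcases ht with rfl | rfl <;> simp)
        by_cases hy : (y : P) ∈ H
        · exact hsub (hab.ge hy)
        · have h1 : (y * c⁻¹ : ↥Q) ∈ H.subgroupOf Q :=
            hH (y : P) ((c : P)⁻¹) hy fun h => hc (by simpa using inv_mem h)
          simpa using mul_mem (hsub (hab.ge h1)) (Subgroup.subset_closure (by simp : c ∈ _))
    have h2 := PGroup.card_closure_sup_frattini_le hQp ({a, b, c} : Finset ↥Q)
    rw [show Subgroup.closure (({a, b, c} : Finset ↥Q) : Set ↥Q) = ⊤ from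
      eq_top_iff.2 fun y _ => by simpa using hc y, top_sup_eq, Subgroup.card_top,
      Subgroup.card_eq_card_quotient_mul_card_subgroup (frattini ↥Q)] at h2
    have h3' : ({a, b, c} : Finset ↥Q).card ≤ 3 := Finset.card_le_three
    have h4 : (2 : ℕ) ^ ({a, b, c} : Finset ↥Q).card ≤ 8 :=
      (Nat.pow_le_pow_right (by norm_num) h3').trans (by norm_num)
    have h5 : 0 < Nat.card (frattini ↥Q) := Nat.card_pos
    have h6 : Nat.card (↥Q ⧸ frattini ↥Q) * Nat.card (frattini ↥Q) ≤
        8 * Nat.card (frattini ↥Q) := by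
      refine h2.trans ?_
      rw [mul_comm]
      exact Nat.mul_le_mul_right _ h4
    exact Nat.le_of_mul_le_mul_right h6 h5
  -- some class is nontrivial
  obtain ⟨x₀, hx₀⟩ : ∃ x, x⁻¹ * α x ∉ frattini P := by
    by_contra hc
    push Not at hc
    refine hα1 (PGroup.MetacyclicTwo.aut_trivial_of_frattini hP ?_ hc)
    have hd : orderOf α ∣ 3 := orderOf_dvd_of_pow_eq_one hα3
    exact Nat.coprime_two_right.2 (Odd.of_dvd_nat (by decide) hd)
  set q₀ : ↥Q := ⟨x₀⁻¹ * α x₀, hgenQ x₀⟩ with hq₀
  have hq₀1 : π q₀ ≠ 1 := fun h => hx₀ (PGroup.map_frattini_le hP Q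
    ⟨q₀, (QuotientGroup.eq_one_iff q₀).1 h, rfl⟩)
  have hclassβ : ∀ p q : ↥Q, π p = π q → π (β p) = π (β q) := fun p q h => by
    refine QuotientGroup.eq.2 ?_
    have hc : (frattini ↥Q).Characteristic := inferInstance
    have h4 := (Subgroup.characteristic_iff_comap_eq.1 hc β).ge (QuotientGroup.eq.1 h)
    rw [Subgroup.mem_comap, MulEquiv.coe_toMonoidHom, map_mul, map_inv] at h4
    exact h4
  have hcard4 : Nat.card (↥Q ⧸ frattini ↥Q) = 4 := by
    let X := {t : ↥Q ⧸ frattini ↥Q // t ≠ 1}
    let fb : (↥Q ⧸ frattini ↥Q) →* (↥Q ⧸ frattini ↥Q) :=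
      QuotientGroup.map _ _ β.toMonoidHom fun x hx =>
        (Subgroup.characteristic_iff_comap_eq.1 (inferInstance : (frattini ↥Q).Characteristic) β).ge hx
    have hfb : ∀ q, fb (π q) = π (β q) := fun q => rfl
    have hfb3 : ∀ t, fb (fb (fb t)) = t := fun t => by
      induction t using QuotientGroup.induction_on with
      | H x =>
        show fb (fb (fb (π x))) = π x
        rw [hfb, hfb, hfb]
        exact congrArg π (Subtype.ext (h3 x))
    let f : X → X := fun t => ⟨fb t.1, fun h => t.2 (by rw [← hfb3 t.1, h, map_one, map_one])⟩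
    have h3X : 3 ∣ Nat.card X := three_dvd_card (f := f) (fun t => Subtype.ext (hfb3 t.1)) (by
      rintro ⟨t, ht⟩ h
      obtain ⟨x, rfl⟩ := QuotientGroup.mk'_surjective (frattini ↥Q) t
      exact ht (hnofix x (congrArg Subtype.val h)))
    have hX : Nat.card X + 1 = Nat.card (↥Q ⧸ frattini ↥Q) := by
      haveI := Fintype.ofFinite (↥Q ⧸ frattini ↥Q)
      rw [Nat.card_eq_fintype_card, Nat.card_eq_fintype_card, Fintype.card_subtype_compl,
        Fintype.card_subtype_eq]
      have : 0 < Fintype.card (↥Q ⧸ frattini ↥Q) := Fintype.card_pos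
      omega
    obtain ⟨n, hn⟩ := (hQp.to_quotient (frattini ↥Q)).exists_card_eq
    have h1lt : 1 < Nat.card (↥Q ⧸ frattini ↥Q) := by
      haveI := Fintype.ofFinite (↥Q ⧸ frattini ↥Q)
      rw [Nat.card_eq_fintype_card]
      exact Fintype.one_lt_card_iff.2 ⟨_, _, hq₀1⟩
    rw [hn] at hX hcard8 h1lt ⊢
    have hn3 : n ≤ 3 := (Nat.pow_le_pow_iff_right (by norm_num)).1
      (hcard8.trans (by norm_num : 8 ≤ 2 ^ 3))
    interval_cases n <;> omega
  -- two generators
  have hgen2 : Subgroup.closure ({q₀, β q₀} : Set ↥Q) = ⊤ := by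
    refine PGroup.closure_eq_top_of_sup_frattini (eq_top_iff.2 fun y _ => ?_)
    have hb1 : π (β q₀) ≠ 1 := fun h => hq₀1 (by
      have h1 := hclassβ (β q₀) 1 (h.trans (map_one π).symm)
      have h2 := hclassβ _ _ h1
      rwa [map_one, map_one, map_one, show β (β (β q₀)) = q₀ from Subtype.ext (h3 q₀)] at h2)
    have hb2 : π (β q₀) ≠ π q₀ := fun h => hq₀1 (hnofix q₀ h)
    have hb3 : π q₀ * π (β q₀) ≠ 1 := fun h => hb2 (mul_left_cancel (h.trans (hsq _).symm))
    have huniv : ({1, π q₀, π (β q₀), π q₀ * π (β q₀)} : Finset (↥Q ⧸ frattini ↥Q)).card =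
        Nat.card (↥Q ⧸ frattini ↥Q) := by
      rw [hcard4]
      exact card_four hq₀1 hb1 (Ne.symm hb2) hb3
    haveI := Fintype.ofFinite (↥Q ⧸ frattini ↥Q)
    rw [Nat.card_eq_fintype_card] at huniv
    have hy : π y ∈ ({1, π q₀, π (β q₀), π q₀ * π (β q₀)} : Finset (↥Q ⧸ frattini ↥Q)) := by
      rw [Finset.eq_univ_of_card _ huniv]; exact Finset.mem_univ _
    set S := Subgroup.closure ({q₀, β q₀} : Set ↥Q) ⊔ frattini ↥Q
    have hq : q₀ ∈ S := Subgroup.mem_sup_left (Subgroup.subset_closure (by simp))
    have hbq : β q₀ ∈ S := Subgroup.mem_sup_left (Subgroup.subset_closure (by simp))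
    have key : ∀ t ∈ S, π y = π t → y ∈ S := fun t ht h => by
      simpa using mul_mem ht (Subgroup.mem_sup_right (QuotientGroup.eq.1 h.symm) : t⁻¹ * y ∈ S)
    simp only [Finset.mem_insert, Finset.mem_singleton] at hy
    rcases hy with h | h | h | h
    · exact key 1 (one_mem _) (by rw [h, map_one])
    · exact key _ hq h
    · exact key _ hbq h
    · exact key _ (mul_mem hq hbq) (by rw [h, map_mul])
  have hβ1 : β ≠ 1 := fun h => hq₀1 (hnofix q₀ (by rw [h]; rfl))
  have hβodd : Odd (orderOf β) := Odd.of_dvd_nat (by decide) (orderOf_dvd_of_pow_eq_one hβ3)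
  have hQm : Cfsg.IsMetacyclic ↥Q := by
    by_contra hnm
    by_cases hall : ∀ y : ↥Q, (y : P) ∈ H
    · exact hnm (isMetacyclic_of_le hHm fun y hy => hall ⟨y, hy⟩)
    push Not at hall
    obtain ⟨c, hc⟩ := hall
    have hidx : (H.subgroupOf Q).index = 2 := by
      rw [Subgroup.index_eq_two_iff]
      refine ⟨c, fun y => ?_⟩
      simp only [Subgroup.mem_subgroupOf, Subgroup.coe_mul]
      by_cases hy : (y : P) ∈ H
      · exact Or.inr ⟨hy, fun h => hc ((Subgroup.mul_mem_cancel_left H hy).1 h)⟩
      · exact Or.inl ⟨hH _ _ hy hc, hy⟩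
    refine hβ1 (aut_eq_one hQp ⟨q₀, β q₀, hgen2⟩ hnm hidx ?_ hβodd)
    exact gen2_of_metacyclic (isMetacyclic_of_surjective
      (isMetacyclic_of_le hHm (inf_le_left : H ⊓ Q ≤ H))
      (MonoidHom.mk' (fun x : ↥(H ⊓ Q) => (⟨⟨x, x.2.2⟩, x.2.1⟩ : ↥(H.subgroupOf Q))) fun _ _ => rfl)
      (by rintro ⟨⟨x, hx⟩, hxH⟩; exact ⟨⟨x, hxH, hx⟩, rfl⟩))
  have hgenP : Q = Subgroup.closure ({(q₀ : P), α q₀} : Set P) := by
    have h1 := congrArg (Subgroup.map Q.subtype) hgen2
    rw [MonoidHom.map_closure, Set.image_pair, ← MonoidHom.range_eq_map,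
      Subgroup.range_subtype] at h1
    exact h1.symm
  -- the complement
  obtain ⟨w, hw, hwQ⟩ : ∃ w, α w = w ∧ Q ⊔ Subgroup.zpowers w = ⊤ := by
    set ρ := QuotientGroup.mk' (frattini P) with hρ
    have hΦQ : ∀ p q : ↥Q, π p = π q → ρ (p : P) = ρ (q : P) := fun p q h =>
      QuotientGroup.eq.2 (PGroup.map_frattini_le hP Q ⟨p⁻¹ * q, QuotientGroup.eq.1 h, rfl⟩)
    have hr1 : ρ (q₀ : P) ≠ 1 := fun h => hx₀ ((QuotientGroup.eq_one_iff _).1 h)
    have hsqP : ∀ t : P ⧸ frattini P, t * t = 1 := fun t => by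
      induction t using QuotientGroup.induction_on with
      | H x => exact (QuotientGroup.eq_one_iff _).2 (sq_mem_frattini hP x)
    have hr2 : ρ (α q₀) ≠ ρ (q₀ : P) := by
      intro h
      apply hr1
      have h1 := congrArg (fun q : ↥Q => ρ (q : P)) (rfl : q₀ = q₀)
      have hn : ρ (q₀ : P) * ρ (α q₀) * ρ (α (α q₀)) = 1 := by
        have h2 := hΦQ (q₀ * β q₀ * β (β q₀)) 1 (by rw [map_mul, map_mul, hnorm, map_one])
        simpa [hβv] using h2
      have h3' : ρ (α (α q₀)) = ρ (α q₀) := by
        refine (QuotientGroup.eq.2 ?_).symm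
        have hc : (frattini P).Characteristic := inferInstance
        have h4 := (Subgroup.characteristic_iff_comap_eq.1 hc α).ge (QuotientGroup.eq.1 h.symm)
        rw [Subgroup.mem_comap, MulEquiv.coe_toMonoidHom, map_mul, map_inv] at h4
        exact h4
      rwa [h3', h, hsqP, one_mul] at hn
    have hr3 : ρ (α q₀) ≠ 1 := fun h => hr1 (by
      have hc : (frattini P).Characteristic := inferInstance
      have h4 := (Subgroup.characteristic_iff_comap_eq.1 hc α).ge ((QuotientGroup.eq_one_iff _).1 h)
      have h5 := (Subgroup.characteristic_iff_comap_eq.1 hc α).ge h4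
      rw [Subgroup.mem_comap, MulEquiv.coe_toMonoidHom, h3] at h5
      exact (QuotientGroup.eq_one_iff _).2 h5)
    set U := Q ⊔ frattini P with hU
    haveI : U.Normal := Subgroup.sup_normal Q (frattini P)
    have hcardP : Nat.card (P ⧸ frattini P) ≤ 8 := by
      by_cases hall : ∀ y, y ∈ H
      · have h1 : Nat.card ↥(Subgroup.closure (({p₁, p₂} : Finset P) : Set P) ⊔ frattini P) =
            Nat.card P := by
          rw [show Subgroup.closure (({p₁, p₂} : Finset P) : Set P) = ⊤ from
            eq_top_iff.2 fun y _ => by simpa using hp12.ge (hall y), top_sup_eq, Subgroup.card_top]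
        have h2 := PGroup.card_closure_sup_frattini_le hP ({p₁, p₂} : Finset P)
        rw [h1, Subgroup.card_eq_card_quotient_mul_card_subgroup (frattini P),
          mul_comm (Nat.card (frattini P))] at h2
        have h4 : (2 : ℕ) ^ ({p₁, p₂} : Finset P).card ≤ 8 :=
          (Nat.pow_le_pow_right (by norm_num) Finset.card_le_two).trans (by norm_num)
        exact (Nat.le_of_mul_le_mul_right h2 Nat.card_pos).trans h4
      · push Not at hall
        obtain ⟨r, hr⟩ := hall
        have htop : Subgroup.closure (({p₁, p₂, r} : Finset P) : Set P) = ⊤ :=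
          hcover r (Subgroup.subset_closure (by simp)) hr (by
            rw [← hp12]; exact Subgroup.closure_mono (by intro t ht; rcases ht with rfl | rfl <;> simp))
        have h2 := PGroup.card_closure_sup_frattini_le hP ({p₁, p₂, r} : Finset P)
        rw [htop, top_sup_eq, Subgroup.card_top,
          Subgroup.card_eq_card_quotient_mul_card_subgroup (frattini P),
          mul_comm (Nat.card (frattini P))] at h2
        have h4 : (2 : ℕ) ^ ({p₁, p₂, r} : Finset P).card ≤ 8 :=
          (Nat.pow_le_pow_right (by norm_num) Finset.card_le_three).trans (by norm_num)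
        exact (Nat.le_of_mul_le_mul_right h2 Nat.card_pos).trans h4
    -- index at most two
    have htwo : ∀ x y, x ∉ U → y ∉ U → x * y ∈ U := by
      have hmem : ∀ x t, t ∈ U → ρ x = ρ t → x ∈ U := fun x t ht h => by
        simpa using mul_mem ht (Subgroup.mem_sup_right (QuotientGroup.eq.1 h.symm) : t⁻¹ * x ∈ U)
      have hq : (q₀ : P) ∈ U := Subgroup.mem_sup_left q₀.2
      have haq : α (q₀ : P) ∈ U := Subgroup.mem_sup_left (hQα _ q₀.2)
      intro x y hx hy
      by_contra hxy
      have hx1 : ρ x ≠ 1 := fun h => hx (hmem x 1 (one_mem _) (by rw [h, map_one]))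
      have hx2 : ρ x ≠ ρ (q₀ : P) := fun h => hx (hmem x _ hq h)
      have hx3 : ρ x ≠ ρ (α q₀) := fun h => hx (hmem x _ haq h)
      have hx4 : ρ x ≠ ρ ((q₀ : P) * α q₀) := fun h => hx (hmem x _ (mul_mem hq haq) h)
      have hy1 : ∀ t ∈ U, ρ y ≠ ρ (x * t) := by
        intro t ht h
        apply hxy
        have h5 : ρ (x * y) = ρ t := by rw [map_mul, h, map_mul, ← mul_assoc, hsqP, one_mul]
        exact hmem _ t ht h5
      have hy2 : ∀ t ∈ U, ρ y ≠ ρ t := fun t ht h => hy (hmem y t ht h)
      let T : Finset (P ⧸ frattini P) := {1, ρ (q₀ : P), ρ (α q₀), ρ ((q₀ : P) * α q₀)}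
      have hTc : T.card = 4 := by
        have hr4 : ρ ((q₀ : P) * α q₀) ≠ 1 := fun h => hr2 (by
          rw [map_mul] at h; exact (mul_left_cancel (h.trans (hsqP _).symm)))
        rw [map_mul] at hr4
        show ({1, ρ (q₀ : P), ρ (α q₀), ρ ((q₀ : P) * α q₀)} : Finset (P ⧸ frattini P)).card = 4
        rw [map_mul]
        exact card_four hr1 hr3 (Ne.symm hr2) hr4
      have hTU : ∀ c ∈ T, ∃ t ∈ U, c = ρ t := by
        intro c hc
        simp only [T, Finset.mem_insert, Finset.mem_singleton] at hc
        rcases hc with rfl | rfl | rfl | rfl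
        exacts [⟨1, one_mem _, (map_one ρ).symm⟩, ⟨_, hq, rfl⟩, ⟨_, haq, rfl⟩,
          ⟨_, mul_mem hq haq, rfl⟩]
      have hxT : ρ x ∉ T := fun h => by
        obtain ⟨t, ht, hc⟩ := hTU _ h
        exact hx (hmem x t ht hc)
      let T2 : Finset (P ⧸ frattini P) := T ∪ T.image fun c => ρ x * c
      have hT2 : T2.card = 8 := by
        rw [Finset.card_union_of_disjoint, Finset.card_image_of_injective _ (mul_right_injective _),
          hTc]
        rw [Finset.disjoint_left]
        intro c hc hc'
        obtain ⟨d, hd, rfl⟩ := Finset.mem_image.1 hc'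
        obtain ⟨t, ht, hct⟩ := hTU _ hc
        obtain ⟨t', ht', rfl⟩ := hTU _ hd
        refine hx (hmem x (t * t'⁻¹) (mul_mem ht (inv_mem ht')) ?_)
        rw [map_mul, map_inv, ← hct, mul_inv_cancel_right]
      have hyT : ρ y ∉ T2 := by
        intro h
        rcases Finset.mem_union.1 h with h | h
        · obtain ⟨t, ht, hc⟩ := hTU _ h
          exact hy2 t ht hc
        · obtain ⟨c, hc, hce⟩ := Finset.mem_image.1 h
          obtain ⟨t, ht, rfl⟩ := hTU _ hc
          exact hy1 t ht (by rw [map_mul, hce])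
      haveI := Fintype.ofFinite (P ⧸ frattini P)
      have h9 := Finset.card_le_univ (insert (ρ y) T2)
      rw [Finset.card_insert_of_notMem hyT, hT2, ← Nat.card_eq_fintype_card] at h9
      omega
    obtain ⟨w₀, hw₀⟩ : ∃ w₀, Q ⊔ Subgroup.zpowers w₀ = ⊤ := by
      by_cases hall : ∀ y, y ∈ U
      · refine ⟨1, ?_⟩
        rw [Subgroup.zpowers_one_eq_bot, sup_bot_eq]
        exact frattini_nongenerating (eq_top_iff.2 fun y _ => hall y)
      · push Not at hall
        obtain ⟨r, hr⟩ := hall
        refine ⟨r, frattini_nongenerating (eq_top_iff.2 fun y _ => ?_)⟩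
        set S := Q ⊔ Subgroup.zpowers r ⊔ frattini P
        have hUS : U ≤ S := sup_le (le_sup_left.trans le_sup_left) le_sup_right
        by_cases hy : y ∈ U
        · exact hUS hy
        · have h1 : y * r⁻¹ ∈ U := htwo y r⁻¹ hy fun h => hr (by simpa using inv_mem h)
          have h2 : r ∈ S := Subgroup.mem_sup_left (Subgroup.mem_sup_right (Subgroup.mem_zpowers r))
          simpa using mul_mem (hUS h1) h2
    -- a fixed point in the coset
    let X := ↥Q
    let f : X → X := fun q => ⟨(w₀⁻¹ * α w₀) * α q, mul_mem (hgenQ w₀) (hQα q q.2)⟩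
    have hf : ∀ q : X, w₀ * ((f q : X) : P) = α (w₀ * q) := fun q => by
      show w₀ * ((w₀⁻¹ * α w₀) * α q) = _
      rw [map_mul]; group
    have hf3 : ∀ q, f (f (f q)) = q := fun q => Subtype.ext (mul_left_cancel (a := w₀) (by
      rw [hf, hf, hf, h3]))
    by_cases hfix : ∃ q, f q = q
    · obtain ⟨q, hq⟩ := hfix
      refine ⟨w₀ * q, ?_, ?_⟩
      · rw [← hf, hq]
      · refine eq_top_iff.2 (hw₀.ge.trans (sup_le le_sup_left (Subgroup.zpowers_le.2 ?_)))
        have h1 : (w₀ * q) * (q : P)⁻¹ ∈ Q ⊔ Subgroup.zpowers (w₀ * (q : P)) :=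
          mul_mem (Subgroup.mem_sup_right (Subgroup.mem_zpowers _))
            (Subgroup.mem_sup_left (inv_mem q.2))
        rwa [mul_inv_cancel_right] at h1
    · push Not at hfix
      obtain ⟨n, hn⟩ := hQp.exists_card_eq
      have h9 := three_dvd_card (f := f) hf3 hfix
      rw [hn] at h9
      exact absurd ((Nat.prime_dvd_prime_iff_eq Nat.prime_three Nat.prime_two).1
        (Nat.prime_three.dvd_of_dvd_pow h9)) (by norm_num)
  refine ⟨Q, w, hQn, rfl, hQα, hw, hwQ, ?_⟩
  rcases PGroup.MetacyclicTwo.homocyclic_or_quaternion_of_odd_aut hQp hQm hβodd hβ1 with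
    ⟨n, hn, hcomm, hcard, hexp⟩ | ⟨hc8, I, J, hI, hJ, hJI⟩
  · left
    obtain ⟨u', hu2', hu'⟩ : ∃ u : ↥Q, u * u = 1 ∧ β u ≠ u := by
      by_contra hc
      push Not at hc
      exact hβ1 (eq_one_of_fix_involutions hQp hcomm hβodd hc)
    have hu1' : u' ≠ 1 := fun h => hu' (by rw [h, map_one])
    set u : P := (u' : P) with hu
    have hu2 : u * u = 1 := congrArg Subtype.val hu2'
    have hu1 : u ≠ 1 := fun h => hu1' (Subtype.ext h)
    have hαu : α u ≠ u := fun h => hu' (Subtype.ext h)
    have hcQ : ∀ p ∈ Q, ∀ q ∈ Q, p * q = q * p := fun p hp q hq =>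
      congrArg Subtype.val (hcomm ⟨p, hp⟩ ⟨q, hq⟩)
    have hau2 : α u * α u = 1 := by rw [← map_mul, hu2, map_one]
    have hau1 : α u ≠ 1 := fun h => hu1 (α.map_eq_one_iff.1 h)
    have hinv : ∀ v ∈ Q, v * v = 1 → v = 1 ∨ v = u ∨ v = α u ∨ v = u * α u := fun v hv hv2 =>
      four_mem hQm u'.2 (hQα u u'.2) hv hu2 hau2 hv2 (hcQ _ u'.2 _ (hQα u u'.2)) (hcQ _ u'.2 _ hv)
        (hcQ _ (hQα u u'.2) _ hv) hu1 hau1 (Ne.symm hαu)
    have hne2 : ∀ v, α v = v → v = u ∨ v = α u ∨ v = u * α u → False := by
      rintro v hv (rfl | rfl | rfl)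
      · exact hαu hv
      · exact hαu (α.injective hv)
      · apply hαu
        rw [map_mul, hcQ _ u'.2 _ (hQα u u'.2)] at hv
        have h4 : α (α u) = u := mul_left_cancel hv
        have h5 := congrArg α h4
        rw [h3] at h5
        exact h5.symm
    have hn3 : α (α u) = u * α u := by
      rcases hinv _ (hQα _ (hQα u u'.2)) (by rw [← map_mul, hau2, map_one]) with h | h | h | h
      · exact absurd (α.map_eq_one_iff.1 (α.map_eq_one_iff.1 h)) hu1
      · exfalso
        have h5 := congrArg α h
        rw [h3] at h5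
        exact hαu h5.symm
      · exact absurd (α.injective h) hαu
      · exact h
    refine ⟨u, hcQ, u'.2, hu2, hu1, hαu, hn3, hinv, fun q hq hqf => ?_, ⟨q₀, q₀.2, hgenP⟩⟩
    by_contra hq1
    obtain ⟨m, hm⟩ := hQp ⟨q, hq⟩
    have hm' : q ^ 2 ^ m = 1 := congrArg Subtype.val hm
    clear hm
    revert q
    induction m with
    | zero => intro q hq hqf hq1 h; rw [pow_zero, pow_one] at h; exact hq1 h
    | succ m ih =>
      intro q hq hqf hq1 h
      by_cases h2 : q * q = 1
      · rcases hinv q hq h2 with h4 | h4 | h4 | h4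
        · exact hq1 h4
        · exact hne2 q hqf (Or.inl h4)
        · exact hne2 q hqf (Or.inr (Or.inl h4))
        · exact hne2 q hqf (Or.inr (Or.inr h4))
      · exact ih (q * q) (mul_mem hq hq) (by rw [map_mul, hqf]) h2
          (by rw [← pow_two, ← pow_mul, ← pow_succ']; exact h)
  · right
    have hJinv : J * I * J⁻¹ = I⁻¹ := hJI
    have hI4 : I ^ 4 = 1 := hI ▸ pow_orderOf_eq_one I
    have hI2 : I * I ≠ 1 := fun h => by
      have := orderOf_dvd_of_pow_eq_one (show I ^ 2 = 1 by rw [pow_two]; exact h)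
      rw [hI] at this
      norm_num at this
    set Z := I * I with hZ
    have hZ2 : Z * Z = 1 := by
      calc Z * Z = I ^ 4 := by rw [hZ]; simp [pow_succ, mul_assoc]
        _ = 1 := hI4
    -- all elements
    have hIi : I⁻¹ = Z * I := by
      rw [hZ]
      exact inv_eq_of_mul_eq_one_right (by
        calc I * (I * I * I) = I ^ 4 := by simp [pow_succ, mul_assoc]
          _ = 1 := hI4)
    have hJinvI : J * J = Z := by rw [hZ, ← pow_two, ← pow_two]; exact hJ
    have hJnotI : J ≠ 1 ∧ J ≠ Z ∧ J ≠ I ∧ J ≠ Z * I := by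
      have hk : ¬ Commute J I := fun h => hI2 (by
        have h1 := hJinv
        rw [h.eq, mul_inv_cancel_right] at h1
        exact eq_inv_iff_mul_eq_one.1 h1)
      refine ⟨fun h => hk ?_, fun h => hk ?_, fun h => hk ?_, fun h => hk ?_⟩ <;> rw [h]
      · exact Commute.one_left I
      · rw [hZ]; exact (Commute.refl I).mul_left (Commute.refl I)
      · rw [hZ]; exact ((Commute.refl I).mul_left (Commute.refl I)).mul_left (Commute.refl I)
    have hcases : ∀ y : ↥Q, y = 1 ∨ y = Z ∨ y = I ∨ y = Z * I ∨ y = J ∨ y = Z * J ∨ y = J * I ∨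
        y = Z * (J * I) := by
      intro y
      haveI := Fintype.ofFinite ↥Q
      rw [Nat.card_eq_fintype_card] at hc8
      have hcZ : ∀ t : ↥Q, t ∈ ({1, Z, I, Z * I} : Finset ↥Q) → Commute t I := by
        intro t ht
        simp only [Finset.mem_insert, Finset.mem_singleton] at ht
        have hZI : Commute Z I := by rw [hZ]; exact (Commute.refl I).mul_left (Commute.refl I)
        rcases ht with h | h | h | h <;> rw [h]
        all_goals first
          | exact Commute.one_left I
          | exact hZI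
          | exact hZI.mul_left (Commute.refl I)
      have hsmall : ({1, Z, I, Z * I} : Finset ↥Q).card = 4 := by
        have hI1 : I ≠ 1 := fun h => hI2 (by rw [hZ, h, mul_one])
        have hZI1 : Z * I ≠ 1 := by rw [← hIi]; simpa using hI1
        have hIZ : I ≠ Z := fun h => hI1 (mul_left_cancel (a := I) (by rw [mul_one]; exact h.symm))
        have hIZI : I ≠ Z * I := fun h => hI2 (mul_right_cancel (h.symm.trans (one_mul I).symm))
        exact card_four hI2 hI1 (Ne.symm hIZ) hZI1
      let T : Finset ↥Q := {1, Z, I, Z * I}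
      have hJ' : ∀ t ∈ T, ¬ Commute (J * t) I := by
        intro t ht h
        have h1 : Commute J I := by
          have := h.mul_left (hcZ t ht).inv_left
          rwa [mul_inv_cancel_right] at this
        have h2 := hJinv
        rw [h1.eq, mul_inv_cancel_right] at h2
        exact hI2 (eq_inv_iff_mul_eq_one.1 h2)
      have hdis : Disjoint T (T.image (J * ·)) := by
        rw [Finset.disjoint_left]
        intro t ht ht'
        obtain ⟨s, hs, rfl⟩ := Finset.mem_image.1 ht'
        exact hJ' s hs (hcZ _ ht)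
      have h8 : (T ∪ T.image (J * ·)).card = Fintype.card ↥Q := by
        rw [Finset.card_union_of_disjoint hdis, Finset.card_image_of_injective _
          (mul_right_injective J), hc8]
        show ({1, Z, I, Z * I} : Finset ↥Q).card + ({1, Z, I, Z * I} : Finset ↥Q).card = 8
        rw [hsmall]
      have hy : y ∈ T ∪ T.image (J * ·) := by
        rw [Finset.eq_univ_of_card _ h8]; exact Finset.mem_univ y
      have hJZ : J * Z = Z * J := by
        rw [← hJinvI]; group
      simp only [T, Finset.mem_union, Finset.mem_image, Finset.mem_insert,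
        Finset.mem_singleton] at hy
      rcases hy with (h | h | h | h) | ⟨t, ht, rfl⟩
      · exact Or.inl h
      · exact Or.inr (Or.inl h)
      · exact Or.inr (Or.inr (Or.inl h))
      · exact Or.inr (Or.inr (Or.inr (Or.inl h)))
      · rcases ht with rfl | rfl | rfl | rfl
        · exact Or.inr (Or.inr (Or.inr (Or.inr (Or.inl (mul_one J)))))
        · exact Or.inr (Or.inr (Or.inr (Or.inr (Or.inr (Or.inl hJZ)))))
        · exact Or.inr (Or.inr (Or.inr (Or.inr (Or.inr (Or.inr (Or.inl rfl))))))
        · exact Or.inr (Or.inr (Or.inr (Or.inr (Or.inr (Or.inr (Or.inr (by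
            rw [← mul_assoc, hJZ, mul_assoc])))))))
    have hZc : ∀ y : ↥Q, y * Z = Z * y := by
      have hI' : I * Z = Z * I := by rw [hZ]; group
      have hJ' : J * Z = Z * J := by rw [← hJinvI]; group
      have hJI' : J * I * Z = Z * (J * I) := by rw [mul_assoc, hI', ← mul_assoc, hJ', mul_assoc]
      intro y
      rcases hcases y with rfl | rfl | rfl | rfl | rfl | rfl | rfl | rfl
      · simp
      · rfl
      · exact hI'
      · rw [mul_assoc, hI']
      · exact hJ'
      · rw [mul_assoc, hJ']
      · exact hJI'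
      · rw [mul_assoc, hJI']
    have hJI2 : (J * I) * (J * I) = Z := by
      calc (J * I) * (J * I) = (J * I * J⁻¹) * (J * J) * I := by group
        _ = Z := by rw [hJinv, hJinvI, hZ]; group
    have hsqcases : ∀ y : ↥Q, y = 1 ∨ y = Z ∨ y * y = Z := by
      have hs : ∀ y : ↥Q, (Z * y) * (Z * y) = y * y := fun y => by
        calc (Z * y) * (Z * y) = Z * (y * Z) * y := by group
          _ = (Z * Z) * (y * y) := by rw [hZc]; group
          _ = _ := by rw [hZ2, one_mul]
      intro y
      rcases hcases y with rfl | rfl | rfl | rfl | rfl | rfl | rfl | rfl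
      · exact Or.inl rfl
      · exact Or.inr (Or.inl rfl)
      · exact Or.inr (Or.inr hZ.symm)
      · exact Or.inr (Or.inr (by rw [hs, ← hZ]))
      · exact Or.inr (Or.inr hJinvI)
      · exact Or.inr (Or.inr (by rw [hs]; exact hJinvI))
      · exact Or.inr (Or.inr hJI2)
      · exact Or.inr (Or.inr (by rw [hs]; exact hJI2))
    have hβZ : β Z = Z := by
      rcases hsqcases (β Z) with h | h | h
      · exact absurd (β.map_eq_one_iff.1 h) hI2
      · exact h
      · rw [← map_mul, hZ2, map_one] at h; exact absurd h.symm hI2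
    -- the images of `I`
    set v := β I with hv
    have hvnI : ¬ Commute v I := by
      intro hc
      -- otherwise `⟨I⟩` is invariant and `β` is trivial
      have hvI : v = I ∨ v = Z * I := by
        have hno : ∀ t : ↥Q, Commute t I → ¬ Commute (J * t) I := by
          intro t ht h
          have h1 : Commute J I := by
            have := h.mul_left ht.inv_left
            rwa [mul_inv_cancel_right] at this
          have h2 := hJinv
          rw [h1.eq, mul_inv_cancel_right] at h2
          exact hI2 (eq_inv_iff_mul_eq_one.1 h2)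
        have hJn : ¬ Commute J I := fun h => hno 1 (Commute.one_left I) (by rwa [mul_one])
        have hJIn : ¬ Commute (J * I) I := hno I (Commute.refl I)
        have hZI : Commute Z I := (hZc I).symm
        rcases hcases v with h | h | h | h | h | h | h | h
        · exfalso; exact hI2 (by rw [hZ, β.map_eq_one_iff.1 h, mul_one])
        · exfalso
          have h1 : I = Z := β.injective (h.trans hβZ.symm)
          exact hI2 (by rw [hZ]; rw [← h1] at hZ2; exact hZ2)
        · exact Or.inl h
        · exact Or.inr h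
        · exact absurd (h ▸ hc) hJn
        · refine absurd ?_ hJn
          have h' : Commute (Z * J) I := h ▸ hc
          have h'' := hZI.mul_left h'
          rwa [← mul_assoc, hZ2, one_mul] at h''
        · exact absurd (h ▸ hc) hJIn
        · refine absurd ?_ hJIn
          have h' : Commute (Z * (J * I)) I := h ▸ hc
          have h'' := hZI.mul_left h'
          rwa [← mul_assoc, hZ2, one_mul] at h''
      have hvI' : v = I := by
        rcases hvI with h | h
        · exact h
        · exfalso
          have h1 : β v = I := by rw [h, map_mul, hβZ, ← hv, h, ← mul_assoc, hZ2, one_mul]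
          have h2 : β (β v) = v := congrArg β h1
          have h3' : β (β v) = I := Subtype.ext (h3 (I : P))
          rw [h3'] at h2
          rw [← h2] at h
          exact hI2 (mul_right_cancel (h.symm.trans (one_mul I).symm))
      refine hβ1 ?_
      -- `β` fixes `I`; on the other coset it is a translation
      have hp : ∀ y : ↥Q, β (β (β y)) = y := fun y => Subtype.ext (h3 (y : P))
      have hJfix : β J = J := by
        have hcasesJ := hcases (β J)
        rcases hcasesJ with h | h | h | h | h | h | h | h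
        · exact absurd (β.map_eq_one_iff.1 h) hJnotI.1
        · exact absurd (β.injective (h.trans hβZ.symm)) hJnotI.2.1
        · exact absurd (β.injective (h.trans hvI'.symm)) hJnotI.2.2.1
        · exact absurd (β.injective (h.trans (by rw [map_mul, hβZ, ← hv, hvI']))) hJnotI.2.2.2
        · exact h
        · exfalso
          have h1 := hp J
          rw [h, map_mul, hβZ, h, ← mul_assoc, hZ2, one_mul, h] at h1
          exact hI2 (mul_right_cancel (h1.trans (one_mul J).symm))
        · exfalso
          have h1 := hp J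
          rw [h, map_mul, ← hv, hvI', h, map_mul, map_mul, ← hv, hvI', h, mul_assoc (J * I),
            mul_assoc J] at h1
          have h2 : I * (I * I) = 1 := mul_eq_left.1 h1
          have h5 : I ^ 3 = 1 := by rw [← h2]; simp [pow_succ, mul_assoc]
          have := orderOf_dvd_of_pow_eq_one h5
          rw [hI] at this
          norm_num at this
        · exfalso
          have h0 : β J = J * I⁻¹ := by
            rw [h, hIi, ← mul_assoc J Z I, hZc J, mul_assoc Z J I]
          have h1 := hp J
          rw [h0, map_mul, map_inv, ← hv, hvI', h0, map_mul, map_mul, map_inv, ← hv, hvI', h0,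
            mul_assoc (J * I⁻¹), mul_assoc J] at h1
          have h2 : I⁻¹ * (I⁻¹ * I⁻¹) = 1 := mul_eq_left.1 h1
          have h5 : I ^ 3 = 1 := by
            calc I ^ 3 = (I⁻¹ * (I⁻¹ * I⁻¹))⁻¹ := by simp [pow_succ, mul_assoc]
              _ = 1 := by rw [h2, inv_one]
          have := orderOf_dvd_of_pow_eq_one h5
          rw [hI] at this
          norm_num at this
      refine MulEquiv.ext fun y => ?_
      rcases hcases y with rfl | rfl | rfl | rfl | rfl | rfl | rfl | rfl <;>
        simp only [map_one, map_mul, hβZ, hJfix, ← hv, hvI', MulAut.one_apply]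
    have hv2 : v * v = Z := by rw [hv, ← map_mul, ← hZ, hβZ]
    set v2 := β v with hv2def
    have hanti : ∀ p q : ↥Q, p * p = Z → q * q = Z → ¬ Commute p q → p * q * p⁻¹ = q⁻¹ := by
      intro p q hp hq hne
      have hpq : (p * q) * (p * q) = Z := by
        rcases hsqcases (p * q) with h | h | h
        · exact absurd ((inv_eq_of_mul_eq_one_right h) ▸ (Commute.refl p).inv_right) hne
        · exfalso
          apply hne
          have h1 : q = p⁻¹ * Z := by rw [← h]; group
          rw [h1]
          exact ((Commute.refl p).inv_right).mul_right (hZc p)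
        · exact h
      calc p * q * p⁻¹ = (p * q) * (p * q) * q⁻¹ * (p * p)⁻¹ := by group
        _ = Z * q⁻¹ * Z⁻¹ := by rw [hpq, hp]
        _ = q⁻¹ := by rw [← hZc]; group
    have hvv2 : ¬ Commute v v2 := fun h => hvnI (by
      have h1 := h.map β.symm.toMonoidHom
      simpa [hv2def, hv] using h1.symm)
    have hIv2 : ¬ Commute v2 I := by
      intro h
      have h1 := h.map β.toMonoidHom
      have h5 : β v2 = I := Subtype.ext (h3 (I : P))
      exact hvnI (by simpa [h5, ← hv] using h1.symm)
    have hcl : ∀ y : ↥Q, y = 1 ∨ y = Z ∨ y = I ∨ y = Z * I ∨ y = v ∨ y = Z * v ∨ y = v2 ∨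
        y = Z * v2 := by
      have hne : ∀ p q : ↥Q, ¬ Commute p q → p ≠ q ∧ p ≠ Z * q := fun p q h =>
        ⟨fun e => h (e ▸ Commute.refl p), fun e => h (e ▸ (Commute.mul_left (hZc q).symm (Commute.refl q) : Commute (Z * q) q))⟩
      have hZl : ∀ {p q : ↥Q}, p = Z * q → q = Z * p := fun h => by
        rw [h, ← mul_assoc, hZ2, one_mul]
      have hclass : ∀ y : ↥Q, y ≠ 1 → y ≠ Z → (y = I ∨ y = Z * I) ∨ (y = J ∨ y = Z * J) ∨
          (y = J * I ∨ y = Z * (J * I)) := fun y h1 h2 => by
        rcases hcases y with h | h | h | h | h | h | h | h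
        exacts [absurd h h1, absurd h h2, Or.inl (Or.inl h), Or.inl (Or.inr h),
          Or.inr (Or.inl (Or.inl h)), Or.inr (Or.inl (Or.inr h)), Or.inr (Or.inr (Or.inl h)),
          Or.inr (Or.inr (Or.inr h))]
      have hv1 : v ≠ 1 := fun h => hvnI (h ▸ Commute.one_left I)
      have hvZ : v ≠ Z := fun h => hvnI (h ▸ (hZc I).symm)
      have hw1 : v2 ≠ 1 := fun h => hIv2 (h ▸ Commute.one_left I)
      have hwZ : v2 ≠ Z := fun h => hIv2 (h ▸ (hZc I).symm)
      have hdiff : ∀ a c d : ↥Q, (a = c ∨ a = Z * c) → (d = c ∨ d = Z * c) → Commute a d := by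
        intro a c d ha hd
        have hzc : Commute (Z * c) c := Commute.mul_left (hZc c).symm (Commute.refl c)
        rcases ha with rfl | rfl <;> rcases hd with rfl | rfl
        exacts [Commute.refl _, hzc.symm, hzc, Commute.refl _]
      intro y
      by_cases hy1 : y = 1
      · exact Or.inl hy1
      by_cases hyZ : y = Z
      · exact Or.inr (Or.inl hyZ)
      -- same class
      have hsame : ∀ c d : ↥Q, (d = c ∨ d = Z * c) → (y = c ∨ y = Z * c) → y = d ∨ y = Z * d := by
        intro c d hd hy
        rcases hy with rfl | rfl <;> rcases hd with rfl | rfl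
        · exact Or.inl rfl
        · exact Or.inr (by rw [← mul_assoc, hZ2, one_mul])
        · exact Or.inr rfl
        · exact Or.inl rfl
      have hfinv : ∀ c, (v = c ∨ v = Z * c) → (y = c ∨ y = Z * c) → y = 1 ∨ y = Z ∨ y = I ∨
          y = Z * I ∨ y = v ∨ y = Z * v ∨ y = v2 ∨ y = Z * v2 := fun c hc hy => by
        rcases hsame c v hc hy with h | h
        exacts [Or.inr (Or.inr (Or.inr (Or.inr (Or.inl h)))),
          Or.inr (Or.inr (Or.inr (Or.inr (Or.inr (Or.inl h)))))]
      have hfinw : ∀ c, (v2 = c ∨ v2 = Z * c) → (y = c ∨ y = Z * c) → y = 1 ∨ y = Z ∨ y = I ∨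
          y = Z * I ∨ y = v ∨ y = Z * v ∨ y = v2 ∨ y = Z * v2 := fun c hc hy => by
        rcases hsame c v2 hc hy with h | h
        exacts [Or.inr (Or.inr (Or.inr (Or.inr (Or.inr (Or.inr (Or.inl h)))))),
          Or.inr (Or.inr (Or.inr (Or.inr (Or.inr (Or.inr (Or.inr h))))))]
      rcases hclass y hy1 hyZ with hy | hy | hy
      · rcases hy with h | h
        exacts [Or.inr (Or.inr (Or.inl h)), Or.inr (Or.inr (Or.inr (Or.inl h)))]
      all_goals rcases hclass v hv1 hvZ with hc | hc | hc
      all_goals rcases hclass v2 hw1 hwZ with hd | hd | hd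
      all_goals first
        | exact absurd (hdiff _ _ _ hc (Or.inl rfl)) hvnI
        | exact absurd (hdiff _ _ _ hd (Or.inl rfl)) hIv2
        | exact absurd (hdiff _ _ _ hc hd) hvv2
        | exact hfinv _ hc hy
        | exact hfinw _ hd hy
    refine ⟨(I : P), (Z : P), I.2, rfl, fun h => hI2 (Subtype.ext h), congrArg Subtype.val hZ2,
      congrArg Subtype.val hβZ, fun p => ?_, ?_, ?_, fun q hq => ?_, ?_⟩
    · have hc : p * (Z : P) * p⁻¹ ∈ Q := hQn.conj_mem _ Z.2 p
      have hcs : p * (Z : P) * p⁻¹ * (p * (Z : P) * p⁻¹) = 1 := by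
        calc p * (Z : P) * p⁻¹ * (p * (Z : P) * p⁻¹) = p * ((Z : P) * (Z : P)) * p⁻¹ := by group
          _ = 1 := by rw [← Subgroup.coe_mul, hZ2]; simp
      rcases hsqcases ⟨_, hc⟩ with h | h | h
      · exfalso
        exact hI2 (Subtype.ext (conj_eq_one_iff.1 (congrArg Subtype.val h :)))
      · exact mul_inv_eq_iff_eq_mul.1 (congrArg Subtype.val h :)
      · exfalso
        exact hI2 (Subtype.ext ((congrArg Subtype.val h :).symm.trans hcs))
    · exact congrArg Subtype.val (hanti I v rfl hv2 fun h => hvnI h.symm)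
    · exact congrArg Subtype.val (hanti v I hv2 rfl hvnI)
    · rcases hcl ⟨q, hq⟩ with h | h | h | h | h | h | h | h <;>
        [left; (right; left); (right; right; left); (right; right; right; left);
          (right; right; right; right; left); (right; right; right; right; right; left);
          (right; right; right; right; right; right; left);
          (right; right; right; right; right; right; right)] <;>
        exact congrArg Subtype.val h
    · have htop : Subgroup.closure ({I, v} : Set ↥Q) = ⊤ := eq_top_iff.2 fun y _ => by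
        set S := Subgroup.closure ({I, v} : Set ↥Q)
        have hIS : I ∈ S := Subgroup.subset_closure (by simp)
        have hvS : v ∈ S := Subgroup.subset_closure (by simp)
        have hZS : Z ∈ S := mul_mem hIS hIS
        have hv2S : v2 ∈ S := by
          have hneq : I * v ≠ 1 ∧ I * v ≠ Z := by
            refine ⟨fun h => hvnI ?_, fun h => hvnI ?_⟩
            · rw [eq_inv_of_mul_eq_one_right h]; exact (Commute.refl I).inv_left
            · have h1 : v = I⁻¹ * Z := by rw [← h]; group
              rw [h1]; exact (Commute.refl I).inv_left.mul_left (hZc I).symm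
          rcases hcl (I * v) with h | h | h | h | h | h | h | h
          · exact absurd h hneq.1
          · exact absurd h hneq.2
          · exact absurd ((mul_eq_left.1 h) ▸ Commute.one_left I) hvnI
          · exfalso
            apply hvnI
            have h1 : v = I⁻¹ * (Z * I) := by rw [← h]; group
            rw [h1]
            exact (Commute.refl I).inv_left.mul_left (Commute.mul_left (hZc I).symm (Commute.refl I) : Commute (Z * I) I)
          · exact absurd ((mul_eq_right.1 h) ▸ Commute.one_right v) hvnI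
          · exfalso
            apply hvnI
            rw [mul_right_cancel h]
            exact hZc v
          · exact h ▸ mul_mem hIS hvS
          · have h1 : v2 = Z * (I * v) := by rw [h, ← mul_assoc, hZ2, one_mul]
            rw [h1]; exact mul_mem hZS (mul_mem hIS hvS)
        rcases hcl y with rfl | rfl | rfl | rfl | rfl | rfl | rfl | rfl
        exacts [one_mem S, hZS, hIS, mul_mem hZS hIS, hvS, mul_mem hZS hvS, hv2S, mul_mem hZS hv2S]
      have h1 := congrArg (Subgroup.map Q.subtype) htop
      rw [MonoidHom.map_closure, Set.image_pair, ← MonoidHom.range_eq_map,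
        Subgroup.range_subtype] at h1
      exact h1.symm

end Cfsg.Agent.Bicyclic2
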