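import Cfsg.Agent.Lib.Bicyclic2.Frame
import Cfsg.Agent.Lib.PGroup.MetacyclicTwo

/-!
The structure of a nonmetacyclic bicyclic 2-group: the Frattini subgroup and one maximal subgroup
are metacyclic, automorphisms of odd order are trivial, and when the commutator subgroup is cyclic
there are generators with `b²` a square in it.
-/

set_option autoImplicit false

namespace Cfsg.Agent.Bicyclic2

open scoped commutatorElement
open Cfsg.Agent

variable {G : Type*} [Group G] [Finite G]

theorem closure_image_top {H : Type*} [Group H] (f : G →* H) (hf : Function.Surjective f)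
    {s : Set G} (h : Subgroup.closure s = ⊤) : Subgroup.closure (f '' s) = ⊤ := by
  rw [← MonoidHom.map_closure, h, Subgroup.map_top_of_surjective f hf]

theorem isPGroup_sub (hG : IsPGroup 2 G) (M : Subgroup G) {N : Subgroup G} (hN : M ≤ N) :
    IsPGroup 2 M :=
  (hG.to_subgroup N).to_le hN

/-- Squares lie in a subgroup of index two. -/
theorem sq_mem_of_index_two (hG : IsPGroup 2 G) {M : Subgroup G} (hM : M.index = 2) (x : G) :
    x * x ∈ M := by
  haveI : Fact (Nat.Prime 2) := ⟨Nat.prime_two⟩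
  haveI := PGroup.normal_of_index_eq hG hM
  have := PGroup.pow_mem_of_index_eq M hM x
  rwa [pow_two] at this

theorem commutator_le_of_index_two (hG : IsPGroup 2 G) {M : Subgroup G} (hM : M.index = 2) :
    commutator G ≤ M := by
  haveI : Fact (Nat.Prime 2) := ⟨Nat.prime_two⟩
  haveI := PGroup.normal_of_index_eq hG hM
  exact PGroup.commutator_le_of_index_eq M hM

theorem sq_mem_frattini (hG : IsPGroup 2 G) (x : G) : x * x ∈ frattini G := by
  haveI : Fact (Nat.Prime 2) := ⟨Nat.prime_two⟩
  have := PGroup.pow_mem_frattini hG x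
  rwa [pow_two] at this

/-- The image of a subgroup of index two in a coordinate quotient is abelian. -/
theorem comm_of_index_two (hG : IsPGroup 2 G) {N : Subgroup G} [N.Normal] (hN : N ≤ commutator G)
    {a b : G} (hgen : Subgroup.closure {a, b} = ⊤) {r s : ℕ}
    (hW : WData (a : G ⧸ N) (b : G ⧸ N) r s) {H : Subgroup G} (hH : H.index = 2)
    {x y : G} (hx : x ∈ H) (hy : y ∈ H) : Commute (x : G ⧸ N) (y : G ⧸ N) := by
  set A : G ⧸ N := (a : G ⧸ N) with hA
  set B : G ⧸ N := (b : G ⧸ N) with hB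
  set e := ⁅A, B⁆ with he
  have hHN : N ≤ H := hN.trans (commutator_le_of_index_two hG hH)
  have hmemN : ∀ g g' : G, (g : G ⧸ N) = g' → g ∈ H → g' ∈ H := fun g g' h hg => by
    simpa using mul_mem hg (hHN (QuotientGroup.eq.1 h))
  have hcomm : ⁅a, b⁆ ∈ H :=
    commutator_le_of_index_two hG hH
      (Subgroup.commutator_mem_commutator (Subgroup.mem_top a) (Subgroup.mem_top b))
  have hform : ∀ g : G, ∀ i j k : ℤ, (g : G ⧸ N) = A ^ i * B ^ j * e ^ k →
      g ∈ H → a ^ i * b ^ j ∈ H := by
    intro g i j k hg hgH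
    have h1 : a ^ i * b ^ j * ⁅a, b⁆ ^ k ∈ H := by
      refine hmemN g _ ?_ hgH
      rw [hg, he, hA, hB, QuotientGroup.mk_mul, QuotientGroup.mk_mul, QuotientGroup.mk_zpow,
        QuotientGroup.mk_zpow, QuotientGroup.mk_zpow]
      rfl
    simpa using mul_mem h1 (inv_mem (zpow_mem hcomm k))
  have ha2 : a * a ∈ H := sq_mem_of_index_two hG hH a
  have hb2 : b * b ∈ H := sq_mem_of_index_two hG hH b
  have heven : ∀ (g : G) (i : ℤ), g * g ∈ H → g ^ (2 * i) ∈ H := fun g i hg => by
    rw [zpow_mul, zpow_two]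
    exact zpow_mem hg i
  have hred : ∀ i j : ℤ, a ^ i * b ^ j ∈ H → a ^ (i % 2) * b ^ (j % 2) ∈ H := by
    intro i j h
    have h1 : a ^ i * b ^ j = a ^ (2 * (i / 2)) * (a ^ (i % 2) * b ^ (j % 2)) * b ^ (2 * (j / 2)) := by
      rw [← mul_assoc, ← zpow_add, mul_assoc, ← zpow_add]
      congr 2 <;> omega
    rw [h1] at h
    exact (Subgroup.mul_mem_cancel_left H (heven a _ ha2)).1
      ((Subgroup.mul_mem_cancel_right H (heven b _ hb2)).1 h)
  have htop : ¬ (a ∈ H ∧ b ∈ H) := by
    rintro ⟨h1, h2⟩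
    have : H = ⊤ := by
      rw [eq_top_iff, ← hgen, Subgroup.closure_le]
      rintro g (rfl | rfl) <;> assumption
    rw [this, Subgroup.index_top] at hH
    omega
  obtain ⟨i, j, k, hxf⟩ := hW.exists_form (x : G ⧸ N)
  obtain ⟨u, v, t, hyf⟩ := hW.exists_form (y : G ⧸ N)
  have hdet : (2 : ℤ) ∣ j * u - v * i := by
    have h1 := hred _ _ (hform x i j k hxf hx)
    have h2 := hred _ _ (hform y u v t hyf hy)
    rw [Int.dvd_iff_emod_eq_zero, Int.sub_emod, Int.mul_emod, Int.mul_emod v]
    rcases Int.emod_two_eq i with hi | hi <;> rcases Int.emod_two_eq j with hj | hj <;>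
      rcases Int.emod_two_eq u with hu | hu <;> rcases Int.emod_two_eq v with hv | hv <;>
      rw [hi, hj] at h1 <;> rw [hu, hv] at h2 <;>
      simp only [zpow_zero, zpow_one, one_mul, mul_one] at h1 h2 <;>
      rw [hi, hj, hu, hv] <;>
      first
        | (norm_num; done)
        | exact (htop ⟨h1, h2⟩).elim
        | exact (htop ⟨h2, h1⟩).elim
        | exact (htop ⟨h1, (Subgroup.mul_mem_cancel_left H h1).1 h2⟩).elim
        | exact (htop ⟨h2, (Subgroup.mul_mem_cancel_left H h2).1 h1⟩).elim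
        | exact (htop ⟨(Subgroup.mul_mem_cancel_right H h1).1 h2, h1⟩).elim
        | exact (htop ⟨(Subgroup.mul_mem_cancel_right H h2).1 h1, h2⟩).elim
  obtain ⟨d, hd⟩ := hdet
  rw [hxf, hyf]
  unfold Commute SemiconjBy
  rw [hW.mul_form, hW.mul_form, add_comm i, add_comm j]
  congr 1
  rw [show k + t + j * u = (t + k + v * i) + 2 * d by rw [← hd]; ring, zpow_add _ _ (2 * d),
    zpow_mul, zpow_two, hW.sq, one_zpow, mul_one]

/-- The three involutions of the minimal quotient. -/
theorem three_images {N : Subgroup G} [N.Normal] {a b : G} {r s : ℕ}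
    (hW : WData (a : G ⧸ N) (b : G ⧸ N) r s) {H : Subgroup G} (hc : ⁅a, b⁆ ∈ H)
    (ha : a ^ 2 ^ (r - 1) ∈ H) (hb : b ^ 2 ^ (s - 1) ∈ H)
    (hab : ∀ x ∈ H, ∀ y ∈ H, Commute (x : G ⧸ N) (y : G ⧸ N)) : ¬ Gen2 H := by
  intro h
  set A : G ⧸ N := (a : G ⧸ N)
  set B : G ⧸ N := (b : G ⧸ N)
  have hr : r - 1 + 1 = r := by have := hW.two_le; omega
  have hs : s - 1 + 1 = s := by have := hW.one_le; omega
  have hdvd : ∀ {n : ℕ} {i : ℕ}, (2 : ℤ) ^ n ∣ ((2 ^ i : ℕ) : ℤ) → n ≤ i := by
    intro n i h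
    have h' : 2 ^ n ∣ 2 ^ i := by exact_mod_cast h
    exact (Nat.pow_dvd_pow_iff_le_right (by norm_num)).1 h'
  have hu2 : A ^ 2 ^ (r - 1) * A ^ 2 ^ (r - 1) = 1 := by
    rw [← pow_add, ← two_mul, ← pow_succ', hr, hW.powA]
  have hv2 : B ^ 2 ^ (s - 1) * B ^ 2 ^ (s - 1) = 1 := by
    rw [← pow_add, ← two_mul, ← pow_succ', hs, hW.powB]
  have hu1 : A ^ 2 ^ (r - 1) ≠ 1 := fun h1 => by
    have := hdvd (hW.coord ((2 ^ (r - 1) : ℕ) : ℤ) 0 0 (by simp only [zpow_natCast, zpow_zero, mul_one]; exact h1)).1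
    omega
  have hmem : ∀ g ∈ H, (g : G ⧸ N) ∈ H.map (QuotientGroup.mk' N) := fun g hg => ⟨g, hg, rfl⟩
  rcases four_mem_of_gen2 (H := H.map (QuotientGroup.mk' N)) (by
      rintro _ ⟨x, hx, rfl⟩ _ ⟨y, hy, rfl⟩
      exact (hab x hx y hy).eq) (h.map _)
      (u := ⁅A, B⁆) (v := A ^ 2 ^ (r - 1)) (w := B ^ 2 ^ (s - 1))
      (hmem _ hc) (hmem _ ha) (hmem _ hb) hW.sq hu2 hv2 hW.ne hu1 (fun h1 => by
        have := (hW.coord (-((2 ^ (r - 1) : ℕ) : ℤ)) 0 1 (by
          rw [zpow_zero, mul_one, zpow_one, zpow_neg, zpow_natCast, h1, inv_mul_cancel])).2.2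
        omega) with h1 | h1 | h1 | h1
  · have := hdvd (hW.coord 0 ((2 ^ (s - 1) : ℕ) : ℤ) 0
      (by simp only [zpow_natCast, zpow_zero, mul_one, one_mul]; exact h1)).2.1
    omega
  · have := hdvd (hW.coord 0 ((2 ^ (s - 1) : ℕ) : ℤ) 1
      (by simp only [zpow_natCast, zpow_zero, one_mul, zpow_one]; rw [h1, hW.sq])).2.1
    omega
  · have := hdvd (hW.coord ((2 ^ (r - 1) : ℕ) : ℤ) ((2 ^ (s - 1) : ℕ) : ℤ) 0
      (by simp only [zpow_natCast, zpow_zero, mul_one]; rw [h1, hu2])).2.1
    omega
  · have := (hW.coord ((2 ^ (r - 1) : ℕ) : ℤ) ((2 ^ (s - 1) : ℕ) : ℤ) 1 (by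
      simp only [zpow_natCast, zpow_one]
      rw [h1]
      calc A ^ 2 ^ (r - 1) * (⁅A, B⁆ * A ^ 2 ^ (r - 1)) * ⁅A, B⁆
          = A ^ 2 ^ (r - 1) * A ^ 2 ^ (r - 1) * (⁅A, B⁆ * ⁅A, B⁆) := by
            rw [← (hW.central (A ^ 2 ^ (r - 1))).eq]; simp only [mul_assoc]
        _ = 1 := by rw [hu2, hW.sq, one_mul])).2.1
    have := hdvd this
    omega

/-- Frattini subgroup two generated: the coordinate `s` is one. -/
theorem s_eq_one (hG : IsPGroup 2 G) (hΦ : Gen2 (frattini G)) {N : Subgroup G} [N.Normal]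
    (hN : N ≤ commutator G) {a b : G} (hgen : Subgroup.closure {a, b} = ⊤) {r s : ℕ}
    (hW : WData (a : G ⧸ N) (b : G ⧸ N) r s) : s = 1 := by
  haveI : Fact (Nat.Prime 2) := ⟨Nat.prime_two⟩
  by_contra hs
  have hs2 : 2 ≤ s := by have := hW.one_le; omega
  have hr2 := hW.two_le
  refine three_images hW (H := frattini G) ?_ ?_ ?_ ?_ hΦ
  · exact PGroup.commutator_le_frattini hG
      (Subgroup.commutator_mem_commutator (Subgroup.mem_top a) (Subgroup.mem_top b))
  · rw [show r - 1 = (r - 2) + 1 by omega, pow_succ, pow_mul, pow_two]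
    exact sq_mem_frattini hG _
  · rw [show s - 1 = (s - 2) + 1 by omega, pow_succ, pow_mul, pow_two]
    exact sq_mem_frattini hG _
  · intro x hx y hy
    obtain ⟨M, hM⟩ : ∃ M : Subgroup G, M.index = 2 := by
      obtain ⟨M, hM, -⟩ := (eq_top_or_exists_le_coatom (⊥ : Subgroup G)).resolve_left (by
        intro h0
        have : Subsingleton G := subsingleton_iff.2 fun p q => by
          have hp : p ∈ (⊥ : Subgroup G) := h0 ▸ Subgroup.mem_top p
          have hq : q ∈ (⊥ : Subgroup G) := h0 ▸ Subgroup.mem_top q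
          rw [Subgroup.mem_bot.1 hp, Subgroup.mem_bot.1 hq]
        exact hW.ne (by rw [Subsingleton.elim a 1]; simp))
      exact ⟨M, PGroup.index_of_isCoatom hG hM⟩
    have hle : frattini G ≤ M :=
      frattini_le_coatom (PGroup.isCoatom_of_index_eq hM)
    exact comm_of_index_two hG hN hgen hW hM (hle hx) (hle hy)

/-- The maximal subgroup with three involutions in its image. -/
theorem exists_not_gen2 (hG : IsPGroup 2 G) {N : Subgroup G} [N.Normal]
    (hN : N ≤ commutator G) {a b : G} (hgen : Subgroup.closure {a, b} = ⊤) {r s : ℕ}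
    (hW : WData (a : G ⧸ N) (b : G ⧸ N) r s) :
    ∃ M : Subgroup G, M.index = 2 ∧ ¬ Gen2 M ∧ b ∈ M ∧ a ∉ M := by
  set A : G ⧸ N := (a : G ⧸ N) with hA
  set B : G ⧸ N := (b : G ⧸ N) with hB
  let M : Subgroup G :=
    { carrier := {g | ∃ i j k : ℤ, (g : G ⧸ N) = A ^ (2 * i) * B ^ j * ⁅A, B⁆ ^ k}
      one_mem' := ⟨0, 0, 0, by simp⟩
      mul_mem' := by
        rintro x y ⟨i, j, k, hx⟩ ⟨u, v, t, hy⟩
        exact ⟨i + u, j + v, k + t + j * (2 * u), by
          rw [QuotientGroup.mk_mul, hx, hy, hW.mul_form, mul_add]⟩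
      inv_mem' := by
        rintro x ⟨i, j, k, hx⟩
        refine ⟨-i, -j, -k + j * (2 * i), ?_⟩
        rw [QuotientGroup.mk_inv, hx]
        refine inv_eq_of_mul_eq_one_right ?_
        rw [hW.mul_form, add_neg_cancel, mul_neg, add_neg_cancel,
          show k + (-k + j * (2 * i)) + j * -(2 * i) = 0 by ring]
        simp }
  have hr := hW.two_le
  have haM : a ∉ M := by
    rintro ⟨i, j, k, h⟩
    have h2 : A ^ (1 : ℤ) * B ^ (0 : ℤ) * ⁅A, B⁆ ^ (0 : ℤ) = A ^ (2 * i) * B ^ j * ⁅A, B⁆ ^ k := by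
      rw [zpow_one, zpow_zero, zpow_zero, mul_one, mul_one]; exact h
    have h3 := (hW.coord (2 * i + -1) j (k + j * -1) (by
      have h4 := congrArg (fun w => w * (A ^ (-1 : ℤ) * B ^ (0 : ℤ) * ⁅A, B⁆ ^ (0 : ℤ))) h2
      simp only [hW.mul_form, add_zero, zero_mul] at h4
      rw [← h4]
      simp)).1
    have h4 : (2 : ℤ) ∣ 2 * i + -1 := (dvd_pow_self 2 (by omega)).trans h3
    omega
  have hidx : M.index = 2 := by
    rw [Subgroup.index_eq_two_iff]
    refine ⟨a, fun g => ?_⟩
    obtain ⟨i, j, k, hg⟩ := hW.exists_form (g : G ⧸ N)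
    have hga : ((g * a : G) : G ⧸ N) = A ^ (i + 1) * B ^ (j + 0) * ⁅A, B⁆ ^ (k + 0 + j * 1) := by
      rw [QuotientGroup.mk_mul, hg, ← hW.mul_form, zpow_one, zpow_zero, zpow_zero, mul_one,
        mul_one]
    rcases Int.even_or_odd i with ⟨i', rfl⟩ | ⟨i', rfl⟩
    · right
      refine ⟨⟨i', j, k, by rw [hg, two_mul]⟩, fun hgaM => haM ?_⟩
      have : g ∈ M := ⟨i', j, k, by rw [hg, two_mul]⟩
      simpa using mul_mem (inv_mem this) hgaM
    · left
      refine ⟨⟨i' + 1, j + 0, k + 0 + j * 1, ?_⟩, fun hgM => haM ?_⟩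
      · rw [hga, show 2 * (i' + 1) = 2 * i' + 1 + 1 by ring]
      · have : g * a ∈ M := ⟨i' + 1, j + 0, k + 0 + j * 1,
          by rw [hga, show 2 * (i' + 1) = 2 * i' + 1 + 1 by ring]⟩
        simpa using mul_mem (inv_mem hgM) this
  refine ⟨M, hidx, ?_, ⟨0, 1, 0, by simp [hB]⟩, haM⟩
  refine three_images hW ?_ ?_ ?_ fun x hx y hy => comm_of_index_two hG hN hgen hW hidx hx hy
  · exact commutator_le_of_index_two hG hidx
      (Subgroup.commutator_mem_commutator (Subgroup.mem_top a) (Subgroup.mem_top b))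
  · rw [show r - 1 = (r - 2) + 1 by omega, pow_succ, pow_mul, pow_two]
    exact sq_mem_of_index_two hG hidx _
  · exact pow_mem (show b ∈ M from ⟨0, 1, 0, by simp [hB]⟩) _

/-- A two generated group, with every maximal subgroup two generated, is metacyclic. -/
theorem isMetacyclic_of_maximals (hG : IsPGroup 2 G) (hgen : Gen2 (⊤ : Subgroup G))
    (h : ∀ M : Subgroup G, M.index = 2 → Gen2 M) : Cfsg.IsMetacyclic G := by
  by_contra hm
  obtain ⟨N, hn, a, b, r, s, hN, hab, hW⟩ := exists_frame hG hgen hm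
  obtain ⟨M, hM, hnot, -⟩ := exists_not_gen2 hG hN hab hW
  exact hnot (h M hM)

/-- Bicyclic generators. -/
structure Factor (x y : G) : Prop where
  prod : ∀ g : G, ∃ i j : ℤ, g = x ^ i * y ^ j

theorem Factor.closure_eq {x y : G} (h : Factor x y) : Subgroup.closure ({x, y} : Set G) = ⊤ := by
  refine eq_top_iff.2 fun g _ => ?_
  obtain ⟨i, j, rfl⟩ := h.prod g
  exact mul_mem (zpow_mem (Subgroup.subset_closure (by simp)) i)
    (zpow_mem (Subgroup.subset_closure (by simp)) j)

theorem isMetacyclic_of_isCyclic' (h : ∀ g : G, ∃ x : G, ∀ y, y ∈ Subgroup.zpowers x) :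
    Cfsg.IsMetacyclic G := by
  obtain ⟨x, hx⟩ := h 1
  haveI : IsCyclic G := ⟨⟨x, hx⟩⟩
  refine isMetacyclic_of_zpowers (g := x) (h := x) ⟨fun n _ g => hx _⟩ (eq_top_iff.2 fun g _ => ?_)
  exact (Subgroup.zpowers_le.2 (Subgroup.subset_closure (by simp))) (hx g)

theorem Factor.frattini_pow {x y : G} (h : Factor x y) (hG : IsPGroup 2 G)
    (hm : ¬ Cfsg.IsMetacyclic G) :
    ∀ g ∈ frattini G, ∃ i j : ℤ, g = (x * x) ^ i * (y * y) ^ j := by
  intro g hg
  obtain ⟨i, j, rfl⟩ := h.prod g
  have hone : ∀ p q : G, (∀ w : G, w ∈ Subgroup.closure {p, q}) → p ∈ Subgroup.zpowers q ⊔ frattini G →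
      False := by
    intro p q hpq hp
    refine hm (isMetacyclic_of_isCyclic' fun _ => ⟨q, fun w => ?_⟩)
    have htop : Subgroup.zpowers q = ⊤ := by
      refine frattini_nongenerating (eq_top_iff.2 fun w _ => ?_)
      refine ((Subgroup.closure_le _).2 ?_) (hpq w)
      rintro t (rfl | rfl)
      · exact hp
      · exact Subgroup.mem_sup_left (Subgroup.mem_zpowers _)
    rw [htop]; exact Subgroup.mem_top w
  have hsqx : x * x ∈ frattini G := sq_mem_frattini hG x
  have hsqy : y * y ∈ frattini G := sq_mem_frattini hG y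
  have hi : Even i := by
    by_contra hi
    obtain ⟨d, rfl⟩ := Int.not_even_iff_odd.1 hi
    refine hone x y (fun w => h.closure_eq ▸ Subgroup.mem_top w) ?_
    have h1 : x = (x * x) ^ (-d) * (x ^ (2 * d + 1) * y ^ j) * y ^ (-j) := by
      rw [← zpow_two, ← zpow_mul]; group
    rw [h1]
    exact mul_mem (mul_mem (Subgroup.mem_sup_right (zpow_mem hsqx _))
      (Subgroup.mem_sup_right hg)) (Subgroup.mem_sup_left (Subgroup.zpow_mem_zpowers y _))
  have hj : Even j := by
    by_contra hj
    obtain ⟨d, rfl⟩ := Int.not_even_iff_odd.1 hj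
    refine hone y x (fun w => by rw [Set.pair_comm, h.closure_eq]; exact Subgroup.mem_top w) ?_
    have h1 : y = x ^ (-i) * (x ^ i * y ^ (2 * d + 1)) * (y * y) ^ (-d) := by
      rw [← zpow_two, ← zpow_mul]; group
    rw [h1]
    exact mul_mem (mul_mem (Subgroup.mem_sup_left (Subgroup.zpow_mem_zpowers x _))
      (Subgroup.mem_sup_right hg)) (Subgroup.mem_sup_right (zpow_mem hsqy _))
  obtain ⟨i, rfl⟩ := hi
  obtain ⟨j, rfl⟩ := hj
  have h1 : ∀ (t : G) (n : ℤ), t ^ (n + n) = (t * t) ^ n := fun t n => by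
    rw [(Commute.refl t).mul_zpow, zpow_add]
  exact ⟨i, j, by rw [h1, h1]⟩

theorem Factor.frattini_eq {x y : G} (h : Factor x y) (hG : IsPGroup 2 G)
    (hm : ¬ Cfsg.IsMetacyclic G) : frattini G = Subgroup.closure {x * x, y * y} := by
  refine le_antisymm (fun g hg => ?_) ((Subgroup.closure_le _).2 ?_)
  · obtain ⟨i, j, rfl⟩ := h.frattini_pow hG hm g hg
    exact mul_mem (zpow_mem (Subgroup.subset_closure (by simp)) i)
      (zpow_mem (Subgroup.subset_closure (by simp)) j)
  · rintro t (rfl | rfl) <;> exact sq_mem_frattini hG _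

/-- The structure of a nonmetacyclic bicyclic 2-group. -/
theorem structure_bicyclic (hG : IsPGroup 2 G) {x y : G} (h : Factor x y)
    (hm : ¬ Cfsg.IsMetacyclic G) :
    Gen2 (frattini G) ∧ Cfsg.IsMetacyclic ↥(frattini G) ∧
      ∃ M : Subgroup G, M.index = 2 ∧ Cfsg.IsMetacyclic ↥M := by
  haveI : Fact (Nat.Prime 2) := ⟨Nat.prime_two⟩
  have hΦeq := h.frattini_eq hG hm
  have hΦ : Gen2 (frattini G) := ⟨_, _, hΦeq.symm⟩
  obtain ⟨N, hn, a, b, r, s, hN, hab, hW⟩ := exists_frame hG ⟨x, y, h.closure_eq⟩ hm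
  obtain rfl := s_eq_one hG hΦ hN hab hW
  obtain ⟨M0, hM0, hnot, hbM0', haM0⟩ := exists_not_gen2 hG hN hab hW
  -- reorder so that `x` is outside `M0`
  suffices key : ∀ x y : G, (∀ g : G, g ∈ Subgroup.closure {x, y}) →
      x ∉ M0 → ∀ M : Subgroup G, M.index = 2 → M = Subgroup.closure {x, y * y} →
      frattini G = Subgroup.closure {x * x, y * y} → Cfsg.IsMetacyclic ↥M by
    have hxy : x ∉ M0 ∨ y ∉ M0 := by
      by_contra hc
      push Not at hc
      have : M0 = ⊤ := by
        rw [eq_top_iff, ← h.closure_eq, Subgroup.closure_le]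
        rintro g (rfl | rfl)
        exacts [hc.1, hc.2]
      rw [this, Subgroup.index_top] at hM0
      omega
    -- the maximal subgroup over a factor
    have hmax : ∀ x y : G, (∀ g : G, g ∈ Subgroup.closure {x, y}) → frattini G = Subgroup.closure {x * x, y * y} →
        (Subgroup.closure ({x, y * y} : Set G)).index = 2 := by
      intro x y hxy hΦ'
      set M := Subgroup.closure ({x, y * y} : Set G)
      have hΦM : frattini G ≤ M := by
        rw [hΦ', Subgroup.closure_le]
        rintro g (rfl | rfl)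
        · exact mul_mem (Subgroup.subset_closure (by simp)) (Subgroup.subset_closure (by simp))
        · exact Subgroup.subset_closure (by simp)
      have hne : M ≠ ⊤ := by
        intro htop
        refine hm (isMetacyclic_of_isCyclic' fun _ => ⟨x, fun w => ?_⟩)
        have h1 : Subgroup.zpowers x = ⊤ := by
          refine frattini_nongenerating (eq_top_iff.2 ?_)
          rw [← htop, Subgroup.closure_le]
          rintro g (rfl | rfl)
          · exact Subgroup.mem_sup_left (Subgroup.mem_zpowers _)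
          · exact Subgroup.mem_sup_right (sq_mem_frattini hG y)
        rw [h1]; exact Subgroup.mem_top w
      obtain ⟨C, hC, hMC⟩ := (eq_top_or_exists_le_coatom M).resolve_left hne
      have hCi := PGroup.index_of_isCoatom hG hC
      suffices M = C by rw [this]; exact hCi
      haveI hMn : M.Normal := ⟨fun n hn g => by
        have h1 : ⁅g, n⁆ ∈ M := hΦM (PGroup.commutator_le_frattini hG
          (Subgroup.commutator_mem_commutator (Subgroup.mem_top g) (Subgroup.mem_top n)))
        rw [commutatorElement_def] at h1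
        simpa using mul_mem h1 hn⟩
      refine le_antisymm hMC fun g hg => ?_
      have hy : y ∉ C := fun hy => hC.1 (eq_top_iff.2 fun w _ => (Subgroup.closure_le _).2 (by
        rintro t (rfl | rfl)
        exacts [hMC (Subgroup.subset_closure (by simp)), hy]) (hxy w))
      -- every element is in `M` or in `M y`
      have hcos : ∀ w : G, w ∈ M ∨ w * y⁻¹ ∈ M := by
        intro w
        have hw := hxy w
        have hyy : y * y ∈ M := Subgroup.subset_closure (by simp)
        induction hw using Subgroup.closure_induction_left with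
        | one => exact Or.inl (one_mem _)
        | mul_left t ht u _ ih =>
          rcases ht with rfl | rfl
          · rcases ih with ih | ih
            · exact Or.inl (mul_mem (Subgroup.subset_closure (by simp)) ih)
            · exact Or.inr (by rw [mul_assoc]; exact mul_mem (Subgroup.subset_closure (by simp)) ih)
          · rcases ih with ih | ih
            · exact Or.inr (hMn.conj_mem u ih t)
            · refine Or.inl ?_
              have h1 : t * u = (t * (u * t⁻¹) * t⁻¹) * (t * t) := by group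
              rw [h1]
              exact mul_mem (hMn.conj_mem _ ih t) hyy
        | inv_mul_cancel t ht u _ ih =>
          rcases ht with rfl | rfl
          · rcases ih with ih | ih
            · exact Or.inl (mul_mem (inv_mem (Subgroup.subset_closure (by simp))) ih)
            · exact Or.inr (by rw [mul_assoc]; exact mul_mem (inv_mem (Subgroup.subset_closure (by simp))) ih)
          · rcases ih with ih | ih
            · refine Or.inr ?_
              have h1 : t⁻¹ * u * t⁻¹ = (t⁻¹ * u * t⁻¹⁻¹) * (t * t)⁻¹ := by group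
              rw [h1]
              exact mul_mem (hMn.conj_mem u ih t⁻¹) (inv_mem hyy)
            · refine Or.inl ?_
              have h1 : t⁻¹ * u = t⁻¹ * (u * t⁻¹) * t⁻¹⁻¹ := by group
              rw [h1]
              exact hMn.conj_mem _ ih t⁻¹
      rcases hcos g with h1 | h1
      · exact h1
      · exact absurd (by simpa using mul_mem (inv_mem (hMC h1)) hg) hy
    refine ⟨hΦ, ?_⟩
    have hΦ' : frattini G = Subgroup.closure {y * y, x * x} := by rw [hΦeq, Set.pair_comm]
    have hxg : ∀ g, g ∈ Subgroup.closure {x, y} := fun g => h.closure_eq ▸ Subgroup.mem_top g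
    have hyg : ∀ g, g ∈ Subgroup.closure {y, x} := fun g => by
      rw [Set.pair_comm]; exact hxg g
    obtain ⟨M, hM, hMm⟩ : ∃ M : Subgroup G, M.index = 2 ∧ Cfsg.IsMetacyclic ↥M := by
      rcases hxy with hx | hy
      · exact ⟨_, hmax x y hxg hΦeq, key x y hxg hx _
          (hmax x y hxg hΦeq) rfl hΦeq⟩
      · exact ⟨_, hmax y x hyg hΦ', key y x hyg hy _ (hmax y x hyg hΦ') rfl hΦ'⟩
    exact ⟨isMetacyclic_of_le hMm (frattini_le_coatom (PGroup.isCoatom_of_index_eq hM)), M, hM, hMm⟩
  intro x y hxyg hx M hM hMdef hΦ'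
  by_contra hMm
  have hMp : IsPGroup 2 M := hG.to_subgroup M
  have hxM : x ∈ M := hMdef ▸ Subgroup.subset_closure (by simp)
  obtain ⟨N', hn', a', b', r', s', hN', hab', hW'⟩ :=
    exists_frame hMp (top_of_gen2 ⟨x, y * y, hMdef.symm⟩) hMm
  have hΦM : frattini G ≤ M := frattini_le_coatom (PGroup.isCoatom_of_index_eq hM)
  set K := (frattini G).subgroupOf M with hK
  have hKgen : Gen2 K := by
    obtain ⟨u, v, huv⟩ := top_of_gen2 hΦ
    have h1 : Gen2 (⊤ : Subgroup ↥K) :=
      ((top_of_gen2 hΦ).map (Subgroup.subgroupOfEquivOfLe hΦM).symm.toMonoidHom) |> fun h => by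
        rwa [Subgroup.map_top_of_surjective _ (Subgroup.subgroupOfEquivOfLe hΦM).symm.surjective] at h
    exact gen2_of_top h1
  -- `M0` meets `M` in the Frattini subgroup
  have hyM0 : y * y ∈ M0 := sq_mem_of_index_two hG hM0 y
  haveI hM0n : M0.Normal := PGroup.normal_of_index_eq hG hM0
  haveI hMn : M.Normal := PGroup.normal_of_index_eq hG hM
  have hKeq : ∀ g : M, g ∈ K ↔ (g : G) ∈ M0 := by
    intro g
    refine ⟨fun hg => frattini_le_coatom (PGroup.isCoatom_of_index_eq hM0) hg, fun hg => ?_⟩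
    have hcos : ∀ w ∈ Subgroup.closure ({x, y * y} : Set G),
        w ∈ frattini G ∨ x⁻¹ * w ∈ frattini G := by
      intro w hw
      have hxx := sq_mem_frattini hG x
      have hyy := sq_mem_frattini hG y
      induction hw using Subgroup.closure_induction_left with
      | one => exact Or.inl (one_mem _)
      | mul_left t ht u _ ih =>
        rcases ht with rfl | rfl
        · rcases ih with ih | ih
          · exact Or.inr (by rwa [inv_mul_cancel_left])
          · exact Or.inl (by
              have h1 : t * u = (t * t) * (t⁻¹ * u) := by group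
              rw [h1]; exact mul_mem hxx ih)
        · rcases ih with ih | ih
          · exact Or.inl (mul_mem hyy ih)
          · refine Or.inr ?_
            have h1 : x⁻¹ * (y * y * u) = (x⁻¹ * (y * y) * x⁻¹⁻¹) * (x⁻¹ * u) := by group
            rw [h1]
            exact mul_mem ((inferInstance : (frattini G).Normal).conj_mem _ hyy _) ih
      | inv_mul_cancel t ht u _ ih =>
        rcases ht with rfl | rfl
        · rcases ih with ih | ih
          · refine Or.inr ?_
            have h1 : t⁻¹ * (t⁻¹ * u) = (t * t)⁻¹ * u := by group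
            rw [h1]; exact mul_mem (inv_mem hxx) ih
          · exact Or.inl ih
        · rcases ih with ih | ih
          · exact Or.inl (mul_mem (inv_mem hyy) ih)
          · refine Or.inr ?_
            have h1 : x⁻¹ * ((y * y)⁻¹ * u) = (x⁻¹ * (y * y)⁻¹ * x⁻¹⁻¹) * (x⁻¹ * u) := by group
            rw [h1]
            exact mul_mem ((inferInstance : (frattini G).Normal).conj_mem _ (inv_mem hyy) _) ih
    rcases hcos g (hMdef ▸ g.2) with h1 | h1
    · exact h1
    · refine absurd ?_ hx
      have h2 := frattini_le_coatom (PGroup.isCoatom_of_index_eq hM0) h1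
      have h3 : x = (g : G) * (x⁻¹ * (g : G))⁻¹ := by group
      rw [h3]
      exact mul_mem hg (inv_mem h2)
  have hKidx : K.index = 2 := by
    rw [Subgroup.index_eq_two_iff]
    refine ⟨⟨x, hxM⟩, fun g => ?_⟩
    rw [hKeq, hKeq, Subgroup.coe_mul]
    by_cases hg : (g : G) ∈ M0
    · exact Or.inr ⟨hg, fun h2 => hx ((Subgroup.mul_mem_cancel_left M0 hg).1 h2)⟩
    · refine Or.inl ⟨?_, hg⟩
      rcases (Subgroup.mul_mem_iff_of_index_two hM0 (a := (g : G)) (b := x)) with h2
      exact h2.2 (iff_of_false hg hx)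
  have hs' : s' = 1 := by
    by_contra hs'
    have hr' := hW'.two_le
    have hs2 : 2 ≤ s' := by have := hW'.one_le; omega
    refine three_images hW' ?_ ?_ ?_ (fun p hp q hq => comm_of_index_two hMp hN' hab' hW' hKidx hp hq)
      hKgen
    · exact commutator_le_of_index_two hMp hKidx
        (Subgroup.commutator_mem_commutator (Subgroup.mem_top a') (Subgroup.mem_top b'))
    · rw [show r' - 1 = (r' - 2) + 1 by omega, pow_succ, pow_mul, pow_two]
      exact sq_mem_of_index_two hMp hKidx _
    · rw [show s' - 1 = (s' - 2) + 1 by omega, pow_succ, pow_mul, pow_two]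
      exact sq_mem_of_index_two hMp hKidx _
  subst hs'
  have hbK : b' ∉ K := by
    intro hb
    have hr' := hW'.two_le
    refine three_images hW' ?_ ?_ ?_ (fun p hp q hq => comm_of_index_two hMp hN' hab' hW' hKidx hp hq)
      hKgen
    · exact commutator_le_of_index_two hMp hKidx
        (Subgroup.commutator_mem_commutator (Subgroup.mem_top a') (Subgroup.mem_top b'))
    · rw [show r' - 1 = (r' - 2) + 1 by omega, pow_succ, pow_mul, pow_two]
      exact sq_mem_of_index_two hMp hKidx _
    · exact pow_mem hb _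
  have hb2 : ((b' : G) : G ⧸ N) * ((b' : G) : G ⧸ N) = 1 := by
    have h1 : b' * b' ∈ commutator ↥M := by
      refine hN' ((QuotientGroup.eq_one_iff _).1 ?_)
      have := hW'.powB
      rw [pow_one, pow_two] at this
      exact this
    let f : M →* G ⧸ N := (QuotientGroup.mk' N).comp M.subtype
    have h2 : commutator ↥M ≤ f.ker := by
      rw [_root_.commutator_def, Subgroup.commutator_le]
      intro p _ q _
      rw [MonoidHom.mem_ker, map_commutatorElement, commutatorElement_eq_one_iff_mul_comm]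
      exact (comm_of_index_two hG hN hab hW hM p.2 q.2).eq
    exact MonoidHom.mem_ker.1 (h2 h1)
  -- `b'` has an odd exponent of `x`
  have hbM0 : (b' : G) ∉ M0 := fun h1 => hbK ((hKeq b').2 h1)
  obtain ⟨i, j, k, hform⟩ := hW.exists_form ((b' : G) : G ⧸ N)
  have hev : Even i := by
    have h1 := hb2
    rw [hform, hW.sq_form] at h1
    have h2 := (hW.coord _ _ _ h1).1
    have h3 : (4 : ℤ) ∣ 2 * i := (show (4 : ℤ) ∣ 2 ^ r from by
      rw [show (4 : ℤ) = 2 ^ 2 by norm_num]; exact pow_dvd_pow 2 hW.two_le).trans h2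
    exact even_iff_two_dvd.2 (by omega)
  apply hbM0
  obtain ⟨i', rfl⟩ := hev
  have hbase : a ^ (i' + i') * b ^ j * ⁅a, b⁆ ^ k ∈ M0 := by
    refine mul_mem (mul_mem ?_ (zpow_mem hbM0' j)) (zpow_mem (commutator_le_of_index_two hG hM0
      (Subgroup.commutator_mem_commutator (Subgroup.mem_top a) (Subgroup.mem_top b))) k)
    rw [← two_mul, zpow_mul, zpow_two]
    exact zpow_mem (sq_mem_of_index_two hG hM0 a) i'
  have heq : ((a ^ (i' + i') * b ^ j * ⁅a, b⁆ ^ k : G) : G ⧸ N) = ((b' : G) : G ⧸ N) := by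
    rw [hform]; rfl
  have hle : N ≤ M0 := hN.trans (commutator_le_of_index_two hG hM0)
  have h5 := mul_mem hbase (hle (QuotientGroup.eq.1 heq))
  rwa [mul_inv_cancel_left] at h5

/-- Two maximal subgroups of a two generated 2-group meet in the Frattini subgroup. -/
theorem inf_le_frattini (hG : IsPGroup 2 G) (hgen : Gen2 (⊤ : Subgroup G)) {M0 M1 : Subgroup G}
    (hM0 : M0.index = 2) (hM1 : M1.index = 2) (hne : M0 ≠ M1) : M0 ⊓ M1 ≤ frattini G := by
  haveI : Fact (Nat.Prime 2) := ⟨Nat.prime_two⟩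
  obtain ⟨u, v, huv⟩ := hgen
  refine PGroup.le_frattini_of_forall_coatom fun C hC => ?_
  rintro x ⟨h0, h1⟩
  have hCi : C.index = 2 := PGroup.index_of_isCoatom hG hC
  by_cases hC0 : C = M0
  · rw [hC0]; exact h0
  by_cases hC1 : C = M1
  · rw [hC1]; exact h1
  have hext : ∀ M M' : Subgroup G, M.index = 2 → M'.index = 2 → (u ∈ M ↔ u ∈ M') →
      (v ∈ M ↔ v ∈ M') → M = M' := by
    intro M M' hM hM' hu hv
    refine Subgroup.ext fun g => ?_
    have hg : g ∈ Subgroup.closure ({u, v} : Set G) := huv ▸ Subgroup.mem_top g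
    induction hg using Subgroup.closure_induction with
    | mem t ht => rcases ht with rfl | rfl <;> assumption
    | one => simp [one_mem]
    | mul p q _ _ hp hq =>
      exact (Subgroup.mul_mem_iff_of_index_two hM).trans
        ((iff_congr hp hq).trans (Subgroup.mul_mem_iff_of_index_two hM').symm)
    | inv p _ hp => exact inv_mem_iff.trans (hp.trans inv_mem_iff.symm)
  have hnot2 : ∀ M : Subgroup G, M.index = 2 → ¬ (u ∈ M ∧ v ∈ M) := by
    rintro M hM ⟨hu, hv⟩
    have : M = ⊤ := by
      rw [eq_top_iff, ← huv, Subgroup.closure_le]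
      rintro t (rfl | rfl) <;> assumption
    rw [this, Subgroup.index_top] at hM
    omega
  suffices key : ∀ g : G, g ∈ C ↔ (g ∈ M0 ↔ g ∈ M1) from (key _).2 (iff_of_true h0 h1)
  intro g
  have hg : g ∈ Subgroup.closure ({u, v} : Set G) := huv ▸ Subgroup.mem_top g
  induction hg using Subgroup.closure_induction with
  | mem t ht =>
    classical
    let k : Subgroup G → Bool × Bool := fun L => (decide (u ∈ L), decide (v ∈ L))
    have hk : ∀ L : Subgroup G, L.index = 2 → k L ≠ (true, true) := fun L hL he => hnot2 L hL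
      ⟨of_decide_eq_true (congrArg Prod.fst he), of_decide_eq_true (congrArg Prod.snd he)⟩
    have diff : ∀ L L' : Subgroup G, L.index = 2 → L'.index = 2 → L ≠ L' → k L ≠ k L' :=
      fun L L' hL hL' hne he => hne (hext L L' hL hL' (decide_eq_decide.1 (congrArg Prod.fst he))
        (decide_eq_decide.1 (congrArg Prod.snd he)))
    have third : ∀ p q r : Bool × Bool, p ≠ (true, true) → q ≠ (true, true) → r ≠ (true, true) →
        p ≠ q → p ≠ r → q ≠ r → p.1 = (q.1 == r.1) ∧ p.2 = (q.2 == r.2) := by decide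
    obtain ⟨e1, e2⟩ := third _ _ _ (hk C hCi) (hk M0 hM0) (hk M1 hM1) (diff C M0 hCi hM0 hC0)
      (diff C M1 hCi hM1 hC1) (diff M0 M1 hM0 hM1 hne)
    rcases ht with rfl | rfl
    · by_cases h' : t ∈ M0 <;> by_cases h'' : t ∈ M1 <;> simpa [k, h', h''] using e1
    · by_cases h' : t ∈ M0 <;> by_cases h'' : t ∈ M1 <;> simpa [k, h', h''] using e2
  | one => simp [one_mem]
  | mul p q _ _ hp hq =>
    rw [Subgroup.mul_mem_iff_of_index_two hCi, Subgroup.mul_mem_iff_of_index_two hM0,
      Subgroup.mul_mem_iff_of_index_two hM1]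
    by_cases h1p : p ∈ M0 <;> by_cases h2p : p ∈ M1 <;> by_cases h1q : q ∈ M0 <;>
      by_cases h2q : q ∈ M1 <;> simp [*]
  | inv p _ hp => rw [inv_mem_iff, inv_mem_iff, inv_mem_iff]; exact hp

/-- A two generated nonmetacyclic group with a two generated maximal subgroup has no nontrivial
automorphism of odd order. -/
theorem aut_eq_one (hG : IsPGroup 2 G) (hgen : Gen2 (⊤ : Subgroup G)) (hm : ¬ Cfsg.IsMetacyclic G)
    {M1 : Subgroup G} (hM1 : M1.index = 2) (hM1g : Gen2 M1) {α : MulAut G}
    (hα : Odd (orderOf α)) : α = 1 := by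
  haveI : Fact (Nat.Prime 2) := ⟨Nat.prime_two⟩
  refine PGroup.MetacyclicTwo.aut_trivial_of_frattini hG (Nat.coprime_two_right.2 hα) ?_
  obtain ⟨N, hn, a, b, r, s, hN, hab, hW⟩ := exists_frame hG hgen hm
  obtain ⟨M0, hM0, hnot, -, -⟩ := exists_not_gen2 hG hN hab hW
  obtain ⟨u, v, huv⟩ := hgen
  have hne : M0 ≠ M1 := fun h => hnot (h ▸ hM1g)
  -- membership is decided on the generators
  have hext : ∀ M M' : Subgroup G, M.index = 2 → M'.index = 2 → (u ∈ M ↔ u ∈ M') →
      (v ∈ M ↔ v ∈ M') → M = M' := by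
    intro M M' hM hM' hu hv
    refine Subgroup.ext fun g => ?_
    have hg : g ∈ Subgroup.closure ({u, v} : Set G) := huv ▸ Subgroup.mem_top g
    induction hg using Subgroup.closure_induction with
    | mem t ht => rcases ht with rfl | rfl <;> assumption
    | one => simp [one_mem]
    | mul p q _ _ hp hq =>
      exact (Subgroup.mul_mem_iff_of_index_two hM).trans
        ((iff_congr hp hq).trans (Subgroup.mul_mem_iff_of_index_two hM').symm)
    | inv p _ hp => exact inv_mem_iff.trans (hp.trans inv_mem_iff.symm)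
  have hnot2 : ∀ M : Subgroup G, M.index = 2 → ¬ (u ∈ M ∧ v ∈ M) := by
    rintro M hM ⟨hu, hv⟩
    have : M = ⊤ := by
      rw [eq_top_iff, ← huv, Subgroup.closure_le]
      rintro t (rfl | rfl) <;> assumption
    rw [this, Subgroup.index_top] at hM
    omega
  have hthree : ∀ M M' M₂ M₃ : Subgroup G, M.index = 2 → M'.index = 2 → M₂.index = 2 →
      M₃.index = 2 → M = M' ∨ M = M₂ ∨ M = M₃ ∨ M' = M₂ ∨ M' = M₃ ∨ M₂ = M₃ := by
    intro M M' M₂ M₃ h h' h'' h₃
    classical
    let k : Subgroup G → Bool × Bool := fun L => (decide (u ∈ L), decide (v ∈ L))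
    have hk : ∀ L : Subgroup G, L.index = 2 → k L ≠ (true, true) := fun L hL he => hnot2 L hL
      ⟨of_decide_eq_true (congrArg Prod.fst he), of_decide_eq_true (congrArg Prod.snd he)⟩
    have same : ∀ L L' : Subgroup G, L.index = 2 → L'.index = 2 → k L = k L' → L = L' :=
      fun L L' hL hL' he => hext L L' hL hL' (decide_eq_decide.1 (congrArg Prod.fst he))
        (decide_eq_decide.1 (congrArg Prod.snd he))
    have pig : ∀ p q r s : Bool × Bool, p ≠ (true, true) → q ≠ (true, true) → r ≠ (true, true) →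
        s ≠ (true, true) → p = q ∨ p = r ∨ p = s ∨ q = r ∨ q = s ∨ r = s := by decide
    rcases pig _ _ _ _ (hk M h) (hk M' h') (hk M₂ h'') (hk M₃ h₃) with e | e | e | e | e | e
    exacts [Or.inl (same _ _ h h' e), Or.inr (Or.inl (same _ _ h h'' e)),
      Or.inr (Or.inr (Or.inl (same _ _ h h₃ e))),
      Or.inr (Or.inr (Or.inr (Or.inl (same _ _ h' h'' e)))),
      Or.inr (Or.inr (Or.inr (Or.inr (Or.inl (same _ _ h' h₃ e))))),
      Or.inr (Or.inr (Or.inr (Or.inr (Or.inr (same _ _ h'' h₃ e)))))]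
  -- the action on the maximal subgroups
  let f : Subgroup G → Subgroup G := fun M => M.map α.toMonoidHom
  have hfi : ∀ M : Subgroup G, (f M).index = M.index := fun M =>
    Subgroup.index_map_equiv M α
  have hfinj : Function.Injective f := Subgroup.map_injective α.injective
  have hfiter : ∀ (n : ℕ) (M : Subgroup G), f^[n] M = M.map (α ^ n).toMonoidHom := by
    intro n
    induction n with
    | zero => intro M; exact (Subgroup.map_id M).symm
    | succ n ih =>
      intro M
      rw [Function.iterate_succ_apply', ih, pow_succ']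
      exact Subgroup.map_map _ _ _
  obtain ⟨d, hd⟩ := hα
  have hper : ∀ M : Subgroup G, f^[2 * d + 1] M = M := fun M => by
    rw [hfiter, ← hd, pow_orderOf_eq_one]; exact Subgroup.map_id M
  have hback : ∀ M : Subgroup G, f (f M) = M → f M = M := by
    intro M hM
    have h2 : ∀ n, f^[2 * n] M = M := by
      intro n
      induction n with
      | zero => rfl
      | succ n ih => rw [show 2 * (n + 1) = 2 * n + 1 + 1 by ring, Function.iterate_succ_apply',
          Function.iterate_succ_apply', ih, hM]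
    have h3 := hper M
    rwa [Function.iterate_succ_apply', h2] at h3
  have hne' : ∀ n, f^[n] M1 ≠ M0 := fun n h => hnot (h ▸ (hfiter n M1).symm ▸ hM1g.map _)
  have hne'' : ∀ n, f^[n] M0 ≠ M1 := by
    intro n h
    refine hne' (2 * d * n) ?_
    rw [← h, ← Function.iterate_add_apply, show 2 * d * n + n = (2 * d + 1) * n by ring]
    rw [Function.iterate_mul]
    exact Function.iterate_fixed (hper M0) n
  have hfix0 : f M0 = M0 := by
    rcases hthree M0 M1 (f M0) (f (f M0)) hM0 hM1 (by rw [hfi, hM0]) (by rw [hfi, hfi, hM0]) with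
      h | h | h | h | h | h
    · exact absurd h hne
    · exact h.symm
    · exact hback M0 h.symm
    · exact absurd h.symm (hne'' 1)
    · exact absurd h.symm (hne'' 2)
    · exact (hfinj h).symm
  have hfix1 : f M1 = M1 := by
    rcases hthree M1 M0 (f M1) (f (f M1)) hM1 hM0 (by rw [hfi, hM1]) (by rw [hfi, hfi, hM1]) with
      h | h | h | h | h | h
    · exact absurd h.symm hne
    · exact h.symm
    · exact hback M1 h.symm
    · exact absurd h.symm (hne' 1)
    · exact absurd h.symm (hne' 2)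
    · exact (hfinj h).symm
  have hmem : ∀ (M : Subgroup G), f M = M → ∀ x, α x ∈ M ↔ x ∈ M := fun M hM x => by
    conv_lhs => rw [← hM]
    exact Subgroup.mem_map_iff_mem α.injective
  intro x
  have h0 : x⁻¹ * α x ∈ M0 := by
    rw [Subgroup.mul_mem_iff_of_index_two hM0, inv_mem_iff, hmem M0 hfix0]
  have h1 : x⁻¹ * α x ∈ M1 := by
    rw [Subgroup.mul_mem_iff_of_index_two hM1, inv_mem_iff, hmem M1 hfix1]
  exact inf_le_frattini hG ⟨u, v, huv⟩ hM0 hM1 hne ⟨h0, h1⟩

end Cfsg.Agent.Bicyclic2
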