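import Cfsg.Agent.Lib.Bicyclic2.Model
import Cfsg.Agent.Lib.Bicyclic2.Shape
import Cfsg.Agent.Lib.Fusion.Criterion
import Cfsg.Agent.Lib.PCore.Basic

/-!
The fusion system on `S` generated by `S` and the automiser `A` of `E` is saturated and is not the
inner system.
-/

set_option autoImplicit false

namespace Cfsg.Agent.Bicyclic2

open Cfsg Cfsg.FusionSystem Cfsg.Agent Cfsg.Agent.Fusion

variable {Ω : Type*} [Group Ω]

/-- `P` lies in an `S`-conjugate of `E`. -/
def InConj (S E P : Subgroup Ω) : Prop := ∃ h ∈ S, ∀ p ∈ P, h⁻¹ * p * h ∈ E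

/-- On conjugates of `E`, the map comes from `A`. -/
def HasForm (S E : Subgroup Ω) (A : Subgroup (MulAut ↥E)) (P : Subgroup Ω) (φ : P →* Ω) : Prop :=
  ∀ h ∈ S, (∀ p, p ∈ P ↔ h⁻¹ * p * h ∈ E) →
    ∃ k ∈ S, ∃ β ∈ A, ∀ (p : P) (hp : h⁻¹ * (p : Ω) * h ∈ E),
      φ p = k * ((β ⟨_, hp⟩ : E) : Ω) * k⁻¹

/-- The hypotheses of the construction. -/
structure AutData (S E : Subgroup Ω) (A : Subgroup (MulAut ↥E)) (z : Ω) : Prop where
  le : E ≤ S
  induced : autInducedBy S E ≤ A
  central : ∀ h ∈ S, Commute h z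
  fix : ∀ β ∈ A, ∀ e : ↥E, (e : Ω) = z → β e = e

namespace AutData

variable {S E : Subgroup Ω} [Finite S] {A : Subgroup (MulAut ↥E)} {z : Ω} (T : AutData S E A z)
include T

omit T in
theorem card_conj {P : Subgroup Ω} {h : Ω} (hP : ∀ p, p ∈ P ↔ h⁻¹ * p * h ∈ E) :
    Nat.card P = Nat.card E :=
  Nat.card_congr
    { toFun := fun p => ⟨h⁻¹ * p * h, (hP p).1 p.2⟩
      invFun := fun e => ⟨h * e * h⁻¹, (hP _).2 (by
        have e' : h⁻¹ * (h * (e : Ω) * h⁻¹) * h = e := by group
        rw [e']; exact e.2)⟩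
      left_inv := fun p => Subtype.ext (by simp [mul_assoc])
      right_inv := fun e => Subtype.ext (by simp [mul_assoc]) }

theorem conj_of_card {P : Subgroup Ω} (hP : InConj S E P) (hc : Nat.card P = Nat.card E) :
    ∃ h ∈ S, ∀ p, p ∈ P ↔ h⁻¹ * p * h ∈ E := by
  obtain ⟨h, hh, hp⟩ := hP
  haveI : Finite E := finite_of_le (Ω := Ω) T.le
  refine ⟨h, hh, fun p => ⟨hp p, fun hpe => ?_⟩⟩
  haveI : Finite P := Nat.finite_of_card_ne_zero (by rw [hc]; exact Nat.card_pos.ne')
  let f : P → E := fun q => ⟨h⁻¹ * q * h, hp q q.2⟩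
  have hinj : Function.Injective f := fun q r e => by
    have e' : h⁻¹ * (q : Ω) * h = h⁻¹ * (r : Ω) * h := congrArg Subtype.val e
    exact Subtype.ext (mul_left_cancel (mul_right_cancel e'))
  obtain ⟨q, hq⟩ := ((Nat.bijective_iff_injective_and_card f).2 ⟨hinj, hc⟩).2 ⟨_, hpe⟩
  have e' : h⁻¹ * (q : Ω) * h = h⁻¹ * p * h := congrArg Subtype.val hq
  rw [← mul_left_cancel (mul_right_cancel e')]
  exact q.2

theorem form_of_conj {P : Subgroup Ω} {φ : P →* Ω} {g : Ω} (hg : g ∈ S)
    (hφ : ∀ p : P, φ p = g * (p : Ω) * g⁻¹) : HasForm S E A P φ := by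
  intro h hh _
  refine ⟨g * h, mul_mem hg hh, 1, one_mem _, fun p hp => ?_⟩
  rw [hφ, MulAut.one_apply]
  group

/-- A large system containing the maps of `A`. -/
def bigSystem : FusionSystem S where
  Hom P := {φ | P ≤ S ∧ (∀ p : P, φ p ∈ S) ∧ Function.Injective φ ∧
    (∀ p : P, (p : Ω) = z ↔ φ p = z) ∧ HasForm S E A P φ ∧
    ((∃ g ∈ S, ∀ p : P, φ p = g * (p : Ω) * g⁻¹) ∨ (InConj S E P ∧ InConj S E φ.range))}
  le_of_mem := fun h => ⟨h.1, h.2.1⟩
  injective_of_mem := fun h => h.2.2.1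
  conj_mem := by
    intro P g hP hg
    refine ⟨hP, fun p => mul_mem (mul_mem hg (hP p.2)) (inv_mem hg), fun p q e => ?_, fun p => ?_,
      T.form_of_conj hg fun p => rfl, Or.inl ⟨g, hg, fun p => rfl⟩⟩
    · exact Subtype.ext (mul_left_cancel (mul_right_cancel (e :)))
    · show (p : Ω) = z ↔ g * (p : Ω) * g⁻¹ = z
      have hz : g * z * g⁻¹ = z := by rw [(T.central g hg).eq, mul_inv_cancel_right]
      constructor
      · intro e; rw [e, hz]
      · intro e; rw [← hz] at e; exact mul_left_cancel (mul_right_cancel e)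
  comp_mem := by
    rintro P Q φ ψ ⟨hP, hφS, hφi, hφz, hφf, hφ⟩ ⟨hQ, hψS, hψi, hψz, hψf, hψ⟩ hPQ
    have hv : ∀ p : P, ψ.comp (φ.codRestrict Q hPQ) p = ψ ⟨φ p, hPQ p⟩ := fun p => rfl
    refine ⟨hP, fun p => hψS _, fun p q e => hφi (congrArg Subtype.val (hψi e)), fun p => ?_, ?_, ?_⟩
    · rw [hv, ← hψz]; exact hφz p
    · intro h hh hPE
      obtain ⟨k, hk, β, hβ, hval⟩ := hφf h hh hPE
      rcases hψ with ⟨g, hg, hψg⟩ | ⟨hQc, -⟩
      · refine ⟨g * k, mul_mem hg hk, β, hβ, fun p hp => ?_⟩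
        rw [hv, hψg]
        show g * φ p * g⁻¹ = _
        rw [hval p hp]
        group
      · have himg : ∀ e : E, k * (e : Ω) * k⁻¹ ∈ Q := fun e => by
          have hp0 : h * ((β⁻¹ e : E) : Ω) * h⁻¹ ∈ P := (hPE _).2 (by
            have e' : h⁻¹ * (h * ((β⁻¹ e : E) : Ω) * h⁻¹) * h = ((β⁻¹ e : E) : Ω) := by group
            rw [e']; exact SetLike.coe_mem _)
          have h1 := hval ⟨_, hp0⟩ ((hPE _).1 hp0)
          have e2 : (⟨h⁻¹ * (h * ((β⁻¹ e : E) : Ω) * h⁻¹) * h, (hPE _).1 hp0⟩ : E) = β⁻¹ e :=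
            Subtype.ext (by group)
          rw [e2, MulAut.apply_inv_self] at h1
          rw [← h1]
          exact hPQ _
        have hcE : Nat.card Q = Nat.card E := by
          haveI : Finite E := finite_of_le (Ω := Ω) T.le
          haveI : Finite Q := finite_of_le (Ω := Ω) hQ
          refine le_antisymm ?_ ?_
          · obtain ⟨h', hh', hq⟩ := hQc
            refine Nat.card_le_card_of_injective (fun q : Q => (⟨h'⁻¹ * q * h', hq q q.2⟩ : E))
              fun q r e => ?_
            have e' : h'⁻¹ * (q : Ω) * h' = h'⁻¹ * (r : Ω) * h' := congrArg Subtype.val e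
            exact Subtype.ext (mul_left_cancel (mul_right_cancel e'))
          · refine Nat.card_le_card_of_injective (fun e : E => (⟨_, himg e⟩ : Q)) fun q r e => ?_
            have e' : k * (q : Ω) * k⁻¹ = k * (r : Ω) * k⁻¹ := congrArg Subtype.val e
            exact Subtype.ext (mul_left_cancel (mul_right_cancel e'))
        obtain ⟨h', hh', hQE⟩ := T.conj_of_card hQc hcE
        -- `k` and `h'` differ by an element of the normaliser
        have hn : ∀ e : E, h'⁻¹ * (k * (e : Ω) * k⁻¹) * h' ∈ E := fun e => (hQE _).1 (himg e)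
        obtain ⟨k', hk', β', hβ', hval'⟩ := hψf h' hh' hQE
        haveI : Finite E := finite_of_le (Ω := Ω) T.le
        have hnorm : h'⁻¹ * k ∈ Subgroup.normalizer (E : Set Ω) := by
          have hle : E.map (MulAut.conj (h'⁻¹ * k)).toMonoidHom ≤ E := by
            rintro _ ⟨e, he, rfl⟩
            have := hn ⟨e, he⟩
            show h'⁻¹ * k * e * (h'⁻¹ * k)⁻¹ ∈ E
            simpa [mul_assoc] using this
          have heq := Subgroup.eq_of_le_of_card_ge hle (Nat.card_congr
            (E.equivMapOfInjective _ (MulAut.conj _).injective).toEquiv).le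
          rw [Subgroup.mem_normalizer_iff_map_conj_eq]
          exact heq
        set γ := conjAut hnorm with hγ
        have hγA : γ ∈ A :=
          T.induced (conjAut_mem_autInducedBy (mul_mem (inv_mem hh') hk) hnorm)
        refine ⟨k', hk', β' * γ * β, mul_mem (mul_mem hβ' hγA) hβ, fun p hp => ?_⟩
        have hq : h'⁻¹ * φ p * h' ∈ E := (hQE _).1 (hPQ p)
        have h1 := hval' ⟨φ p, hPQ p⟩ hq
        rw [hv, h1]
        have e2 : (⟨h'⁻¹ * φ p * h', hq⟩ : E) = γ (β ⟨_, hp⟩) := Subtype.ext (by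
          show h'⁻¹ * φ p * h' = _
          rw [coe_conjAut, hval p hp]; group)
        rw [e2]; rfl
    · have hrange : ∀ t ∈ (ψ.comp (φ.codRestrict Q hPQ)).range, t ∈ ψ.range := by
        rintro _ ⟨p, rfl⟩; exact ⟨_, rfl⟩
      rcases hφ with ⟨g, hg, hφg⟩ | ⟨hPc, hφc⟩ <;> rcases hψ with ⟨g', hg', hψg⟩ | ⟨hQc, hψc⟩
      · exact Or.inl ⟨g' * g, mul_mem hg' hg, fun p => by
          rw [hv, hψg]
          show g' * φ p * g'⁻¹ = _
          rw [hφg]; group⟩
      · refine Or.inr ⟨?_, ?_⟩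
        · obtain ⟨h, hh, hq⟩ := hQc
          refine ⟨g⁻¹ * h, mul_mem (inv_mem hg) hh, fun p hp => ?_⟩
          have := hq _ (hPQ ⟨p, hp⟩)
          rw [hφg] at this
          simpa [mul_assoc] using this
        · obtain ⟨h, hh, hq⟩ := hψc
          exact ⟨h, hh, fun t ht => hq t (hrange t ht)⟩
      · refine Or.inr ⟨hPc, ?_⟩
        obtain ⟨h, hh, hq⟩ := hφc
        refine ⟨g' * h, mul_mem hg' hh, ?_⟩
        rintro _ ⟨p, rfl⟩
        have := hq _ ⟨p, rfl⟩
        rw [hv, hψg]
        simpa [mul_assoc] using this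
      · refine Or.inr ⟨hPc, ?_⟩
        obtain ⟨h, hh, hq⟩ := hψc
        exact ⟨h, hh, fun t ht => hq t (hrange t ht)⟩
  inv_mem := by
    rintro P φ ⟨hP, hφS, hφi, hφz, hφf, hφ⟩
    let e := MonoidHom.ofInjective hφi
    let ψ : φ.range →* Ω := P.subtype.comp e.symm.toMonoidHom
    have hψ : ∀ p : P, ψ ⟨φ p, ⟨p, rfl⟩⟩ = (p : Ω) := fun p => by
      show ((e.symm _ : P) : Ω) = _
      rw [show (⟨φ p, ⟨p, rfl⟩⟩ : φ.range) = e p from rfl, MulEquiv.symm_apply_apply]
    have hr : φ.range ≤ S := by rintro _ ⟨p, rfl⟩; exact hφS p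
    refine ⟨ψ, ⟨hr, fun r => hP (e.symm r).2, P.subtype_injective.comp e.symm.injective,
      fun r => ?_, ?_, ?_⟩, hψ⟩
    · obtain ⟨_, p, rfl⟩ := r
      rw [hψ]; exact (hφz p).symm
    · intro h hh hRE
      obtain ⟨h0, hh0, hPE⟩ : ∃ h0 ∈ S, ∀ p, p ∈ P ↔ h0⁻¹ * p * h0 ∈ E := by
        refine T.conj_of_card ?_ ((Nat.card_congr e.toEquiv).trans (card_conj hRE))
        rcases hφ with ⟨g, hg, hφg⟩ | ⟨hPc, -⟩
        · refine ⟨g⁻¹ * h, mul_mem (inv_mem hg) hh, fun p hp => ?_⟩
          have := (hRE _).1 ⟨⟨p, hp⟩, rfl⟩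
          rw [hφg] at this
          simpa [mul_assoc] using this
        · exact hPc
      obtain ⟨k, hk, β, hβ, hval⟩ := hφf h0 hh0 hPE
      haveI : Finite E := finite_of_le (Ω := Ω) T.le
      have hnorm : h⁻¹ * k ∈ Subgroup.normalizer (E : Set Ω) := by
        have hle : E.map (MulAut.conj (h⁻¹ * k)).toMonoidHom ≤ E := by
          rintro _ ⟨t, ht, rfl⟩
          have hp0 : h0 * ((β⁻¹ ⟨t, ht⟩ : E) : Ω) * h0⁻¹ ∈ P := (hPE _).2 (by
            have e' : h0⁻¹ * (h0 * ((β⁻¹ ⟨t, ht⟩ : E) : Ω) * h0⁻¹) * h0 =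
                ((β⁻¹ ⟨t, ht⟩ : E) : Ω) := by group
            rw [e']; exact SetLike.coe_mem _)
          have h1 := hval ⟨_, hp0⟩ ((hPE _).1 hp0)
          have e2 : (⟨h0⁻¹ * (h0 * ((β⁻¹ ⟨t, ht⟩ : E) : Ω) * h0⁻¹) * h0, (hPE _).1 hp0⟩ : E) =
              β⁻¹ ⟨t, ht⟩ := Subtype.ext (by group)
          rw [e2, MulAut.apply_inv_self] at h1
          have h2 : k * t * k⁻¹ ∈ φ.range := ⟨⟨_, hp0⟩, h1⟩
          show h⁻¹ * k * t * (h⁻¹ * k)⁻¹ ∈ E
          simpa [mul_assoc] using (hRE _).1 h2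
        have heq := Subgroup.eq_of_le_of_card_ge hle (Nat.card_congr
          (E.equivMapOfInjective _ (MulAut.conj _).injective).toEquiv).le
        rw [Subgroup.mem_normalizer_iff_map_conj_eq]
        exact heq
      set γ := conjAut hnorm with hγ
      have hγA : γ ∈ A := T.induced (conjAut_mem_autInducedBy (mul_mem (inv_mem hh) hk) hnorm)
      refine ⟨h0, hh0, β⁻¹ * γ⁻¹, mul_mem (inv_mem hβ) (inv_mem hγA), ?_⟩
      rintro ⟨_, p, rfl⟩ hp
      rw [hψ]
      have hp' : h0⁻¹ * (p : Ω) * h0 ∈ E := (hPE _).1 p.2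
      have e2 : (⟨h⁻¹ * φ p * h, hp⟩ : E) = γ (β ⟨_, hp'⟩) := Subtype.ext (by
        show h⁻¹ * φ p * h = _
        rw [coe_conjAut, hval p hp']; group)
      rw [show (⟨h⁻¹ * ((⟨φ p, ⟨p, rfl⟩⟩ : φ.range) : Ω) * h, hp⟩ : E) = γ (β ⟨_, hp'⟩) from e2,
        MulAut.mul_apply, MulAut.inv_apply_self, MulAut.inv_apply_self]
      group
    · have hψr : ψ.range = P := by
        ext t
        constructor
        · rintro ⟨r, rfl⟩; exact (e.symm r).2
        · intro ht; exact ⟨⟨φ ⟨t, ht⟩, ⟨_, rfl⟩⟩, hψ ⟨t, ht⟩⟩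
      rcases hφ with ⟨g, hg, hφg⟩ | ⟨hPc, hφc⟩
      · refine Or.inl ⟨g⁻¹, inv_mem hg, ?_⟩
        rintro ⟨_, p, rfl⟩
        rw [hψ]
        show (p : Ω) = g⁻¹ * φ p * g⁻¹⁻¹
        rw [hφg]; group
      · exact Or.inr ⟨hφc, by rw [hψr]; exact hPc⟩

/-- The system generated by `S` and `A`. -/
def genAutSystem : FusionSystem S where
  Hom P := {φ | φ ∈ (T.bigSystem).Hom P ∧ ∀ K : FusionSystem S,
    (∀ β ∈ A, E.subtype.comp β.toMonoidHom ∈ K.Hom E) → φ ∈ K.Hom P}
  le_of_mem := fun h => (T.bigSystem).le_of_mem h.1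
  injective_of_mem := fun h => (T.bigSystem).injective_of_mem h.1
  conj_mem := fun hP hg => ⟨(T.bigSystem).conj_mem hP hg, fun K _ => K.conj_mem hP hg⟩
  comp_mem := fun hφ hψ h =>
    ⟨(T.bigSystem).comp_mem hφ.1 hψ.1 h, fun K hK => K.comp_mem (hφ.2 K hK) (hψ.2 K hK) h⟩
  inv_mem := by
    intro P φ hφ
    obtain ⟨ψ, hψ, hi⟩ := (T.bigSystem).inv_mem hφ.1
    exact ⟨ψ, ⟨hψ, fun K hK => inv_mem' (hφ.2 K hK) rfl fun p _ => hi p⟩, hi⟩

theorem aut_mem {β : MulAut ↥E} (hβ : β ∈ A) :
    E.subtype.comp β.toMonoidHom ∈ (T.genAutSystem).Hom E := by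
  refine ⟨⟨T.le, fun p => T.le (β p).2, E.subtype_injective.comp β.injective, fun p => ?_, ?_,
    Or.inr ⟨⟨1, one_mem _, fun p hp => by simpa using hp⟩, ⟨1, one_mem _, ?_⟩⟩⟩, fun K hK => hK β hβ⟩
  · constructor
    · intro hp
      show ((β p : E) : Ω) = z
      rw [T.fix β hβ p hp, hp]
    · intro hp
      have hp' : ((β p : E) : Ω) = z := hp
      have h1 := T.fix β hβ (β p) hp'
      rw [← β.injective h1]
      exact hp'
  · intro h hh hPE
    have hhN : h ∈ Subgroup.normalizer (E : Set Ω) := by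
      rw [Subgroup.mem_normalizer_iff]
      intro t
      have h1 := hPE (h * t * h⁻¹)
      rw [show h⁻¹ * (h * t * h⁻¹) * h = t by group] at h1
      exact h1.symm
    refine ⟨1, one_mem _, β * conjAut hhN,
      mul_mem hβ (T.induced (conjAut_mem_autInducedBy hh hhN)), fun p hp => ?_⟩
    have e : conjAut hhN ⟨_, hp⟩ = p := Subtype.ext (by rw [coe_conjAut]; group)
    rw [MulAut.mul_apply, e, one_mul, inv_one, mul_one]
    rfl
  · rintro _ ⟨p, rfl⟩
    simp only [inv_one, one_mul, mul_one]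
    exact (β p).2

theorem inner_of_not_inConj {P : Subgroup Ω} {φ : P →* Ω} (hφ : φ ∈ (T.genAutSystem).Hom P)
    (hP : ¬ InConj S E P) : ∃ g ∈ S, ∀ p : P, φ p = g * (p : Ω) * g⁻¹ := by
  rcases hφ.1.2.2.2.2.2 with h | ⟨h, -⟩
  exacts [h, absurd h hP]

/-- A map on `E` onto `E` belongs to `A`. -/
theorem mem_A_of_mem {α : MulAut ↥E} (hα : α ∈ (T.genAutSystem).autGroup E) : α ∈ A := by
  have h := ((mem_autGroup_iff T.le).1 hα).1
  obtain ⟨k, hk, β, hβ, hval⟩ := h.2.2.2.2.1 1 (one_mem _) (fun p => by simp)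
  have hcalc : ∀ p : E, ((α p : E) : Ω) = k * ((β p : E) : Ω) * k⁻¹ := fun p => by
    have := hval p (by simp)
    rwa [show (⟨(1 : Ω)⁻¹ * (p : Ω) * 1, by simp⟩ : E) = p from Subtype.ext (by simp)] at this
  have hk' : ∀ p : E, (((α * β⁻¹) p : E) : Ω) = k * (p : Ω) * k⁻¹ := fun p => by
    rw [MulAut.mul_apply, hcalc, MulAut.apply_inv_self]
  have h2 : α * β⁻¹ ∈ A := T.induced (mem_autInducedBy_iff.2 ⟨k, hk, hk'⟩)
  simpa using mul_mem h2 hβ

/-- Saturation of the generated system. -/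
theorem isSaturated (hS : IsPGroup 2 S) (hcard : Nat.card A = 3 * Nat.card (autInducedBy S E))
    (hmax : ∀ β ∈ A, (∀ γ ∈ autInducedBy S E, β * γ * β⁻¹ ∈ autInducedBy S E) →
      β ∈ autInducedBy S E)
    {g : Ω} (hnorm : ∀ h ∈ S, h ∈ Subgroup.normalizer (E : Set Ω) → h ∈ E ∨ g⁻¹ * h ∈ E)
    (hstar : ∀ Q : Subgroup Ω, Q < E → (T.genAutSystem).IsCentric Q →
      ¬ (autInducedBy S Q ⊓ (pCore 2 ↥((T.genAutSystem).autGroup Q)).map
        ((T.genAutSystem).autGroup Q).subtype ≤ Inn Q)) :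
    (T.genAutSystem).IsSaturated 2 := by
  classical
  haveI : Fact (Nat.Prime 2) := ⟨Nat.prime_two⟩
  haveI : Finite E := finite_of_le (Ω := Ω) T.le
  haveI : Finite (MulAut ↥E) := finite_mulAut (Ω := Ω) T.le
  set F := T.genAutSystem
  set ℋ : Set (Subgroup Ω) :=
    {P | P ≤ S ∧ ((∃ h ∈ S, ∀ p, p ∈ P ↔ h⁻¹ * p * h ∈ E) ∨ ¬ InConj S E P)}
  refine Criterion.isSaturated hS ℋ ?_ ?_ ?_ ?_
  · rintro P ⟨hP, hPc⟩ Q hPQ
    obtain ⟨hPS, hQS⟩ := isConj_le hPQ
    refine ⟨hQS, ?_⟩
    obtain ⟨φ, hφ, rfl⟩ := hPQ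
    rcases hPc with ⟨h, hh, hPE⟩ | hPc
    · left
      obtain ⟨k, hk, β, hβ, hval⟩ := hφ.1.2.2.2.2.1 h hh hPE
      refine T.conj_of_card ⟨k, hk, ?_⟩ ((card_range hφ).trans (card_conj hPE))
      rintro _ ⟨p, rfl⟩
      rw [hval p ((hPE p).1 p.2)]
      have e : k⁻¹ * (k * ((β ⟨_, (hPE p).1 p.2⟩ : E) : Ω) * k⁻¹) * k =
          ((β ⟨_, (hPE p).1 p.2⟩ : E) : Ω) := by group
      rw [e]; exact SetLike.coe_mem _
    · right
      obtain ⟨g', hg', hφg⟩ := T.inner_of_not_inConj hφ hPc
      rintro ⟨h, hh, hq⟩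
      refine hPc ⟨g'⁻¹ * h, mul_mem (inv_mem hg') hh, fun p hp => ?_⟩
      have := hq _ ⟨⟨p, hp⟩, rfl⟩
      rw [hφg] at this
      simpa [mul_assoc] using this
  · rintro P ⟨hP, hPc⟩
    rcases hPc with ⟨h, hh, hPE⟩ | hPc
    · refine ⟨E, ⟨conjHom P h⁻¹, F.conj_mem hP (inv_mem hh), ?_⟩, ⟨T.le, ?_⟩, T.le, ?_⟩
      · ext t
        constructor
        · rintro ⟨p, rfl⟩
          show h⁻¹ * (p : Ω) * h⁻¹⁻¹ ∈ E
          rw [inv_inv]; exact (hPE p).1 p.2
        · intro ht
          have hp : h * t * h⁻¹ ∈ P := (hPE _).2 (by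
            rw [show h⁻¹ * (h * t * h⁻¹) * h = t by group]; exact ht)
          exact ⟨⟨_, hp⟩, by show h⁻¹ * (h * t * h⁻¹) * h⁻¹⁻¹ = t; group⟩
      · -- fully automized
        set P₀ := (autInducedBy S E).subgroupOf (F.autGroup E)
        have hPle : autInducedBy S E ≤ F.autGroup E := autInducedBy_le_autGroup F T.le
        have hp0 : IsPGroup 2 (autInducedBy S E) := by
          rw [← range_normalizerAut S E]
          exact (hS.to_le (normalizerIn_le S E)).of_surjective (normalizerAut S E).rangeRestrict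
            (normalizerAut S E).rangeRestrict_surjective
        have hP₀ : IsPGroup 2 P₀ := hp0.of_equiv (Subgroup.subgroupOfEquivOfLe hPle).symm
        obtain ⟨R, hR⟩ := hP₀.exists_le_sylow
        refine ⟨R, (Subgroup.eq_of_le_of_card_ge hR ?_).symm⟩
        obtain ⟨a, ha⟩ := IsPGroup.iff_card.1 R.2
        have hd : Nat.card (R : Subgroup ↥(F.autGroup E)) ∣ 3 * Nat.card (autInducedBy S E) := by
          rw [← hcard]
          exact (Subgroup.card_subgroup_dvd_card _).trans
            (Subgroup.card_dvd_of_le fun α hα => T.mem_A_of_mem hα)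
        rw [ha] at hd ⊢
        have hd' := Nat.Coprime.dvd_of_dvd_mul_left (Nat.Coprime.pow_left a (by norm_num : Nat.Coprime 2 3)) hd
        rw [Nat.card_congr (Subgroup.subgroupOfEquivOfLe hPle).toEquiv]
        exact Nat.le_of_dvd Nat.card_pos hd'
      · -- receptive
        intro P' φ hφ hr
        have hP' := dom_le hφ
        have hin : ∀ {g' : Ω}, g' ∈ S → (∀ p : P', φ p = g' * (p : Ω) * g'⁻¹) →
            ∃ ψ ∈ F.Hom (extender S P' φ), ∀ (t : Ω) (hP : t ∈ P') (hN : t ∈ extender S P' φ),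
              ψ ⟨t, hN⟩ = φ ⟨t, hP⟩ := fun {g'} hg' hv =>
          ⟨conjHom _ g', F.conj_mem ((extender_le S P' φ).trans (normalizerIn_le S P')) hg',
            fun t hP hN => (hv ⟨t, hP⟩).symm⟩
        obtain ⟨h', hh', hP'E⟩ : ∃ h' ∈ S, ∀ p, p ∈ P' ↔ h'⁻¹ * p * h' ∈ E := by
          refine T.conj_of_card ?_ ((card_range hφ).symm.trans (by rw [hr]))
          rcases hφ.1.2.2.2.2.2 with ⟨g', hg', hv⟩ | ⟨hc, -⟩
          · refine ⟨g'⁻¹, inv_mem hg', fun p hp => ?_⟩
            have : φ ⟨p, hp⟩ ∈ E := hr ▸ ⟨_, rfl⟩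
            rw [hv] at this
            simpa [inv_inv] using this
          · exact hc
        obtain ⟨k, hk, β, hβ, hval⟩ := hφ.1.2.2.2.2.1 h' hh' hP'E
        -- absorb `k`
        have hkN : k ∈ Subgroup.normalizer (E : Set Ω) := by
          have hle : E.map (MulAut.conj k).toMonoidHom ≤ E := by
            rintro _ ⟨t, ht, rfl⟩
            have hp0 : h' * ((β⁻¹ ⟨t, ht⟩ : E) : Ω) * h'⁻¹ ∈ P' := (hP'E _).2 (by
              have e' : h'⁻¹ * (h' * ((β⁻¹ ⟨t, ht⟩ : E) : Ω) * h'⁻¹) * h' =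
                  ((β⁻¹ ⟨t, ht⟩ : E) : Ω) := by group
              rw [e']; exact SetLike.coe_mem _)
            have h1 := hval ⟨_, hp0⟩ ((hP'E _).1 hp0)
            have e2 : (⟨h'⁻¹ * (h' * ((β⁻¹ ⟨t, ht⟩ : E) : Ω) * h'⁻¹) * h', (hP'E _).1 hp0⟩ : E) =
                β⁻¹ ⟨t, ht⟩ := Subtype.ext (by group)
            rw [e2, MulAut.apply_inv_self] at h1
            show k * t * k⁻¹ ∈ E
            exact hr ▸ (⟨⟨_, hp0⟩, h1⟩ : k * t * k⁻¹ ∈ φ.range)
          have heq := Subgroup.eq_of_le_of_card_ge hle (Nat.card_congr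
            (E.equivMapOfInjective _ (MulAut.conj _).injective).toEquiv).le
          rw [Subgroup.mem_normalizer_iff_map_conj_eq]
          exact heq
        set β' := conjAut hkN * β with hβ'
        have hβ'A : β' ∈ A := mul_mem (T.induced (conjAut_mem_autInducedBy hk hkN)) hβ
        have hφv : ∀ (p : P') (hp : h'⁻¹ * (p : Ω) * h' ∈ E), φ p = ((β' ⟨_, hp⟩ : E) : Ω) :=
          fun p hp => by rw [hval p hp]; rfl
        by_cases hβP : β' ∈ autInducedBy S E
        · obtain ⟨m, hm, hmv⟩ := mem_autInducedBy_iff.1 hβP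
          refine hin (g' := m * h'⁻¹) (mul_mem hm (inv_mem hh')) fun p => ?_
          rw [hφv p ((hP'E p).1 p.2), hmv]
          group
        · -- the extender is `P'`
          have hext : extender S P' φ ≤ P' := by
            intro n hn
            obtain ⟨hnS, hnN, m, hm, hrel⟩ := mem_extender_iff.1 hn
            by_contra hnP
            set n0 := h'⁻¹ * n * h'
            have hn0S : n0 ∈ S := mul_mem (mul_mem (inv_mem hh') hnS) hh'
            have hn0N : n0 ∈ Subgroup.normalizer (E : Set Ω) := by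
              rw [Subgroup.mem_normalizer_iff]
              intro t
              have h1 := hP'E (h' * t * h'⁻¹)
              rw [show h'⁻¹ * (h' * t * h'⁻¹) * h' = t by group] at h1
              have h2 := Subgroup.mem_normalizer_iff.1 hnN (h' * t * h'⁻¹)
              rw [← h1, h2, hP'E]
              rw [show h'⁻¹ * (n * (h' * t * h'⁻¹) * n⁻¹) * h' = n0 * t * n0⁻¹ by
                simp only [n0]; group]
            have hn0E : n0 ∉ E := fun h0 => hnP ((hP'E n).2 h0)
            -- the conjugate of the automorphism of `n0` is induced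
            have hc : β' * conjAut hn0N * β'⁻¹ ∈ autInducedBy S E := by
              refine mem_autInducedBy_iff.2 ⟨m, hm, fun t => ?_⟩
              set e := β'⁻¹ t with he
              have hpP : h' * (e : Ω) * h'⁻¹ ∈ P' := (hP'E _).2 (by
                rw [show h'⁻¹ * (h' * (e : Ω) * h'⁻¹) * h' = e by group]; exact e.2)
              have hx : n * (h' * (e : Ω) * h'⁻¹) * n⁻¹ ∈ P' :=
                (Subgroup.mem_normalizer_iff.1 hnN _).1 hpP
              have h1 := hrel ⟨_, hpP⟩ hx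
              rw [hφv _ ((hP'E _).1 hx), hφv _ ((hP'E _).1 hpP)] at h1
              have e1 : (⟨_, (hP'E _).1 hx⟩ : E) = conjAut hn0N e := Subtype.ext (by
                rw [coe_conjAut]; simp only [n0]; group)
              have e2 : (⟨_, (hP'E _).1 hpP⟩ : E) = e := Subtype.ext (by simp only; group)
              rw [e1, e2] at h1
              rw [MulAut.mul_apply, MulAut.mul_apply, ← he, h1, he, MulAut.apply_inv_self]
            refine hβP (hmax β' hβ'A fun γ hγ => ?_)
            have hInn : ∀ u : E, β' * conjAut (Subgroup.le_normalizer u.2) * β'⁻¹ ∈ autInducedBy S E := by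
              intro u
              refine mem_autInducedBy_iff.2 ⟨((β' u : E) : Ω), T.le (β' u).2, fun t => ?_⟩
              have e : conjAut (Subgroup.le_normalizer u.2) (β'⁻¹ t) = u * β'⁻¹ t * u⁻¹ :=
                Subtype.ext (by rw [coe_conjAut]; rfl)
              rw [MulAut.mul_apply, MulAut.mul_apply, e, map_mul, map_mul, map_inv,
                MulAut.apply_inv_self]
              rfl
            obtain ⟨q, hq, hqv⟩ := mem_autInducedBy_iff.1 hγ
            have hqN := mem_normalizer_of_aut hqv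
            have hsplit : q ∈ E ∨ n0⁻¹ * q ∈ E := by
              have hn0' : g⁻¹ * n0 ∈ E := (hnorm n0 hn0S hn0N).resolve_left hn0E
              rcases hnorm q hq hqN with h1 | h1
              · exact Or.inl h1
              · right
                rw [show n0⁻¹ * q = (g⁻¹ * n0)⁻¹ * (g⁻¹ * q) by group]
                exact mul_mem (inv_mem hn0') h1
            rcases hsplit with hu | hu
            · have : γ = conjAut (Subgroup.le_normalizer hu) :=
                MulEquiv.ext fun t => Subtype.ext (by rw [hqv, coe_conjAut])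
              rw [this]; exact hInn ⟨q, hu⟩
            · have : γ = conjAut hn0N * conjAut (Subgroup.le_normalizer hu) :=
                MulEquiv.ext fun t => Subtype.ext (by
                  rw [hqv, MulAut.mul_apply, coe_conjAut, coe_conjAut]; group)
              rw [this, show β' * (conjAut hn0N * conjAut (Subgroup.le_normalizer hu)) * β'⁻¹ =
                (β' * conjAut hn0N * β'⁻¹) * (β' * conjAut (Subgroup.le_normalizer hu) * β'⁻¹) by
                  group]
              exact mul_mem hc (hInn ⟨_, hu⟩)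
          exact ⟨_, restrict_mem hφ hext, fun t hP hN => rfl⟩
    · refine ⟨P, isConj_refl F hP, ⟨hP, ?_⟩, hP, fun P' φ hφ hr => ?_⟩
      · have hle : F.autGroup P ≤ autInducedBy S P := fun α hα => by
          obtain ⟨g', hg', hv⟩ := T.inner_of_not_inConj ((mem_autGroup_iff hP).1 hα) hPc
          exact mem_autInducedBy_iff.2 ⟨g', hg', hv⟩
        have htop : (autInducedBy S P).subgroupOf (F.autGroup P) = ⊤ :=
          Subgroup.subgroupOf_eq_top.2 hle
        have hp0 : IsPGroup 2 (autInducedBy S P) := by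
          rw [← range_normalizerAut S P]
          exact (hS.to_le (normalizerIn_le S P)).of_surjective (normalizerAut S P).rangeRestrict
            (normalizerAut S P).rangeRestrict_surjective
        have hpA : IsPGroup 2 (F.autGroup P) := hp0.to_le hle
        haveI := finite_autGroup (F := F) hP
        obtain ⟨R, hR⟩ := (hpA.to_subgroup (⊤ : Subgroup (F.autGroup P))).exists_le_sylow
        exact ⟨R, by rw [htop]; exact top_le_iff.1 hR⟩
      · have hnc : ¬ InConj S E P' := by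
          intro hc
          rcases hφ.1.2.2.2.2.2 with ⟨g', hg', hv⟩ | ⟨-, hc'⟩
          · obtain ⟨h, hh, hq⟩ := hc
            refine hPc ⟨g' * h, mul_mem hg' hh, fun p hp => ?_⟩
            obtain ⟨p', rfl⟩ := hr.ge hp
            rw [hv]
            simpa [mul_assoc] using hq p' p'.2
          · exact hPc (hr ▸ hc')
        obtain ⟨g', hg', hv⟩ := T.inner_of_not_inConj hφ hnc
        exact ⟨conjHom _ g', F.conj_mem ((extender_le S P' φ).trans (normalizerIn_le S P')) hg',
          fun t hP' hN => (hv ⟨t, hP'⟩).symm⟩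
  · intro K hK P φ hφ
    exact hφ.2 K fun β hβ => hK E ⟨T.le, Or.inl ⟨1, one_mem _, fun p => by simp⟩⟩ (T.aut_mem hβ)
  · intro P hPcen hPH
    have hP : P ≤ S := hPcen.1
    have hc : InConj S E P ∧ ¬ ∃ h ∈ S, ∀ p, p ∈ P ↔ h⁻¹ * p * h ∈ E := by
      refine ⟨?_, fun h => hPH ⟨hP, Or.inl h⟩⟩
      by_contra h
      exact hPH ⟨hP, Or.inr h⟩
    obtain ⟨⟨h, hh, hp⟩, hno⟩ := hc
    refine ⟨(conjHom P h⁻¹).range, ⟨_, F.conj_mem hP (inv_mem hh), rfl⟩, hstar _ ?_ ?_⟩
    · refine lt_of_le_of_ne ?_ fun e => hno ?_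
      · rintro _ ⟨p, rfl⟩
        show h⁻¹ * (p : Ω) * h⁻¹⁻¹ ∈ E
        rw [inv_inv]; exact hp p p.2
      · refine T.conj_of_card ⟨h, hh, hp⟩ ?_
        rw [← card_range (F.conj_mem hP (inv_mem hh)), e]
    · have hconj : F.IsConj P (conjHom P h⁻¹).range := ⟨_, F.conj_mem hP (inv_mem hh), rfl⟩
      exact ⟨(isConj_le hconj).2, fun Q hQ => hPcen.2 Q (isConj_trans hconj hQ)⟩

end AutData

namespace Setup

variable {S : Subgroup Ω} {x y w g : Ω} (D : Setup S x y w g)
include D

theorem fix_z {β : MulAut ↥(setE x y w)} (hβ : β ∈ setA x y w) (e : ↥(setE x y w))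
    (he : (e : Ω) = x * x) : β e = e := by
  by_cases h1 : x * x = 1
  · have : e = 1 := Subtype.ext (he.trans h1)
    rw [this, map_one]
  · obtain ⟨hx1, -, -, -, -⟩ := D.ne_one
    have hxz : x ≠ x * x := fun e' => hx1 (mul_eq_left.1 e'.symm)
    obtain ⟨r, hr, hra⟩ := D.image_cases hβ (e := ⟨x, x_mem⟩) (Subgroup.subset_closure (by simp))
      hx1 hxz
    have hrS : r ∈ S := by
      rcases hr with rfl | rfl | rfl
      exacts [D.xS, D.yS, mul_mem D.xS D.yS]
    have hr2 : r * r = x * x := by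
      rcases hr with rfl | rfl | rfl
      · rfl
      · exact D.rel.yy
      · calc (x * y) * (x * y) = x * (y * x * y⁻¹) * (y * y) := by group
          _ = _ := by rw [D.rel.yx, D.rel.yy]; group
    have hx2 : e = ⟨x, x_mem⟩ * ⟨x, x_mem⟩ := Subtype.ext he
    refine Subtype.ext ?_
    rw [hx2, map_mul, Subgroup.coe_mul, ← hx2, he]
    rcases hra with e' | e' <;> rw [e']
    · exact hr2
    · calc r * (x * x) * (r * (x * x)) = r * ((x * x) * r) * (x * x) := by group
        _ = r * (r * (x * x)) * (x * x) := by rw [(D.zc r hrS).eq]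
        _ = r * r * ((x * x) * (x * x)) := by group
        _ = x * x := by rw [hr2, D.rel.x4, mul_one]

theorem autData : AutData S (setE x y w) (setA x y w) (x * x) where
  le := D.E_le
  induced := D.induced_le
  central := D.zc
  fix := fun _ hβ e he => D.fix_z hβ e he

theorem star [Finite S] {F : FusionSystem S}
    (hfix : ∀ (P : Subgroup Ω) (φ : P →* Ω), φ ∈ F.Hom P → ∀ p : P, (p : Ω) = x * x → φ p = x * x)
    {Q : Subgroup Ω} (hQE : Q < setE x y w) (hS : IsPGroup 2 S) (hQ : F.IsCentric Q) :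
    ¬ (autInducedBy S Q ⊓ (pCore 2 ↥(F.autGroup Q)).map (F.autGroup Q).subtype ≤ Inn Q) := by
  classical
  haveI : Fact (Nat.Prime 2) := ⟨Nat.prime_two⟩
  have hQS : Q ≤ S := hQ.1
  haveI : Finite Q := finite_of_le (Ω := Ω) hQS
  haveI : Finite (MulAut Q) := finite_mulAut (Ω := Ω) hQS
  have hC : ∀ h ∈ S, (∀ q ∈ Q, q * h = h * q) → h ∈ Q := fun h hh hc =>
    hQ.2 Q (isConj_refl F hQS) ⟨hh, Subgroup.mem_centralizer_iff.2 hc⟩
  set z := x * x with hz
  have hwQ : w ∈ Q := hC w D.wS fun q hq => (D.center_w (hQE.le hq)).eq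
  have hzQ : z ∈ Q := hC z (mul_mem D.xS D.xS) fun q hq => (D.zc q (hQS hq)).eq
  obtain ⟨hx1, hy1, -, -, -⟩ := D.ne_one
  have hz1 : z ≠ 1 := by
    intro hz1
    -- `E` is abelian
    have hyx : Commute y x := by
      have h := mul_inv_eq_iff_eq_mul.1 D.rel.yx
      rw [inv_eq_of_mul_eq_one_right hz1] at h
      exact h
    have habE : ∀ e ∈ setE x y w, ∀ q ∈ setE x y w, q * e = e * q := by
      have hgen : ∀ e ∈ setE x y w, Commute e x ∧ Commute e y := by
        intro e he
        obtain ⟨i, j, k, rfl⟩ := D.rel.mem_closure_iff.1 he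
        exact ⟨(((Commute.refl x).zpow_left i).mul_left (hyx.zpow_left j)).mul_left
            (D.rel.wx.zpow_left k),
          ((hyx.symm.zpow_left i).mul_left ((Commute.refl y).zpow_left j)).mul_left
            (D.rel.wy.zpow_left k)⟩
      intro e he q hq
      obtain ⟨i, j, k, rfl⟩ := D.rel.mem_closure_iff.1 he
      exact ((((hgen q hq).1).zpow_right i).mul_right ((hgen q hq).2.zpow_right j)).mul_right
        ((D.center_w hq).zpow_right k)
    exact hQE.not_ge fun e he => hC e (D.E_le he) fun q hq => habE e he q (hQE.le hq)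
  have hzz : z * z = 1 := D.rel.x4
  have hmod : ∀ i j k : ℤ, x ^ i * y ^ j * w ^ k ∈ Q → ∃ r m n : Ω,
      (r = 1 ∨ r = x ∨ r = y ∨ r = x * y) ∧ r ∈ Q ∧ m ∈ Subgroup.zpowers z ∧
        n ∈ Subgroup.zpowers w ∧ x ^ i * y ^ j * w ^ k = r * m * n := by
    intro i j k h
    have hq : x ^ i * y ^ j ∈ setQ x y :=
      mul_mem (zpow_mem (Subgroup.subset_closure (by simp)) i)
        (zpow_mem (Subgroup.subset_closure (by simp)) j)
    obtain ⟨r, hr, e⟩ := D.Q_cases hq
    have hqQ : x ^ i * y ^ j ∈ Q := by simpa using mul_mem h (inv_mem (zpow_mem hwQ k))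
    rcases e with e | e
    · exact ⟨r, 1, w ^ k, hr, e ▸ hqQ, one_mem _, ⟨k, rfl⟩, by rw [e, mul_one]⟩
    · refine ⟨r, z, w ^ k, hr, ?_, Subgroup.mem_zpowers z, ⟨k, rfl⟩, by rw [e]⟩
      have h2 := mul_mem (e ▸ hqQ : r * z ∈ Q) hzQ
      rwa [mul_assoc, hzz, mul_one] at h2
  have hnotboth : ¬ (x ∈ Q ∧ y ∈ Q) := fun h => hQE.not_ge (by
    rw [setE, Subgroup.closure_le]
    rintro t (rfl | rfl | rfl)
    exacts [h.1, h.2, hwQ])
  -- one class
  obtain ⟨q₀, hq₀, hq₀Q⟩ : ∃ q₀, (q₀ = x ∨ q₀ = y ∨ q₀ = x * y) ∧ q₀ ∈ Q := by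
    by_contra hno
    push Not at hno
    refine hno x (Or.inl rfl) (hC x D.xS fun q hq => ?_)
    obtain ⟨i, j, k, rfl⟩ := D.rel.mem_closure_iff.1 (hQE.le hq)
    obtain ⟨r, m, n, hr, hrQ, hm, hn, e⟩ := hmod i j k hq
    rcases hr with rfl | hr
    · obtain ⟨a, rfl⟩ := hm
      obtain ⟨b, rfl⟩ := hn
      rw [e, one_mul]
      exact (((D.zc x D.xS).zpow_right a).mul_right (D.rel.wx.symm.zpow_right b)).eq.symm
    · exact absurd hrQ (hno r hr)
  have hq₀S : q₀ ∈ S := hQS hq₀Q
  have hq₀w : Commute w q₀ := by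
    rcases hq₀ with rfl | rfl | rfl
    exacts [D.rel.wx, D.rel.wy, D.rel.wx.mul_right D.rel.wy]
  have hq₀2 : q₀ * q₀ = z := by
    rcases hq₀ with rfl | rfl | rfl
    · rfl
    · exact D.rel.yy
    · calc (x * y) * (x * y) = x * (y * x * y⁻¹) * (y * y) := by group
        _ = _ := by rw [D.rel.yx, D.rel.yy, hz]; group
  have hgenQ : Q = Subgroup.closure ({q₀, w} : Set Ω) := by
    refine le_antisymm (fun q hq => ?_) ?_
    · obtain ⟨i, j, k, rfl⟩ := D.rel.mem_closure_iff.1 (hQE.le hq)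
      obtain ⟨r, m, n, hr, hrQ, ⟨a, rfl⟩, ⟨b, rfl⟩, e⟩ := hmod i j k hq
      have hq' : q₀ ∈ Subgroup.closure ({q₀, w} : Set Ω) := Subgroup.subset_closure (by simp)
      have hz' : z ∈ Subgroup.closure ({q₀, w} : Set Ω) := hq₀2 ▸ mul_mem hq' hq'
      have hw' : w ∈ Subgroup.closure ({q₀, w} : Set Ω) := Subgroup.subset_closure (by simp)
      rw [e]
      refine mul_mem (mul_mem ?_ (zpow_mem hz' a)) (zpow_mem hw' b)
      by_cases hrq : r = q₀
      · rw [hrq]; exact hq'
      rcases hr with rfl | hr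
      · exact one_mem _
      exfalso
      apply hnotboth
      rcases hr with rfl | rfl | rfl <;> rcases hq₀ with rfl | rfl | rfl
      all_goals first
        | exact absurd rfl hrq
        | exact ⟨hrQ, hq₀Q⟩
        | exact ⟨hq₀Q, hrQ⟩
        | exact ⟨hrQ, by simpa using mul_mem (inv_mem hrQ) hq₀Q⟩
        | exact ⟨hq₀Q, by simpa using mul_mem (inv_mem hq₀Q) hrQ⟩
        | exact ⟨by simpa using mul_mem hrQ (inv_mem hq₀Q), hq₀Q⟩
        | exact ⟨by simpa using mul_mem hq₀Q (inv_mem hrQ), hrQ⟩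
    · rw [Subgroup.closure_le]
      rintro t (rfl | rfl)
      exacts [hq₀Q, hwQ]
  have habQ : ∀ a b : Q, a * b = b * a := by
    have hgen : ∀ a ∈ Q, Commute a q₀ ∧ Commute a w := by
      intro a ha
      rw [hgenQ] at ha
      induction ha using Subgroup.closure_induction with
      | mem t ht => rcases ht with rfl | rfl; exacts [⟨Commute.refl _, hq₀w.symm⟩, ⟨hq₀w, Commute.refl _⟩]
      | one => exact ⟨Commute.one_left _, Commute.one_left _⟩
      | mul p q _ _ hp hq => exact ⟨hp.1.mul_left hq.1, hp.2.mul_left hq.2⟩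
      | inv p _ hp => exact ⟨hp.1.inv_left, hp.2.inv_left⟩
    rintro ⟨a, ha⟩ ⟨b, hb⟩
    refine Subtype.ext ?_
    show a * b = b * a
    have hb' := hgenQ.le hb
    induction hb' using Subgroup.closure_induction with
    | mem t ht => rcases ht with rfl | rfl; exacts [(hgen a ha).1.eq, (hgen a ha).2.eq]
    | one => simp
    | mul p q hp hq ihp ihq =>
      exact (Commute.mul_right (ihp (hgenQ.ge hp)) (ihq (hgenQ.ge hq))).eq
    | inv p hp ihp => exact (Commute.inv_right (ihp (hgenQ.ge hp))).eq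
  have hQm : Cfsg.IsMetacyclic ↥(⊤ : Subgroup Q) :=
    isMetacyclic_subgroup (isMetacyclic_of_comm habQ (top_of_gen2 ⟨q₀, w, hgenQ.symm⟩)) ⊤
  have hQp : IsPGroup 2 Q := hS.to_le hQS
  set Z : Q := ⟨z, hzQ⟩
  have hZ1 : Z ≠ 1 := fun e => hz1 (congrArg Subtype.val e)
  -- the automiser is a 2-group
  have hA2 : IsPGroup 2 (F.autGroup Q) := by
    haveI := finite_autGroup (F := F) hQS
    refine isPGroup_of_coprime_orderOf_eq_one fun β hβ => Subtype.ext ?_
    have hodd : Odd (orderOf (β : MulAut Q)) := by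
      rw [Subgroup.orderOf_coe]
      exact Nat.coprime_two_right.1 hβ
    have hβz : (β : MulAut Q) Z = Z :=
      Subtype.ext (hfix Q _ ((mem_autGroup_iff hQS).1 β.2) Z rfl)
    refine eq_one_of_fix_involutions hQp habQ hodd fun t ht => ?_
    by_cases ht1 : t = 1
    · rw [ht1, map_one]
    by_cases htz : t = Z
    · rw [htz, hβz]
    have hbt : (β : MulAut Q) t * (β : MulAut Q) t = 1 := by rw [← map_mul, ht, map_one]
    have hZ2 : Z * Z = 1 := Subtype.ext hzz
    rcases four_mem hQm (Subgroup.mem_top Z) (Subgroup.mem_top t)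
        (Subgroup.mem_top ((β : MulAut Q) t)) hZ2 ht hbt (habQ Z t) (habQ Z _) (habQ t _) hZ1 ht1
        (Ne.symm htz) with h | h | h | h
    · exact absurd ((β : MulAut Q).map_eq_one_iff.1 h) ht1
    · exact absurd ((β : MulAut Q).injective (h.trans hβz.symm)) htz
    · exact h
    · have h2 : ((β : MulAut Q) ^ 2) t = t := by
        rw [pow_two, MulAut.mul_apply, h, map_mul, hβz, h, ← mul_assoc, hZ2, one_mul]
      obtain ⟨m, hm⟩ := hodd
      have h3 : ∀ n : ℕ, ((β : MulAut Q) ^ (2 * n)) t = t := by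
        intro n
        induction n with
        | zero => rfl
        | succ n ih => rw [mul_add, mul_one, pow_add, MulAut.mul_apply, h2, ih]
      have h4 : ((β : MulAut Q) ^ orderOf (β : MulAut Q)) t = t := by rw [pow_orderOf_eq_one]; rfl
      rw [hm, pow_succ', MulAut.mul_apply, h3] at h4
      exact h4
  have hcore : pCore 2 ↥(F.autGroup Q) = ⊤ :=
    top_le_iff.1 (Cfsg.Agent.PCore.le_pCore (hA2.to_subgroup ⊤))
  obtain ⟨n, hn, hnQ⟩ := SetLike.exists_of_lt hQE
  have hnN : n ∈ Subgroup.normalizer (Q : Set Ω) := by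
    have hconj : ∀ q ∈ Q, n * q * n⁻¹ ∈ Q := by
      intro q hq
      rw [hgenQ] at hq
      induction hq using Subgroup.closure_induction with
      | mem t ht =>
        rcases ht with h | h <;> (replace h : t = _ := h; subst t)
        · -- `n q₀ n⁻¹` is `q₀` or `q₀ z`
          obtain ⟨i, j, k, rfl⟩ := D.rel.mem_closure_iff.1 hn
          have key : ∀ u : Ω, (u = x ∨ u = y ∨ u = w) →
              u * q₀ * u⁻¹ = q₀ ∨ u * q₀ * u⁻¹ = q₀ * z := by
            have hxy : x * y * x⁻¹ = y * z := by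
              rw [D.rel.xyx]
              exact inv_eq_of_mul_eq_one_right (by rw [← mul_assoc, D.rel.yy, hzz])
            have hyx : y * x * y⁻¹ = x * z := by
              rw [D.rel.yx]
              exact inv_eq_of_mul_eq_one_right (by rw [← mul_assoc, hzz])
            rintro u (rfl | rfl | rfl) <;> rcases hq₀ with h0 | h0 | h0 <;> rw [h0]
            · left; group
            · exact Or.inr hxy
            · right
              calc u * (u * y) * u⁻¹ = u * (u * y * u⁻¹) := by group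
                _ = _ := by rw [hxy, ← mul_assoc]
            · exact Or.inr hyx
            · left; group
            · right
              calc u * (x * u) * u⁻¹ = (u * x * u⁻¹) * u := by group
                _ = x * (z * u) := by rw [hyx]; group
                _ = x * (u * z) := by rw [(D.zc u D.yS).eq]
                _ = _ := by group
            · left; rw [D.rel.wx.eq, mul_inv_cancel_right]
            · left; rw [D.rel.wy.eq, mul_inv_cancel_right]
            · left; rw [(D.rel.wx.mul_right D.rel.wy).eq, mul_inv_cancel_right]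
          let Kn : Subgroup Ω :=
            Subgroup.normalizer (Subgroup.closure ({q₀, w} : Set Ω) : Set Ω)
          haveI : Finite ↥(Subgroup.closure ({q₀, w} : Set Ω)) := by rw [← hgenQ]; infer_instance
          have hgenmem : ∀ u, (u = x ∨ u = y ∨ u = w) → u ∈ Kn := by
            intro u hu
            have huw : Commute u w := by
              rcases hu with rfl | rfl | rfl
              exacts [D.rel.wx.symm, D.rel.wy.symm, Commute.refl _]
            have hmap : (Subgroup.closure ({q₀, w} : Set Ω)).map (MulAut.conj u).toMonoidHom ≤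
                Subgroup.closure ({q₀, w} : Set Ω) := by
              rw [MonoidHom.map_closure, Subgroup.closure_le]
              rintro _ ⟨t, ht, rfl⟩
              have hq' : q₀ ∈ Subgroup.closure ({q₀, w} : Set Ω) := Subgroup.subset_closure (by simp)
              rcases ht with ht | ht <;> show u * t * u⁻¹ ∈ _
              · rw [show t = q₀ from ht]
                rcases key u hu with e | e <;> rw [e]
                exacts [hq', mul_mem hq' (hq₀2 ▸ mul_mem hq' hq')]
              · rw [show t = w from ht, huw.eq, mul_inv_cancel_right]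
                exact Subgroup.subset_closure (by simp)
            exact Subgroup.mem_normalizer_iff_map_conj_eq.2 (Subgroup.eq_of_le_of_card_ge hmap
              (Nat.card_congr ((Subgroup.closure ({q₀, w} : Set Ω)).equivMapOfInjective _
                (MulAut.conj u).injective).toEquiv).le)
          have hnK : x ^ i * y ^ j * w ^ k ∈ Kn :=
            mul_mem (mul_mem (zpow_mem (hgenmem x (Or.inl rfl)) i)
              (zpow_mem (hgenmem y (Or.inr (Or.inl rfl))) j))
              (zpow_mem (hgenmem w (Or.inr (Or.inr rfl))) k)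
          rw [hgenQ]
          exact (Subgroup.mem_normalizer_iff.1 hnK q₀).1 (Subgroup.subset_closure (by simp))
        · rw [(D.center_w hn).eq, mul_inv_cancel_right]
          exact hwQ
      | one => simp
      | mul p q _ _ hp hq =>
        rw [show n * (p * q) * n⁻¹ = (n * p * n⁻¹) * (n * q * n⁻¹) by group]; exact mul_mem hp hq
      | inv p _ hp => rw [← conj_inv]; exact inv_mem hp
    exact Subgroup.mem_normalizer_iff_map_conj_eq.2 (Subgroup.eq_of_le_of_card_ge
      (by rintro _ ⟨t, ht, rfl⟩; exact hconj t ht)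
      (Nat.card_congr (Q.equivMapOfInjective _ (MulAut.conj n).injective).toEquiv).le)
  intro hle
  have hnS : n ∈ S := D.E_le hn
  have hmem : conjAut hnN ∈ Inn Q := by
    refine hle ⟨conjAut_mem_autInducedBy hnS hnN, ?_⟩
    refine ⟨⟨conjAut hnN, autInducedBy_le_autGroup F hQS (conjAut_mem_autInducedBy hnS hnN)⟩, ?_, rfl⟩
    show _ ∈ pCore 2 ↥(F.autGroup Q)
    rw [hcore]; exact Subgroup.mem_top _
  obtain ⟨r, hr⟩ := hmem
  refine hnQ (hC n hnS fun q hq => ?_)
  have h1 := DFunLike.congr_fun hr ⟨q, hq⟩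
  rw [MulAut.conj_apply, habQ r ⟨q, hq⟩, mul_inv_cancel_right] at h1
  have h2 := congrArg Subtype.val h1
  rw [coe_conjAut] at h2
  exact (eq_mul_inv_iff_mul_eq.1 h2)

/-- The system exists. -/
theorem exists_noninner [Finite S] (hS : IsPGroup 2 S) :
    ∃ F : FusionSystem S, F.IsSaturated 2 ∧
      ¬ ∀ P : Subgroup Ω, F.Hom P = (innerFusionSystem S).Hom P := by
  classical
  haveI : Fact (Nat.Prime 2) := ⟨Nat.prime_two⟩
  haveI : Finite ↥(setE x y w) := finite_of_le (Ω := Ω) D.E_le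
  haveI : Finite (MulAut ↥(setE x y w)) := finite_mulAut (Ω := Ω) D.E_le
  set E := setE x y w
  set A := setA x y w
  set P := autInducedBy S E
  obtain ⟨hcard, hPp, α, hα, hαP, hαn⟩ := D.automiser hS
  have T := D.autData
  refine ⟨T.genAutSystem, T.isSaturated hS hcard ?_ (g := g) D.norm
    (fun Q hQ hc => D.star (fun R φ hφ p hp => (hφ.1.2.2.2.1 p).1 hp) hQ hS hc), fun hall => ?_⟩
  · intro β hβ hconj
    by_contra hβP
    -- the normaliser of `P` in `A` would be `A`
    set N := A ⊓ Subgroup.normalizer (P : Set (MulAut E))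
    have hPN : P ≤ N := le_inf D.induced_le Subgroup.le_normalizer
    have hβN : β ∈ N := by
      refine ⟨hβ, ?_⟩
      show β ∈ Subgroup.normalizer _
      rw [Subgroup.mem_normalizer_iff_map_conj_eq]
      refine Subgroup.eq_of_le_of_card_ge ?_
        (Nat.card_congr (P.equivMapOfInjective _ (MulAut.conj β).injective).toEquiv).le
      rintro _ ⟨γ, hγ, rfl⟩
      exact hconj γ hγ
    have hd1 : Nat.card N ∣ Nat.card A := Subgroup.card_dvd_of_le inf_le_left
    have hd2 : Nat.card P ∣ Nat.card N := Subgroup.card_dvd_of_le hPN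
    have hlt : Nat.card P < Nat.card N :=
      Set.Finite.card_lt_card (Set.toFinite _) (SetLike.coe_ssubset_coe.2
        (lt_of_le_of_ne hPN fun e => hβP (by have h' := hβN; rw [← e] at h'; exact h')))
    obtain ⟨d, hd⟩ := hd2
    rw [hd, hcard, mul_comm 3 (Nat.card P)] at hd1
    have hd3 := Nat.dvd_of_mul_dvd_mul_left Nat.card_pos hd1
    have : d = 3 := by
      rcases (Nat.dvd_prime Nat.prime_three).1 hd3 with h | h
      · rw [h, mul_one] at hd; omega
      · exact h
    have hNA : N = A := by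
      refine Subgroup.eq_of_le_of_card_ge inf_le_left ?_
      rw [hd, this, hcard, mul_comm]
    refine hαn fun γ hγ => ?_
    have hαN : α ∈ N := hNA ▸ hα
    exact (Subgroup.mem_normalizer_iff.1 hαN.2 γ).1 hγ
  · have h := T.aut_mem hα
    rw [hall E] at h
    obtain ⟨-, k, hk, hv⟩ := h
    exact hαP (mem_autInducedBy_iff.2 ⟨k, hk, hv⟩)

end Setup

end Cfsg.Agent.Bicyclic2
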